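import Cfsg.Agent.H624.MajTwo

/-!
# The contribution matrices of a major subsection of a 2-block

`exists_proj`: they satisfy the hypotheses of `MajTwo.Proj`.
-/

set_option autoImplicit false

open Cfsg
open scoped ComplexConjugate

namespace Cfsg.Agent.H624.MajTwo

open Cfsg.Agent.Blocks.Local Cfsg.Agent.Blocks.Blau Cfsg.Agent.Characters
open Cfsg.Agent.H613.RegGram Cfsg.Agent.H613.Contrib Cfsg.Agent.H613.ContribVal
open Cfsg.Agent.H624.TTwo Cfsg.Agent.H624.MajVal

variable {G : Type*} [Group G] {M : Ideal AlgInt}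

/-- Coordinates of the contributions. -/
theorem exists_contr_coords [Finite G] {H : Subgroup G} [Fintype H] [Fintype (IrrCharacter H)]
    {z : G} {k : ℕ} {n : IrrCharacter G → IrrCharacter H → ℕ} {e : IrrCharacter H → ℂ}
    {b : Set (IrrCharacter H)} [Fintype b] {ζ : ℂ} (hM : IsPModular 2 M)
    (hE : Exp z H (2 ^ (k + 1)) n e) (hb : IsPBlock M b) (hζ : IsPrimitiveRoot ζ (2 ^ (k + 1)))
    (hcent : ∀ m : ℕ, H = Subgroup.centralizer ({z ^ (2 * m + 1)} : Set G))
    (χ ψ : IrrCharacter G) :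
    ∃ a : ℕ → ℤ, ∀ m : ℕ, (2 : ℂ) ^ blockDefect 2 b *
      contr 2 (z ^ (2 * m + 1)) b (χ : G → ℂ) (ψ : G → ℂ) = valA ζ (2 ^ k) a (2 * m + 1) := by
  classical
  have hK : ∀ x : b × b, ∃ K : ℤ, (2 : ℂ) ^ blockDefect 2 b *
      rg 2 ((x.1 : IrrCharacter H) : H → ℂ) ((x.2 : IrrCharacter H) : H → ℂ) = K := by
    intro x
    obtain ⟨K, hK⟩ := exists_int_rg (p := 2) hM x.1.2 (x.2 : IrrCharacter H)
    exact ⟨K, by exact_mod_cast hK⟩
  choose K hK using hK
  obtain ⟨a, ha⟩ := exists_coords hζ (Finset.univ : Finset (b × b))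
    (fun x => (n χ x.1 : ℤ) * (n ψ x.2 : ℤ) * K x) (fun x => e x.1 * conj (e x.2)) (by
      intro x _
      rw [mul_pow, hE.root, one_mul, ← map_pow, hE.root, map_one])
  refine ⟨a, fun m => ?_⟩
  rw [← ha m, contr_eq_sum hM hE hb χ ψ (hcent m), Finset.mul_sum, Fintype.sum_prod_type]
  refine Finset.sum_congr rfl fun ξ _ => ?_
  rw [Finset.mul_sum]
  refine Finset.sum_congr rfl fun η _ => ?_
  have h1 := hK (ξ, η)
  simp only at h1
  push_cast
  rw [← h1]
  ring

/-- The family of contribution matrices. -/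
theorem exists_proj [Finite G] (hM : IsPModular 2 M) {B : Set (IrrCharacter G)}
    (hB : IsPBlock M B) {D : Subgroup G} (hD : IsDefectGroup 2 M B D) {z : G} (hzD : z ∈ D)
    (hzc : ∀ d ∈ D, d * z = z * d) {H : Subgroup G} (hH : H = Subgroup.centralizer ({z} : Set G))
    {b : Set (IrrCharacter H)} (hb : IsInducedBlock M H b B)
    (hbD : IsDefectGroup 2 M b (D.subgroupOf H)) [Fintype B] :
    ∃ (ζ : ℂ) (k : ℕ) (P : ℕ → B → B → ℂ) (a : B → B → ℕ → ℤ),
      IsPrimitiveRoot ζ (2 ^ (k + 1)) ∧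
      Proj M ζ k (blockDefect 2 B) (fun χ : B => blockHeight 2 B ((χ : IrrCharacter G) : G → ℂ))
        P a (blockRank 2 b) := by
  classical
  have : Fact (Nat.Prime 2) := ⟨Nat.prime_two⟩
  have := isPrime_of_isPModular hM
  have := Fintype.ofFinite G
  have := Fintype.ofFinite H
  have := Core.finite_irr (G := H)
  have := Fintype.ofFinite (IrrCharacter H)
  have : Fintype b := Fintype.ofFinite b
  -- `z` is a 2-element
  obtain ⟨k₀, hk₀⟩ := (Cfsg.Agent.Blocks.Basic.isPGroup_of_isDefectGroup hD) ⟨z, hzD⟩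
  have hz0 : z ^ 2 ^ k₀ = 1 := by
    have := congrArg Subtype.val hk₀
    simpa using this
  set k := k₀ with hk
  have hz : z ^ 2 ^ (k + 1) = 1 := by rw [pow_succ, pow_mul, hz0, one_pow]
  have hord : ∀ {v : G}, v ^ 2 ^ (k + 1) = 1 → ∃ i : ℕ, orderOf v = 2 ^ i := by
    intro v hv
    obtain ⟨i, -, hi⟩ := (Nat.dvd_prime_pow Nat.prime_two).1 (orderOf_dvd_of_pow_eq_one hv)
    exact ⟨i, hi⟩
  have hzm : ∀ m : ℕ, (z ^ (2 * m + 1)) ^ 2 ^ (k + 1) = 1 := by
    intro m
    rw [← pow_mul, mul_comm, pow_mul, hz, one_pow]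
  have hcent : ∀ m : ℕ, H = Subgroup.centralizer ({z ^ (2 * m + 1)} : Set G) := by
    intro m
    rw [hH]
    refine (Cfsg.Agent.Blocks.GaloisConj.centralizer_pow_eq hz ?_).symm
    refine Nat.Coprime.pow_right _ ?_
    simp
  have hζ : IsPrimitiveRoot (Complex.exp (2 * Real.pi * Complex.I / ((2 ^ (k + 1) : ℕ) : ℂ)))
      (2 ^ (k + 1)) := Complex.isPrimitiveRoot_exp _ (by positivity)
  set ζ := Complex.exp (2 * Real.pi * Complex.I / ((2 ^ (k + 1) : ℕ) : ℂ)) with hζdef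
  obtain ⟨n, e, hE⟩ := exists_exp hH hz
  have hd : blockDefect 2 b = blockDefect 2 B := by
    have h1 := Cfsg.Agent.S0908.result 2 M hM b hb.1 _ hbD
    have h2 := Cfsg.Agent.S0908.result 2 M hM B hB D hD
    have hle : D ≤ H := by
      intro w hw
      rw [hH, Subgroup.mem_centralizer_singleton_iff]
      exact hzc w hw
    have h3 : Nat.card (D.subgroupOf H) = Nat.card D :=
      Nat.card_congr (Subgroup.subgroupOfEquivOfLe hle).toEquiv
    rw [h1, h2] at h3
    exact Nat.pow_right_injective le_rfl h3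
  choose a ha using fun (χ ψ : B) => exists_contr_coords hM hE hb.1 hζ hcent
    (χ : IrrCharacter G) (ψ : IrrCharacter G)
  refine ⟨ζ, k, fun m χ ψ => (2 : ℂ) ^ blockDefect 2 B *
    contr 2 (z ^ (2 * m + 1)) b ((χ : IrrCharacter G) : G → ℂ) ((ψ : IrrCharacter G) : G → ℂ),
    a, hζ, ?_⟩
  refine ⟨?_, ?_, ?_, ?_, ?_, ?_, ?_⟩
  · intro m χ ψ
    rw [← ha χ ψ m, hd]
  · intro m χ ψ
    rw [map_mul, conj_contr, map_pow, Complex.conj_ofNat]
  · intro m χ χ'
    have h1 := sum_contr_mul_contr hM (hord (hzm m)) (hcent m) hb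
      (χ := ((χ : IrrCharacter G) : G → ℂ)) (χ' := ((χ' : IrrCharacter G) : G → ℂ))
      (Core.isIrr_isClassFunction (χ : IrrCharacter G).2)
    rw [← h1, Finset.mul_sum, Finset.mul_sum]
    exact Finset.sum_congr rfl fun ψ _ => by ring
  · intro m
    rw [← Finset.mul_sum, sum_contr_self hM (hord (hzm m)) (hcent m) hb]
    push_cast
    rfl
  · intro χ ψ _
    have h1 := memLocalRing_contr_div hM hE (hord hz) hb hd (ψ := (ψ : IrrCharacter G)) χ.2
      (hcent 0)
    exact_mod_cast h1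
  · intro χ ψ hψ
    have h1 := not_memLocalIdeal_contr_div hM hE (hord hz) hb hd χ.2 ψ.2 hψ (hcent 0)
    exact_mod_cast h1
  · intro χ hχ
    have h1 := memLocalIdeal_contr_self_div hM hE (hord hz) hb hd χ.2 hχ (hcent 0)
    exact_mod_cast h1

end Cfsg.Agent.H624.MajTwo
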