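import Cfsg.Agent.H613.ContribVal
import Cfsg.Agent.Blocks.ClassSum
import Cfsg.Agent.OddOrderCharacters.InducedNormal
import Cfsg.Agent.CharactersDeep.IndFun
import Cfsg.Agent.Blocks.PPart

/-!
# Valuations of the contributions of major subsections

`b` a block of `H = C_G(u)`, `u` a `p`-element, inducing the block `B` of `G`.

* `memLocalIdeal_card_mul_contr_sub`: `|G| contr χ ψ / χ 1` modulo the local ideal does not depend on
  `χ ∈ B`.
* `not_memLocalIdeal_contr_div`: if `b` and `B` have the same defect `d`, `ψ` has height zero and `χ` has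
  height `h` then `p ^ d contr χ ψ / p ^ h` is a local unit.
* `memLocalIdeal_contr_self_div`: for `χ` of height `h > 0`, `p ^ d contr χ χ / p ^ h` is in the local
  ideal.
-/

set_option autoImplicit false

open Cfsg
open scoped ComplexConjugate

namespace Cfsg.Agent.H624.MajVal

open Cfsg.Agent.Blocks.Local Cfsg.Agent.Blocks.Blau Cfsg.Agent.Characters
open Cfsg.Agent.H613.RegGram Cfsg.Agent.H613.Contrib Cfsg.Agent.H613.ContribVal

variable {G : Type*} [Group G] {p : ℕ} [Fact p.Prime] {M : Ideal AlgInt}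

section ind

variable {H : Subgroup G} {v : G}

/-- A class function of `H = C(v)` supported on the elements with `p`-part `v`: the induced function
takes the same values. -/
theorem indFun_apply_of_section [Fintype G] (hH : H = Subgroup.centralizer ({v} : Set G))
    {θ : H → ℂ} (hθ : IsClassFunction H θ)
    (hsupp : ∀ c : H, θ c ≠ 0 → IsPPart p (c : G) v) (g : G) :
    indFun H θ g = 0 ∨ ∃ c : H, indFun H θ g = θ c := by
  classical
  have hfin : Fintype H := Fintype.ofFinite _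
  by_cases hall : ∀ x : G, extendByZero H θ (x⁻¹ * g * x) = 0
  · left
    rw [Core.indFun_apply, Finset.sum_eq_zero (fun x _ => hall x), mul_zero]
  · right
    push Not at hall
    obtain ⟨x₀, hx₀⟩ := hall
    have hmem : x₀⁻¹ * g * x₀ ∈ H := by
      by_contra h
      exact hx₀ (Core.extendByZero_of_notMem _ _ h)
    refine ⟨⟨x₀⁻¹ * g * x₀, hmem⟩, ?_⟩
    rw [Core.extendByZero_of_mem _ _ hmem] at hx₀
    set c : H := ⟨x₀⁻¹ * g * x₀, hmem⟩ with hc
    have hpc := hsupp c hx₀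
    have h1 : indFun H θ g = indFun H θ (c : G) := by
      have := (Cfsg.Agent.CharactersDeep.IndFun.isClassFunction_indFun H θ) g x₀⁻¹
      rw [← this]
      congr 1
      rw [hc, inv_inv]
    rw [h1, Core.indFun_apply]
    have h2 : ∀ x : G, extendByZero H θ (x⁻¹ * (c : G) * x) = if x ∈ H then θ c else 0 := by
      intro x
      by_cases hx : x ∈ H
      · rw [if_pos hx]
        have hm : x⁻¹ * (c : G) * x ∈ H := H.mul_mem (H.mul_mem (H.inv_mem hx) c.2) hx
        rw [Core.extendByZero_of_mem _ _ hm]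
        have := hθ c ⟨x⁻¹, H.inv_mem hx⟩
        rw [← this]
        congr 1
        apply Subtype.ext
        show x⁻¹ * (c : G) * x = x⁻¹ * (c : G) * (x⁻¹)⁻¹
        rw [inv_inv]
      · rw [if_neg hx]
        by_contra hne
        have hm : x⁻¹ * (c : G) * x ∈ H := by
          by_contra h
          exact hne (Core.extendByZero_of_notMem _ _ h)
        rw [Core.extendByZero_of_mem _ _ hm] at hne
        have h3 := hsupp _ hne
        have h4 : x⁻¹ ∈ Subgroup.centralizer ({v} : Set G) :=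
          Cfsg.Agent.Blocks.PPart.mem_centralizer_of_conj hpc h3 (by rw [inv_inv])
        rw [← hH] at h4
        exact hx (by simpa using H.inv_mem h4)
    rw [Finset.sum_congr rfl (fun x _ => h2 x), Finset.sum_ite, Finset.sum_const_zero, add_zero,
      Finset.sum_const, nsmul_eq_mul, ← mul_assoc]
    have h5 : (Finset.univ.filter (fun x : G => x ∈ H)).card = Nat.card H := by
      rw [Nat.card_eq_fintype_card, Fintype.card_subtype]
    rw [h5, inv_mul_cancel₀, one_mul]
    exact_mod_cast Nat.card_pos.ne'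

end ind

section indep

variable [Fintype G] {u : G} {H : Subgroup G} [Fintype H] [Fintype (IrrCharacter H)]
  {n : IrrCharacter G → IrrCharacter H → ℕ} {e : IrrCharacter H → ℂ} {j : ℕ}
  {b : Set (IrrCharacter H)} [Fintype b] {B : Set (IrrCharacter G)}

/-- The section function of `ψ`, without the conjugation. -/
noncomputable def secf (p : ℕ) (n : IrrCharacter G → IrrCharacter H → ℕ) (e : IrrCharacter H → ℂ)
    (b : Set (IrrCharacter H)) [Fintype b] (k : ℕ) (ψ : IrrCharacter G) (y : H) : ℂ :=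
  ∑ ξ : b, (n ψ ξ : ℂ) * e ξ ^ k * regPart p (ξ : H → ℂ) y

theorem secf_def (p : ℕ) (n : IrrCharacter G → IrrCharacter H → ℕ) (e : IrrCharacter H → ℂ)
    (b : Set (IrrCharacter H)) [Fintype b] (k : ℕ) (ψ : IrrCharacter G) (y : H) :
    secf p n e b k ψ y = ∑ ξ : b, (n ψ ξ : ℂ) * e ξ ^ k * regPart p (ξ : H → ℂ) y := rfl

theorem secf_of_dvd {k : ℕ} (ψ : IrrCharacter G) {y : H} (hy : p ∣ orderOf y) :
    secf p n e b k ψ y = 0 := by
  rw [secf_def]
  exact Finset.sum_eq_zero fun ξ _ => by rw [regPart_of_dvd hy, mul_zero]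

theorem isClassFunction_secf (k : ℕ) (ψ : IrrCharacter G) :
    IsClassFunction H (secf p n e b k ψ) := by
  intro g h
  rw [secf_def, secf_def]
  refine Finset.sum_congr rfl fun ξ _ => ?_
  rw [regPart_isClassFunction (Core.isIrr_isClassFunction ξ.1.2) g h]

theorem isIntegral_secf (hM : IsPModular p M) (hE : Exp u H (p ^ j) n e) (k : ℕ)
    (ψ : IrrCharacter G) (y : H) : IsIntegral ℤ (secf p n e b k ψ y) := by
  rw [secf_def]
  refine IsIntegral.sum _ fun ξ _ => ?_
  have h1 : IsIntegral ℤ ((n ψ ξ : ℕ) : ℂ) := by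
    have := isIntegral_algebraMap (R := ℤ) (A := ℂ) (x := ((n ψ ξ : ℕ) : ℤ))
    simpa using this
  have h2 : IsIntegral ℤ (e ξ) := by
    refine IsIntegral.of_pow (pow_pos hM.1.pos j) ?_
    rw [hE.root]
    exact isIntegral_one
  have h3 : IsIntegral ℤ (regPart p (ξ : H → ℂ) y) := by
    unfold regPart
    split
    · exact isIntegral_zero
    · exact isIntegral_of_isCharacter (Core.isIrr_isCharacter ξ.1.2) y
  exact (h1.mul (h2.pow k)).mul h3

/-- The contribution as a sum over the elements of `H`. -/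
theorem card_mul_contr_eq (hM : IsPModular p M) (hE : Exp u H (p ^ j) n e) (hb : IsPBlock M b)
    {χ : G → ℂ} (hχ : IsClassFunction G χ) (ψ : IrrCharacter G) {k : ℕ}
    (hk : H = Subgroup.centralizer ({u ^ k} : Set G)) :
    (Nat.card H : ℂ) * contr p (u ^ k) b χ (ψ : G → ℂ) =
      ∑ y : H, conj (secf p n e b k ψ y) * χ (u ^ k * (y : G)) := by
  rw [contr_eq_sum_wt hM hE hb hχ ψ hk, Finset.mul_sum]
  have hH : (Nat.card H : ℂ) ≠ 0 := by exact_mod_cast Nat.card_pos.ne'
  have h1 : ∀ ξ : b, (Nat.card H : ℂ) * ((n ψ ξ : ℂ) * conj (e ξ ^ k) *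
      wt p (u ^ k) χ (ξ : H → ℂ)) =
      ∑ y : H, conj ((n ψ ξ : ℂ) * e ξ ^ k * regPart p (ξ : H → ℂ) y) * χ (u ^ k * (y : G)) := by
    intro ξ
    rw [wt_def, rg_def, pair_def, Finset.mul_sum, Finset.mul_sum, Finset.mul_sum]
    refine Finset.sum_congr rfl fun y _ => ?_
    rw [map_mul, map_mul, Complex.conj_natCast]
    by_cases hy : p ∣ orderOf y
    · rw [regPart_of_dvd hy, regPart_of_dvd hy]
      simp
    · rw [regPart_of_not_dvd hy, regPart_of_not_dvd hy]
      field_simp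
  rw [Finset.sum_congr rfl (fun ξ _ => h1 ξ), Finset.sum_comm]
  refine Finset.sum_congr rfl fun y _ => ?_
  rw [secf_def, map_sum, Finset.sum_mul]

omit [Fintype (IrrCharacter H)] in
/-- The function on `H` supported on the section of `v = u ^ k`. -/
theorem exists_section (hM : IsPModular p M) {v : G} (hv : ∃ i : ℕ, orderOf v = p ^ i)
    (hH : H = Subgroup.centralizer ({v} : Set G)) {s : H → ℂ} (hs : IsClassFunction H s)
    (hs0 : ∀ y : H, p ∣ orderOf y → s y = 0) (hsint : ∀ y, IsIntegral ℤ (s y)) :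
    ∃ F : G → ℂ, IsClassFunction G F ∧ (∀ g, IsIntegral ℤ (F g)) ∧
      ∀ χ : G → ℂ, IsClassFunction G χ →
        ∑ g : G, F g * χ g = (Nat.card H : ℂ)⁻¹ * (Nat.card G : ℂ) *
          ∑ y : H, s y * χ (v * (y : G)) := by
  have hvH : v ∈ H := by
    rw [hH, Subgroup.mem_centralizer_singleton_iff]
  let vH : H := ⟨v, hvH⟩
  have hcomm : ∀ c : H, vH * c = c * vH := by
    intro c
    apply Subtype.ext
    have := Subgroup.mem_centralizer_singleton_iff.1 (hH ▸ c.2 : (c : G) ∈ Subgroup.centralizer ({v} : Set G))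
    exact this.symm
  let θ : H → ℂ := fun c => s (vH⁻¹ * c)
  have hθ : IsClassFunction H θ := by
    intro g h
    show s (vH⁻¹ * (h * g * h⁻¹)) = s (vH⁻¹ * g)
    rw [← hs (vH⁻¹ * g) h]
    congr 1
    have h1 : vH⁻¹ * h = h * vH⁻¹ := by
      have := hcomm h
      rw [inv_mul_eq_iff_eq_mul, ← mul_assoc, this, mul_assoc, mul_inv_cancel, mul_one]
    rw [← mul_assoc, ← mul_assoc, ← mul_assoc, h1]
  have hsupp : ∀ c : H, θ c ≠ 0 → IsPPart p (c : G) v := by
    intro c hc
    have h1 : ¬ p ∣ orderOf (vH⁻¹ * c) := fun h => hc (hs0 _ h)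
    refine ⟨((vH⁻¹ * c : H) : G), ?_, ?_, hv, ?_⟩
    · show v * (v⁻¹ * (c : G)) = c
      rw [mul_inv_cancel_left]
    · exact congrArg Subtype.val (hcomm (vH⁻¹ * c))
    · rwa [Subgroup.orderOf_coe]
  refine ⟨indFun H θ, Cfsg.Agent.CharactersDeep.IndFun.isClassFunction_indFun H θ, fun g => ?_,
    fun χ hχ => ?_⟩
  · rcases indFun_apply_of_section hH hθ hsupp g with h | ⟨c, h⟩
    · rw [h]; exact isIntegral_zero
    · rw [h]; exact hsint _
  · rw [Cfsg.Agent.OddOrderCharacters.InducedNormal.sum_indFun_mul H θ χ hχ,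
      Nat.card_eq_fintype_card (α := G)]
    congr 1
    rw [← Equiv.sum_comp (Equiv.mulLeft vH)]
    refine Finset.sum_congr rfl fun y _ => ?_
    show s (vH⁻¹ * (vH * y)) * χ ((vH * y : H) : G) = _
    rw [inv_mul_cancel_left]
    rfl

/-- `|G| contr χ ψ / χ 1` modulo the local ideal does not depend on `χ` in its block. -/
theorem memLocalIdeal_card_mul_contr_sub (hM : IsPModular p M) (hE : Exp u H (p ^ j) n e)
    (hu : ∃ i : ℕ, orderOf u = p ^ i) (hb : IsPBlock M b) {χ χ' : IrrCharacter G}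
    (h : SameBlock M (χ : G → ℂ) (χ' : G → ℂ)) (ψ : IrrCharacter G) {k : ℕ}
    (hk : H = Subgroup.centralizer ({u ^ k} : Set G)) :
    MemLocalIdeal M ((Nat.card G : ℂ) * contr p (u ^ k) b (χ : G → ℂ) (ψ : G → ℂ) / (χ : G → ℂ) 1 -
      (Nat.card G : ℂ) * contr p (u ^ k) b (χ' : G → ℂ) (ψ : G → ℂ) / (χ' : G → ℂ) 1) := by
  have := isPrime_of_isPModular hM
  have hv : ∃ i : ℕ, orderOf (u ^ k) = p ^ i := by
    obtain ⟨i, hi⟩ := hu
    have : orderOf (u ^ k) ∣ p ^ i := by rw [← hi]; exact orderOf_pow_dvd k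
    obtain ⟨i', -, hi'⟩ := (Nat.dvd_prime_pow hM.1).1 this
    exact ⟨i', hi'⟩
  obtain ⟨F, hF, hFint, hFsum⟩ := exists_section (p := p) hM hv hk
    (s := fun y => conj (secf p n e b k ψ y)) (fun g h => by
      show conj _ = conj _
      rw [isClassFunction_secf k ψ g h]) (fun y hy => by
      show conj _ = _
      rw [secf_of_dvd ψ hy, map_zero]) (fun y => isIntegral_conj (isIntegral_secf hM hE k ψ y))
  have hH : (Nat.card H : ℂ) ≠ 0 := by exact_mod_cast Nat.card_pos.ne'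
  have key : ∀ χ : IrrCharacter G, ∑ g : G, F g * ((χ : G → ℂ) g / (χ : G → ℂ) 1) =
      (Nat.card G : ℂ) * contr p (u ^ k) b (χ : G → ℂ) (ψ : G → ℂ) / (χ : G → ℂ) 1 := by
    intro χ
    have h1 := hFsum _ (Core.isIrr_isClassFunction χ.2)
    rw [← card_mul_contr_eq hM hE hb (Core.isIrr_isClassFunction χ.2) ψ hk] at h1
    have h2 : ∑ g : G, F g * ((χ : G → ℂ) g / (χ : G → ℂ) 1) =
        (∑ g : G, F g * (χ : G → ℂ) g) / (χ : G → ℂ) 1 := by
      rw [Finset.sum_div]
      exact Finset.sum_congr rfl fun g _ => by rw [mul_div_assoc]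
    rw [h2, h1]
    congr 1
    field_simp
  rw [← key χ, ← key χ']
  exact Cfsg.Agent.Blocks.ClassSum.memLocalIdeal_of_sameBlock (Core.isIrr_isClassFunction χ.2)
    (Core.isIrr_isClassFunction χ'.2) h hF fun g => memLocalRing_of_isIntegral (hFint g)

end indep

section major

variable [Fintype G] {u : G} {H : Subgroup G} [Fintype H] [Fintype (IrrCharacter H)]
  {n : IrrCharacter G → IrrCharacter H → ℕ} {e : IrrCharacter H → ℂ} {j : ℕ}
  {b : Set (IrrCharacter H)} [Fintype b] {B : Set (IrrCharacter G)}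

omit [Fact p.Prime] in
/-- `p ^ d χ(1) / (|G| p ^ h)` is a local unit. -/
theorem unit_factor (hM : IsPModular p M) {χ : IrrCharacter G} (hχ : χ ∈ B) :
    MemLocalRing M ((p : ℂ) ^ blockDefect p B * (χ : G → ℂ) 1 /
      ((Nat.card G : ℂ) * (p : ℂ) ^ blockHeight p B (χ : G → ℂ))) ∧
    ¬ MemLocalIdeal M ((p : ℂ) ^ blockDefect p B * (χ : G → ℂ) 1 /
      ((Nat.card G : ℂ) * (p : ℂ) ^ blockHeight p B (χ : G → ℂ))) := by
  have := isPrime_of_isPModular hM
  have hp := hM.1
  have h1 : (p : ℂ) ^ blockDefect p B * (χ : G → ℂ) 1 =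
      ((p ^ blockDefect p B * charDegree (χ : G → ℂ) : ℕ) : ℂ) := by
    rw [apply_one_eq_charDegree]
    push_cast
    ring
  have h2 : (Nat.card G : ℂ) * (p : ℂ) ^ blockHeight p B (χ : G → ℂ) =
      ((Nat.card G * p ^ blockHeight p B (χ : G → ℂ) : ℕ) : ℂ) := by
    push_cast
    ring
  have hn1 : p ^ blockDefect p B * charDegree (χ : G → ℂ) ≠ 0 :=
    mul_ne_zero (pow_ne_zero _ hp.ne_zero) (charDegree_ne_zero χ)
  have hn2 : Nat.card G * p ^ blockHeight p B (χ : G → ℂ) ≠ 0 :=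
    mul_ne_zero Nat.card_pos.ne' (pow_ne_zero _ hp.ne_zero)
  have hfac : (p ^ blockDefect p B * charDegree (χ : G → ℂ)).factorization p =
      (Nat.card G * p ^ blockHeight p B (χ : G → ℂ)).factorization p := by
    rw [Nat.factorization_mul (pow_ne_zero _ hp.ne_zero) (charDegree_ne_zero χ),
      Nat.factorization_mul Nat.card_pos.ne' (pow_ne_zero _ hp.ne_zero),
      Nat.factorization_pow, Nat.factorization_pow]
    simp only [Finsupp.add_apply, Finsupp.smul_apply, smul_eq_mul, hp.factorization_self, mul_one]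
    exact defect_add_eq_add hχ
  rw [h1, h2]
  refine ⟨memLocalRing_natCast_div hM hn2 hfac.ge, fun h => ?_⟩
  have h3 := memLocalIdeal_mul_right h (memLocalRing_natCast_div hM hn1 hfac.le)
  have h4 : ((p ^ blockDefect p B * charDegree (χ : G → ℂ) : ℕ) : ℂ) /
      ((Nat.card G * p ^ blockHeight p B (χ : G → ℂ) : ℕ) : ℂ) *
      (((Nat.card G * p ^ blockHeight p B (χ : G → ℂ) : ℕ) : ℂ) /
      ((p ^ blockDefect p B * charDegree (χ : G → ℂ) : ℕ) : ℂ)) = 1 := by
    have e1 : ((p ^ blockDefect p B * charDegree (χ : G → ℂ) : ℕ) : ℂ) ≠ 0 := by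
      exact_mod_cast hn1
    have e2 : ((Nat.card G * p ^ blockHeight p B (χ : G → ℂ) : ℕ) : ℂ) ≠ 0 := by
      exact_mod_cast hn2
    field_simp
  rw [h4] at h3
  exact not_memLocalIdeal_one h3

omit [Fact p.Prime] [Fintype (IrrCharacter H)] in
theorem contr_div_eq (hM : IsPModular p M) (χ : IrrCharacter G) (v : G) (ψ : G → ℂ) :
    (p : ℂ) ^ blockDefect p B * contr p v b (χ : G → ℂ) ψ / (p : ℂ) ^ blockHeight p B (χ : G → ℂ) =
      ((p : ℂ) ^ blockDefect p B * (χ : G → ℂ) 1 /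
        ((Nat.card G : ℂ) * (p : ℂ) ^ blockHeight p B (χ : G → ℂ))) *
      ((Nat.card G : ℂ) * contr p v b (χ : G → ℂ) ψ / (χ : G → ℂ) 1) := by
  have hp0 : (p : ℂ) ≠ 0 := by exact_mod_cast hM.1.ne_zero
  have hG : (Nat.card G : ℂ) ≠ 0 := by exact_mod_cast Nat.card_pos.ne'
  have hχ1 := apply_one_ne_zero χ
  field_simp

/-- `p ^ d * contr χ ψ` is a local integer. -/
theorem memLocalRing_pow_mul_contr (hM : IsPModular p M) (hE : Exp u H (p ^ j) n e)
    (hb : IsPBlock M b) (χ ψ : IrrCharacter G) {k : ℕ}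
    (hk : H = Subgroup.centralizer ({u ^ k} : Set G)) :
    MemLocalRing M ((p : ℂ) ^ blockDefect p b * contr p (u ^ k) b (χ : G → ℂ) (ψ : G → ℂ)) := by
  have := isPrime_of_isPModular hM
  obtain ⟨ξ₀, hξ₀, hξ₀0⟩ := exists_blockHeight_eq_zero p (isPBlock_nonempty hM hb)
  rw [memLocalRing_iff_of_sub (memLocalIdeal_contr_sub hM hE hb hξ₀ hξ₀0 χ ψ hk)]
  exact memLocalRing_mul (memLocalRing_mul
    (memLocalRing_pow_mul_rg hM hξ₀ (Core.isIrr_isCharacter ξ₀.2)) (memLocalRing_dg hM hξ₀0 χ))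
    (memLocalRing_dg hM hξ₀0 ψ)

/-- `p ^ d * contr χ ψ` is symmetric modulo the local ideal. -/
theorem memLocalIdeal_contr_symm_sub (hM : IsPModular p M) (hE : Exp u H (p ^ j) n e)
    (hb : IsPBlock M b) (χ ψ : IrrCharacter G) {k : ℕ}
    (hk : H = Subgroup.centralizer ({u ^ k} : Set G)) :
    MemLocalIdeal M ((p : ℂ) ^ blockDefect p b * contr p (u ^ k) b (χ : G → ℂ) (ψ : G → ℂ) -
      (p : ℂ) ^ blockDefect p b * contr p (u ^ k) b (ψ : G → ℂ) (χ : G → ℂ)) := by
  have := isPrime_of_isPModular hM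
  obtain ⟨ξ₀, hξ₀, hξ₀0⟩ := exists_blockHeight_eq_zero p (isPBlock_nonempty hM hb)
  have h1 := memLocalIdeal_contr_sub hM hE hb hξ₀ hξ₀0 χ ψ hk
  have h2 := memLocalIdeal_contr_sub hM hE hb hξ₀ hξ₀0 ψ χ hk
  have h3 := memLocalIdeal_sub h1 h2
  convert h3 using 1
  ring

/-- For `ψ` of height zero in `B`, `χ ∈ B`: `p ^ d contr χ ψ / p ^ (ht χ)` is a local integer. -/
theorem memLocalRing_contr_div (hM : IsPModular p M) (hE : Exp u H (p ^ j) n e)
    (hu : ∃ i : ℕ, orderOf u = p ^ i)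
    (hind : IsInducedBlock M H b B) (hd : blockDefect p b = blockDefect p B)
    {χ ψ : IrrCharacter G} (hχ : χ ∈ B) {k : ℕ}
    (hk : H = Subgroup.centralizer ({u ^ k} : Set G)) :
    MemLocalRing M ((p : ℂ) ^ blockDefect p B * contr p (u ^ k) b (χ : G → ℂ) (ψ : G → ℂ) /
      (p : ℂ) ^ blockHeight p B (χ : G → ℂ)) := by
  have := isPrime_of_isPModular hM
  obtain ⟨χ₀, hχ₀, hχ₀0⟩ := exists_blockHeight_eq_zero p (isPBlock_nonempty hM hind.2.1)
  rw [contr_div_eq hM]
  refine memLocalRing_mul (unit_factor hM hχ).1 ?_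
  rw [memLocalRing_iff_of_sub (memLocalIdeal_card_mul_contr_sub hM hE hu hind.1
    (sameBlock_of_mem hM hind.2.1 hχ hχ₀) ψ hk)]
  have h1 := memLocalRing_pow_mul_contr hM hE hind.1 χ₀ ψ hk
  rw [hd] at h1
  have h2 := memLocalRing_mul (memLocalRing_card_div_defect hM hχ₀ hχ₀0) h1
  have hp0 : (p : ℂ) ≠ 0 := by exact_mod_cast hM.1.ne_zero
  have hχ1 := apply_one_ne_zero χ₀
  convert h2 using 1
  field_simp

/-- For `ψ` of height zero in `B`, `χ ∈ B`: `p ^ d contr χ ψ / p ^ (ht χ)` is a local unit. -/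
theorem not_memLocalIdeal_contr_div (hM : IsPModular p M) (hE : Exp u H (p ^ j) n e)
    (hu : ∃ i : ℕ, orderOf u = p ^ i)
    (hind : IsInducedBlock M H b B) (hd : blockDefect p b = blockDefect p B)
    {χ ψ : IrrCharacter G} (hχ : χ ∈ B) (hψ : ψ ∈ B)
    (hψ0 : blockHeight p B (ψ : G → ℂ) = 0) {k : ℕ}
    (hk : H = Subgroup.centralizer ({u ^ k} : Set G)) :
    ¬ MemLocalIdeal M ((p : ℂ) ^ blockDefect p B * contr p (u ^ k) b (χ : G → ℂ) (ψ : G → ℂ) /
      (p : ℂ) ^ blockHeight p B (χ : G → ℂ)) := by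
  have := isPrime_of_isPModular hM
  rw [contr_div_eq hM]
  have hsub := memLocalIdeal_card_mul_contr_sub hM hE hu hind.1
    (sameBlock_of_mem hM hind.2.1 hχ hψ) ψ hk
  have hp0 : (p : ℂ) ≠ 0 := by exact_mod_cast hM.1.ne_zero
  have hψ1 := apply_one_ne_zero ψ
  have hG : (Nat.card G : ℂ) ≠ 0 := by exact_mod_cast Nat.card_pos.ne'
  have hunit := not_memLocalIdeal_contr hM hE hind hψ hψ hψ0 hψ0 hk
  rw [hd] at hunit
  have hring : MemLocalRing M
      ((Nat.card G : ℂ) * contr p (u ^ k) b (ψ : G → ℂ) (ψ : G → ℂ) / (ψ : G → ℂ) 1) := by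
    have h1 := memLocalRing_pow_mul_contr hM hE hind.1 ψ ψ hk
    rw [hd] at h1
    have h2 := memLocalRing_mul (memLocalRing_card_div_defect hM hψ hψ0) h1
    convert h2 using 1
    field_simp
  have hnot : ¬ MemLocalIdeal M
      ((Nat.card G : ℂ) * contr p (u ^ k) b (ψ : G → ℂ) (ψ : G → ℂ) / (ψ : G → ℂ) 1) := by
    intro h
    apply hunit
    have h2 := memLocalIdeal_mul_left (memLocalRing_defect_mul_div hM hψ) h
    convert h2 using 1
    field_simp
  intro h
  rcases memLocalIdeal_or_of_mul (unit_factor hM hχ).1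
    ((memLocalRing_iff_of_sub hsub).2 hring) h with h1 | h1
  · exact (unit_factor hM hχ).2 h1
  · exact hnot ((memLocalIdeal_iff_of_sub hsub).1 h1)

/-- For `χ ∈ B` of positive height `h`, `p ^ d contr χ χ / p ^ h` is in the local ideal. -/
theorem memLocalIdeal_contr_self_div (hM : IsPModular p M) (hE : Exp u H (p ^ j) n e)
    (hu : ∃ i : ℕ, orderOf u = p ^ i)
    (hind : IsInducedBlock M H b B) (hd : blockDefect p b = blockDefect p B)
    {χ : IrrCharacter G} (hχ : χ ∈ B) (hχ0 : blockHeight p B (χ : G → ℂ) ≠ 0) {k : ℕ}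
    (hk : H = Subgroup.centralizer ({u ^ k} : Set G)) :
    MemLocalIdeal M ((p : ℂ) ^ blockDefect p B * contr p (u ^ k) b (χ : G → ℂ) (χ : G → ℂ) /
      (p : ℂ) ^ blockHeight p B (χ : G → ℂ)) := by
  have := isPrime_of_isPModular hM
  obtain ⟨χ₀, hχ₀, hχ₀0⟩ := exists_blockHeight_eq_zero p (isPBlock_nonempty hM hind.2.1)
  have hp0 : (p : ℂ) ≠ 0 := by exact_mod_cast hM.1.ne_zero
  have hχ1 := apply_one_ne_zero χ₀
  have h1 : MemLocalIdeal M
      ((p : ℂ) ^ blockDefect p B * contr p (u ^ k) b (χ : G → ℂ) (χ₀ : G → ℂ)) := by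
    have h2 := memLocalRing_contr_div hM hE hu hind hd (ψ := χ₀) hχ hk
    have h3 := memLocalIdeal_mul_left h2 (memLocalIdeal_pow (memLocalIdeal_p hM) hχ0)
    convert h3 using 1
    field_simp
  have h2 : MemLocalIdeal M
      ((p : ℂ) ^ blockDefect p B * contr p (u ^ k) b (χ₀ : G → ℂ) (χ : G → ℂ)) := by
    have h3 := memLocalIdeal_contr_symm_sub hM hE hind.1 χ₀ χ hk
    rw [hd] at h3
    exact (memLocalIdeal_iff_of_sub h3).2 h1
  rw [contr_div_eq hM]
  refine memLocalIdeal_mul_left (unit_factor hM hχ).1 ?_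
  rw [memLocalIdeal_iff_of_sub (memLocalIdeal_card_mul_contr_sub hM hE hu hind.1
    (sameBlock_of_mem hM hind.2.1 hχ hχ₀) χ hk)]
  have h3 := memLocalIdeal_mul_left (memLocalRing_card_div_defect hM hχ₀ hχ₀0) h2
  convert h3 using 1
  field_simp

end major

end Cfsg.Agent.H624.MajVal
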