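import Cfsg.Agent.H624.InvCount
import Cfsg.Agent.H639.Sec
import Cfsg.Agent.H648.Dict
import Cfsg.Agent.S0145
import Cfsg.Agent.Blocks.ClassSum

/-!
# Products of two involutions in a 2-section

`z` an involution, `x` of order `2 ^ (m + 1)`.  The number of pairs in `z^G` with product `x y`, `y` in
`C_G(x)` of odd order, is divisible by `2 ^ m`; this gives a divisibility of
`∑ χ ∈ B, χ(z)^2 / χ(1) * wt 2 x χ θ`.
-/

set_option autoImplicit false

open Cfsg
open scoped ComplexConjugate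

namespace Cfsg.Agent.H624.InvCount

open Cfsg.Agent.Blocks Cfsg.Agent.Blocks.Local
open Cfsg.Agent.H613.RegGram Cfsg.Agent.H613.Contrib

section count

variable {G : Type*} [Group G] [Finite G]

/-- `⟨x⟩` acts with orbits of length divisible by `2 ^ m` on a set of elements inverting `x`. -/
theorem pow_dvd_card {x : G} {m : ℕ} (hx : orderOf x = 2 ^ (m + 1)) (P : G → Prop)
    (hP : ∀ t, P t → P (x * t * x⁻¹)) (hinv : ∀ t, P t → t * x * t⁻¹ = x⁻¹) :
    2 ^ m ∣ Nat.card {t // P t} := by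
  classical
  have hPn : ∀ (n : ℕ) t, P t → P (x ^ n * t * (x ^ n)⁻¹) := by
    intro n
    induction n with
    | zero => intro t ht; simpa using ht
    | succ n ih =>
      intro t ht
      have := hP _ (ih t ht)
      have e : x ^ (n + 1) * t * (x ^ (n + 1))⁻¹ = x * (x ^ n * t * (x ^ n)⁻¹) * x⁻¹ := by
        rw [pow_succ']; group
      rwa [e]
  have hPz : ∀ (u : Subgroup.zpowers x) t, P t → P ((u : G) * t * (u : G)⁻¹) := by
    intro u t ht
    obtain ⟨n, hn⟩ : ∃ n : ℕ, x ^ n = (u : G) := by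
      have := u.2
      rw [← mem_powers_iff_mem_zpowers] at this
      exact this
    rw [← hn]
    exact hPn n t ht
  let _act : MulAction (Subgroup.zpowers x) {t // P t} :=
    { smul := fun u t => ⟨(u : G) * t * (u : G)⁻¹, hPz u t t.2⟩
      one_smul := fun t => Subtype.ext (by
        show ((1 : Subgroup.zpowers x) : G) * t * ((1 : Subgroup.zpowers x) : G)⁻¹ = t
        simp)
      mul_smul := fun u v t => Subtype.ext (by
        show ((u * v : Subgroup.zpowers x) : G) * t * ((u * v : Subgroup.zpowers x) : G)⁻¹ =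
          (u : G) * ((v : G) * t * (v : G)⁻¹) * (u : G)⁻¹
        rw [Subgroup.coe_mul]; group) }
  have : Fintype {t // P t} := Fintype.ofFinite _
  have : Fintype (Subgroup.zpowers x) := Fintype.ofFinite _
  have : Fintype (Quotient (MulAction.orbitRel (Subgroup.zpowers x) {t // P t})) :=
    Fintype.ofFinite _
  have : ∀ t : {t // P t}, Fintype (MulAction.stabilizer (Subgroup.zpowers x) t) :=
    fun t => Fintype.ofFinite _
  rw [Nat.card_eq_fintype_card,
    MulAction.card_eq_sum_card_group_div_card_stabilizer (Subgroup.zpowers x) {t // P t}]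
  refine Finset.dvd_sum fun ω _ => ?_
  set t := Quotient.out ω with ht
  have h1 : Fintype.card (Subgroup.zpowers x) = 2 ^ (m + 1) := by
    rw [← Nat.card_eq_fintype_card, Nat.card_zpowers, hx]
  -- the stabilizer consists of elements of order at most two
  have h2 : ∀ u ∈ MulAction.stabilizer (Subgroup.zpowers x) t, u ^ 2 = 1 := by
    intro u hu
    rw [MulAction.mem_stabilizer_iff] at hu
    have h3 : (u : G) * t * (u : G)⁻¹ = t := congrArg Subtype.val hu
    have h4 : (t : G) * x * (t : G)⁻¹ = x⁻¹ := hinv t t.2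
    obtain ⟨n, hn⟩ : ∃ n : ℕ, x ^ n = (u : G) := by
      have := u.2
      rw [← mem_powers_iff_mem_zpowers] at this
      exact this
    have h5 : (t : G) * (u : G) * (t : G)⁻¹ = (u : G)⁻¹ := by
      rw [← hn, ← conj_pow, h4, inv_pow]
    have h6 : (t : G) * (u : G) * (t : G)⁻¹ = (u : G) := by
      have : (u : G) * t = t * u := by
        calc (u : G) * t = (u : G) * t * (u : G)⁻¹ * u := by group
          _ = t * u := by rw [h3]
      rw [← this, mul_inv_cancel_right]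
    apply Subtype.ext
    rw [Subgroup.coe_pow, Subgroup.coe_one, sq]
    nth_rewrite 1 [← h6]
    rw [h5, inv_mul_cancel]
  have h3 : Nat.card (MulAction.stabilizer (Subgroup.zpowers x) t) ∣ 2 := by
    rw [← IsCyclic.exponent_eq_card]
    refine Monoid.exponent_dvd_of_forall_pow_eq_one fun u => ?_
    exact Subtype.ext (by simpa using h2 u u.2)
  rw [Nat.card_eq_fintype_card] at h3
  obtain ⟨c, hc⟩ := h3
  have h4 : 0 < Fintype.card (MulAction.stabilizer (Subgroup.zpowers x) t) := Fintype.card_pos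
  rw [h1, pow_succ]
  refine ⟨c, ?_⟩
  have h5 : 2 ^ m * 2 = Fintype.card (MulAction.stabilizer (Subgroup.zpowers x) t) * (2 ^ m * c) := by
    rw [hc]; ring
  rw [h5, Nat.mul_div_cancel_left _ h4]

end count

section div

variable {G : Type*} [Group G] [Fintype G] {M : Ideal AlgInt}

open Classical in
theorem sum_pairs_one [Fintype (IrrCharacter G)] (g : G) :
    ∑ χ : IrrCharacter G, (χ : G → ℂ) 1 * (χ : G → ℂ) g =
      if g = 1 then (Nat.card G : ℂ) else 0 := by
  have h1 := Cfsg.Agent.S0145.sum_irr_mul_conj (G := G) g 1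
  have h2 : ∑ χ : IrrCharacter G, (χ : G → ℂ) 1 * (χ : G → ℂ) g =
      ∑ χ : IrrCharacter G, (χ : G → ℂ) g * conj ((χ : G → ℂ) 1) := by
    refine Finset.sum_congr rfl fun χ _ => ?_
    have : conj ((χ : G → ℂ) 1) = (χ : G → ℂ) 1 := by
      rw [← Characters.Core.isCharacter_apply_inv (Characters.Core.isIrr_isCharacter χ.2), inv_one]
    rw [this, mul_comm]
  rw [h2, h1]
  by_cases h : g = 1
  · subst h
    rw [if_pos (IsConj.refl _), if_pos rfl]
    congr 1
    have : Subgroup.centralizer ({(1 : G)} : Set G) = ⊤ := by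
      rw [eq_top_iff]
      intro y _
      rw [Subgroup.mem_centralizer_singleton_iff, mul_one, one_mul]
    rw [this, Subgroup.card_top]
  · rw [if_neg h, if_neg (fun h' => h (isConj_one_left.1 h'))]

/-- The sum over all irreducible characters of `χ g * χ h`. -/
theorem sum_mul_eq_sum [DecidableEq G] [Fintype (IrrCharacter G)] (g h : G) :
    ∑ χ : IrrCharacter G, (χ : G → ℂ) g * (χ : G → ℂ) h =
      ∑ a : G, if a * g * a⁻¹ * h = 1 then (1 : ℂ) else 0 := by
  classical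
  have hG : (Nat.card G : ℂ) ≠ 0 := by exact_mod_cast Nat.card_pos.ne'
  have h1 : ∀ χ : IrrCharacter G, (Nat.card G : ℂ) * ((χ : G → ℂ) g * (χ : G → ℂ) h) =
      ∑ a : G, (χ : G → ℂ) 1 * (χ : G → ℂ) (a * g * a⁻¹ * h) := by
    intro χ
    have hχ1 : (χ : G → ℂ) 1 ≠ 0 := Basic.irr_one_ne_zero χ.2
    rw [← Finset.mul_sum, Characters.Central.sum_char_conj_mul χ.2 g h]
    field_simp
  apply mul_left_cancel₀ hG
  rw [Finset.mul_sum, Finset.sum_congr rfl (fun χ _ => h1 χ), Finset.sum_comm, Finset.mul_sum]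
  refine Finset.sum_congr rfl fun a _ => ?_
  rw [sum_pairs_one]
  split_ifs
  · rw [mul_one]
  · rw [mul_zero]

open Classical in
/-- The products of pairs of conjugates of `z` in the 2-section of `x`. -/
theorem sum_eq_card_mul (hM : IsPModular 2 M) {B : Set (IrrCharacter G)} (hB : IsPBlock M B)
    {z : G} (hz2 : z * z = 1) {x : G} (hx : ∃ m, orderOf x = 2 ^ m) {H : Subgroup G} [Fintype H]
    (hH : H = Subgroup.centralizer ({x} : Set G)) {b : Set (IrrCharacter H)}
    (hb : IsInducedBlock M H b B) {θ : IrrCharacter H} (hθ : θ ∈ b)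
    [Fintype (IrrCharacter G)] :
    ((Finset.univ.filter (fun t : G => IsConj z t)).card : ℂ) ^ 2 *
      ∑ χ : IrrCharacter G with χ ∈ B, (χ : G → ℂ) z ^ 2 / (χ : G → ℂ) 1 *
        wt 2 x (χ : G → ℂ) (θ : H → ℂ) =
    (Nat.card G : ℂ) * ((Nat.card H : ℂ)⁻¹ * ∑ y : H with ¬ 2 ∣ orderOf y,
      (Nat.card {t : G // IsConj z t ∧ IsConj z (x * (y : G) * t⁻¹)} : ℂ) *
        conj ((θ : H → ℂ) y)) := by
  have : Fact (Nat.Prime 2) := ⟨Nat.prime_two⟩
  have := isPrime_of_isPModular hM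
  set K : Finset G := Finset.univ.filter (fun t : G => IsConj z t) with hK
  have hmemK : ∀ t, t ∈ K ↔ IsConj z t := by
    intro t
    rw [hK, Finset.mem_filter]
    exact ⟨fun h => h.2, fun h => ⟨Finset.mem_univ _, h⟩⟩
  have hKinv : ∀ a g, g ∈ K → a * g * a⁻¹ ∈ K := by
    intro a g hg
    rw [hmemK] at hg ⊢
    exact hg.trans (isConj_iff.2 ⟨a, rfl⟩)
  have hinvK : ∀ t, IsConj z t → t⁻¹ = t := by
    intro t ht
    obtain ⟨c, rfl⟩ := isConj_iff.1 ht
    apply inv_eq_of_mul_eq_one_left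
    calc c * z * c⁻¹ * (c * z * c⁻¹) = c * (z * z) * c⁻¹ := by group
      _ = 1 := by rw [hz2]; group
  have hwt : ∀ (χ : G → ℂ), wt 2 x χ (θ : H → ℂ) = (Nat.card H : ℂ)⁻¹ *
      ∑ y : H with ¬ 2 ∣ orderOf y, χ (x * (y : G)) * conj ((θ : H → ℂ) y) := by
    intro χ
    rw [wt_def, rg_def, pair_eq_sum_filter]
  -- the terms outside `B` vanish
  have hout : ∀ χ : IrrCharacter G, χ ∉ B → wt 2 x (χ : G → ℂ) (θ : H → ℂ) = 0 := by
    intro χ hχ
    refine Cfsg.Agent.H639.wt_eq_zero hM hx hH (Basic.isPBlock_blockOf χ)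
      (Basic.mem_blockOf_self _) ?_
    intro h
    rw [← Basic.isPBlock_eq_blockOf hb.1 hθ] at h
    have h1 := Cfsg.Agent.H648.Dict.isInducedBlock_unique hb h
    exact hχ (h1 ▸ Basic.mem_blockOf_self _)
  have h1 : ((K.card : ℂ)) ^ 2 *
      ∑ χ : IrrCharacter G with χ ∈ B, (χ : G → ℂ) z ^ 2 / (χ : G → ℂ) 1 *
        wt 2 x (χ : G → ℂ) (θ : H → ℂ) =
      ∑ χ : IrrCharacter G, (∑ s ∈ K, ∑ t ∈ K, (χ : G → ℂ) (t * s)) *
        wt 2 x (χ : G → ℂ) (θ : H → ℂ) := by
    rw [Finset.sum_filter, Finset.mul_sum]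
    refine Finset.sum_congr rfl fun χ _ => ?_
    have e2 : ∑ t ∈ K, (χ : G → ℂ) t = (K.card : ℂ) * (χ : G → ℂ) z := by
      rw [Finset.sum_congr rfl (g := fun _ => (χ : G → ℂ) z) (fun t ht => by
        rw [hmemK] at ht
        exact InvSum.eq_of_isConj (Characters.Core.isIrr_isClassFunction χ.2) ht),
        Finset.sum_const, nsmul_eq_mul]
    rw [sum_sum_of_invariant χ.2 K hKinv, e2]
    split_ifs with hχ
    · ring
    · rw [hout χ hχ]; ring
  rw [h1]
  -- expand the product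
  have h2 : ∀ χ : IrrCharacter G, (∑ s ∈ K, ∑ t ∈ K, (χ : G → ℂ) (t * s)) *
      wt 2 x (χ : G → ℂ) (θ : H → ℂ) =
      (Nat.card H : ℂ)⁻¹ * ∑ y : H with ¬ 2 ∣ orderOf y,
        (∑ s ∈ K, ∑ t ∈ K, (χ : G → ℂ) (t * s) * (χ : G → ℂ) (x * (y : G))) *
          conj ((θ : H → ℂ) y) := by
    intro χ
    rw [hwt, mul_left_comm, Finset.mul_sum]
    congr 1
    refine Finset.sum_congr rfl fun y _ => ?_
    rw [← mul_assoc, Finset.sum_mul]
    congr 1
    exact Finset.sum_congr rfl fun s _ => Finset.sum_mul _ _ _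
  rw [Finset.sum_congr rfl (fun χ _ => h2 χ), ← Finset.mul_sum, Finset.sum_comm]
  have h3 : ∀ y : H, ∑ χ : IrrCharacter G,
      (∑ s ∈ K, ∑ t ∈ K, (χ : G → ℂ) (t * s) * (χ : G → ℂ) (x * (y : G))) *
          conj ((θ : H → ℂ) y) =
      (Nat.card G : ℂ) * (Nat.card {t : G // IsConj z t ∧ IsConj z (x * (y : G) * t⁻¹)} : ℂ) *
        conj ((θ : H → ℂ) y) := by
    intro y
    rw [← Finset.sum_mul]
    congr 1
    set g := x * (y : G) with hg
    have e1 : ∑ χ : IrrCharacter G, ∑ s ∈ K, ∑ t ∈ K, (χ : G → ℂ) (t * s) * (χ : G → ℂ) g =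
        ∑ s ∈ K, ∑ t ∈ K, ∑ a : G, (if a * (t * s) * a⁻¹ * g = 1 then (1 : ℂ) else 0) := by
      rw [Finset.sum_comm]
      refine Finset.sum_congr rfl fun s _ => ?_
      rw [Finset.sum_comm]
      exact Finset.sum_congr rfl fun t _ => sum_mul_eq_sum _ _
    have e2 : ∑ s ∈ K, ∑ t ∈ K, ∑ a : G, (if a * (t * s) * a⁻¹ * g = 1 then (1 : ℂ) else 0) =
        ∑ a : G, ∑ s ∈ K, ∑ t ∈ K, (if a * (t * s) * a⁻¹ * g = 1 then (1 : ℂ) else 0) := by
      rw [Finset.sum_congr rfl (fun s _ => Finset.sum_comm), Finset.sum_comm]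
    have hbij : ∀ (a : G) (f : G → ℂ), ∑ t ∈ K, f (a * t * a⁻¹) = ∑ t ∈ K, f t := by
      intro a f
      refine Finset.sum_nbij' (fun t => a * t * a⁻¹) (fun t => a⁻¹ * t * a)
        (fun t ht => hKinv a t ht) (fun t ht => ?_) (fun t _ => by group) (fun t _ => by group)
        (fun t _ => rfl)
      simpa using hKinv a⁻¹ t ht
    have e3 : ∀ a : G, ∑ s ∈ K, ∑ t ∈ K, (if a * (t * s) * a⁻¹ * g = 1 then (1 : ℂ) else 0) =
        ∑ s ∈ K, ∑ t ∈ K, (if t * s * g = 1 then (1 : ℂ) else 0) := by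
      intro a
      have e4 : ∀ s t : G, a * (t * s) * a⁻¹ * g = (a * t * a⁻¹) * (a * s * a⁻¹) * g := by
        intro s t; group
      simp only [e4]
      rw [hbij a (fun s => ∑ t ∈ K, (if (a * t * a⁻¹) * s * g = 1 then (1 : ℂ) else 0))]
      exact Finset.sum_congr rfl fun s _ =>
        hbij a (fun t => (if t * s * g = 1 then (1 : ℂ) else 0))
    have e5 : ∑ s ∈ K, ∑ t ∈ K, (if t * s * g = 1 then (1 : ℂ) else 0) =
        (Nat.card {t : G // IsConj z t ∧ IsConj z (g * t⁻¹)} : ℂ) := by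
      rw [Finset.sum_comm]
      have e6 : ∀ t ∈ K, ∑ s ∈ K, (if t * s * g = 1 then (1 : ℂ) else 0) =
          if IsConj z (g * t⁻¹) then 1 else 0 := by
        intro t ht
        rw [hmemK] at ht
        have hti := hinvK t ht
        have e7 : ∀ s, t * s * g = 1 ↔ s = t * g⁻¹ := by
          intro s
          constructor
          · intro h
            calc s = t⁻¹ * (t * s * g) * g⁻¹ := by group
              _ = t * g⁻¹ := by rw [h, hti, mul_one]
          · rintro rfl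
            calc t * (t * g⁻¹) * g = t * t := by group
              _ = 1 := by nth_rewrite 1 [← hti]; exact inv_mul_cancel t
        simp only [e7]
        rw [Finset.sum_ite_eq']
        have e8 : t * g⁻¹ ∈ K ↔ IsConj z (g * t⁻¹) := by
          rw [hmemK]
          have e9 : (g * t⁻¹)⁻¹ = t * g⁻¹ := by group
          constructor
          · intro h
            have h' := hinvK _ h
            have : g * t⁻¹ = t * g⁻¹ := by rw [← h']; group
            rwa [this]
          · intro h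
            have h' := hinvK _ h
            rw [← e9, h']
            exact h
        by_cases h : IsConj z (g * t⁻¹)
        · rw [if_pos h, if_pos (e8.2 h)]
        · rw [if_neg h, if_neg (fun h' => h (e8.1 h'))]
      rw [Finset.sum_congr rfl e6, ← Finset.sum_filter, Finset.sum_const, nsmul_eq_mul, mul_one,
        Nat.card_eq_fintype_card, Fintype.card_subtype]
      congr 2
      ext t
      rw [Finset.mem_filter, hmemK, Finset.mem_filter]
      exact ⟨fun h => ⟨Finset.mem_univ _, h⟩, fun h => h.2⟩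
    rw [e1, e2, Finset.sum_congr rfl (fun a _ => e3 a), Finset.sum_const, Finset.card_univ,
      nsmul_eq_mul, e5, Nat.card_eq_fintype_card (α := G)]
  rw [Finset.sum_congr rfl (fun y _ => h3 y)]
  rw [mul_left_comm]
  congr 1
  rw [Finset.mul_sum]
  exact Finset.sum_congr rfl fun y _ => by ring

/-- The number of pairs with given product is a class function. -/
theorem card_pairs_conj (z c g : G) :
    Nat.card {t : G // IsConj z t ∧ IsConj z (c * g * c⁻¹ * t⁻¹)} =
      Nat.card {t : G // IsConj z t ∧ IsConj z (g * t⁻¹)} := by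
  refine Nat.card_congr ⟨fun t => ⟨c⁻¹ * t * c, ?_, ?_⟩, fun t => ⟨c * t * c⁻¹, ?_, ?_⟩,
    fun t => Subtype.ext (by show c * (c⁻¹ * t * c) * c⁻¹ = t; group),
    fun t => Subtype.ext (by show c⁻¹ * (c * t * c⁻¹) * c = t; group)⟩
  · exact t.2.1.trans (isConj_iff.2 ⟨c⁻¹, by group⟩)
  · exact t.2.2.trans (isConj_iff.2 ⟨c⁻¹, by group⟩)
  · exact t.2.1.trans (isConj_iff.2 ⟨c, by group⟩)
  · exact t.2.2.trans (isConj_iff.2 ⟨c, by group⟩)

open Classical in
/-- The number of pairs with product `x y` is divisible by `2 ^ m`. -/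
theorem pow_dvd_card_pairs {z : G} (hz2 : z * z = 1) {x : G} {m : ℕ}
    (hx : orderOf x = 2 ^ (m + 1)) {y : G} (hxy : Commute x y) (hy : ¬ 2 ∣ orderOf y) :
    2 ^ m ∣ Nat.card {t : G // IsConj z t ∧ IsConj z (x * y * t⁻¹)} := by
  have : Fact (Nat.Prime 2) := ⟨Nat.prime_two⟩
  have hinvK : ∀ t, IsConj z t → t⁻¹ = t := by
    intro t ht
    obtain ⟨c, rfl⟩ := isConj_iff.1 ht
    apply inv_eq_of_mul_eq_one_left
    calc c * z * c⁻¹ * (c * z * c⁻¹) = c * (z * z) * c⁻¹ := by group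
      _ = 1 := by rw [hz2]; group
  obtain ⟨N, hN⟩ := PPart.exists_pow_eq (G := G) 2
  have hpp : IsPPart 2 (x * y) x := PPart.isPPart_mul hxy ⟨m + 1, hx⟩ hy
  refine pow_dvd_card hx (fun t => IsConj z t ∧ IsConj z (x * y * t⁻¹)) ?_ ?_
  · rintro t ⟨h1, h2⟩
    refine ⟨h1.trans (isConj_iff.2 ⟨x, rfl⟩), h2.trans (isConj_iff.2 ⟨x, ?_⟩)⟩
    calc x * (x * y * t⁻¹) * x⁻¹ = x * (x * y) * t⁻¹ * x⁻¹ := by group
      _ = (x * y) * x * t⁻¹ * x⁻¹ := by rw [← ((Commute.refl x).mul_right hxy).eq]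
      _ = x * y * (x * t * x⁻¹)⁻¹ := by group
  · rintro t ⟨h1, h2⟩
    have ht := hinvK t h1
    have hs := hinvK _ h2
    have h3 : t * (x * y) * t⁻¹ = (x * y)⁻¹ := by
      have h4 : t * (x * y)⁻¹ = x * y * t⁻¹ := by rw [← hs]; group
      calc t * (x * y) * t⁻¹ = t * (x * y * t⁻¹) := by group
        _ = t * (t * (x * y)⁻¹) := by rw [h4]
        _ = t⁻¹ * (t * (x * y)⁻¹) := by rw [ht]
        _ = (x * y)⁻¹ := by group
    have h5 : (x * y) ^ N = x := hN _ _ hpp
    have h6 := conj_pow (i := N) (a := t) (b := x * y)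
    rw [h3, inv_pow, h5] at h6
    exact h6.symm

open Classical in
/-- **Divisibility**: `2 ^ m` divides the normalized sum locally. -/
theorem div_sum (hM : IsPModular 2 M) {B : Set (IrrCharacter G)} (hB : IsPBlock M B)
    {z : G} (hz2 : z * z = 1) {x : G} {m : ℕ} (hx : orderOf x = 2 ^ (m + 1)) {H : Subgroup G}
    [Fintype H] (hH : H = Subgroup.centralizer ({x} : Set G)) {b : Set (IrrCharacter H)}
    (hb : IsInducedBlock M H b B) {θ : IrrCharacter H} (hθ : θ ∈ b)
    [Fintype (IrrCharacter G)] :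
    MemLocalRing M (2 ^ blockDefect 2 b *
      (((Finset.univ.filter (fun t : G => IsConj z t)).card : ℂ) ^ 2 / (Nat.card G : ℂ) *
      ∑ χ : IrrCharacter G with χ ∈ B, (χ : G → ℂ) z ^ 2 / (χ : G → ℂ) 1 *
        wt 2 x (χ : G → ℂ) (θ : H → ℂ)) / 2 ^ m) := by
  have : Fact (Nat.Prime 2) := ⟨Nat.prime_two⟩
  have := isPrime_of_isPModular hM
  have hG : (Nat.card G : ℂ) ≠ 0 := by exact_mod_cast Nat.card_pos.ne'
  have hHc : (Nat.card H : ℂ) ≠ 0 := by exact_mod_cast Nat.card_pos.ne'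
  have h1 := sum_eq_card_mul hM hB hz2 ⟨m + 1, hx⟩ hH hb hθ
  let Nc : H → ℕ := fun y => Nat.card {t : G // IsConj z t ∧ IsConj z (x * (y : G) * t⁻¹)}
  -- the integral class function
  let f : H → ℂ := fun y => if 2 ∣ orderOf y then 0 else ((Nc y⁻¹ / 2 ^ m : ℕ) : ℂ)
  have hcomm : ∀ y : H, Commute x (y : G) := by
    intro y
    have : (y : G) ∈ Subgroup.centralizer ({x} : Set G) := hH ▸ y.2
    exact (Subgroup.mem_centralizer_singleton_iff.1 this).symm
  have hNcl : ∀ (y h : H), Nc (h * y * h⁻¹) = Nc y := by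
    intro y h
    show Nat.card {t : G // IsConj z t ∧ IsConj z (x * ((h * y * h⁻¹ : H) : G) * t⁻¹)} =
      Nat.card {t : G // IsConj z t ∧ IsConj z (x * (y : G) * t⁻¹)}
    have e1 : x * ((h * y * h⁻¹ : H) : G) = (h : G) * (x * y) * (h : G)⁻¹ := by
      have e2 := (hcomm h).eq
      calc x * ((h * y * h⁻¹ : H) : G) = (x * h) * y * (h : G)⁻¹ := by
            push_cast; group
        _ = (h : G) * (x * y) * (h : G)⁻¹ := by rw [e2]; group
    rw [e1]
    exact card_pairs_conj z _ _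
  have hf : IsClassFunction H f := by
    intro g h
    show (if 2 ∣ orderOf (h * g * h⁻¹) then (0 : ℂ) else ((Nc (h * g * h⁻¹)⁻¹ / 2 ^ m : ℕ) : ℂ)) =
      if 2 ∣ orderOf g then (0 : ℂ) else ((Nc g⁻¹ / 2 ^ m : ℕ) : ℂ)
    have e1 : orderOf (h * g * h⁻¹) = orderOf g := by
      have := orderOf_injective (MulAut.conj h).toMonoidHom (MulAut.conj h).injective g
      simpa using this
    have e2 : (h * g * h⁻¹)⁻¹ = h * g⁻¹ * h⁻¹ := by group
    rw [e1, e2, hNcl]
  have hfR : ∀ g, MemLocalRing M (f g) := by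
    intro g
    show MemLocalRing M (if 2 ∣ orderOf g then (0 : ℂ) else ((Nc g⁻¹ / 2 ^ m : ℕ) : ℂ))
    split_ifs
    · exact memLocalRing_zero
    · refine memLocalRing_of_isIntegral ?_
      have := isIntegral_algebraMap (R := ℤ) (A := ℂ) (x := ((Nc g⁻¹ / 2 ^ m : ℕ) : ℤ))
      rwa [eq_intCast, Int.cast_natCast] at this
  have h2 := ClassSum.memLocalRing_sum (Characters.Core.isIrr_isClassFunction θ.2)
    (fun g => memLocalRing_of_isIntegral (Cfsg.Agent.Blocks.Blau.isIntegral_centralChar' θ.2 g)) hf hfR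
  have hθ1 : (θ : H → ℂ) 1 ≠ 0 := Basic.irr_one_ne_zero θ.2
  have h3 : ∑ g : H, f g * ((θ : H → ℂ) g / (θ : H → ℂ) 1) =
      (∑ y : H with ¬ 2 ∣ orderOf y, (Nc y : ℂ) * conj ((θ : H → ℂ) y)) /
        (2 ^ m * (θ : H → ℂ) 1) := by
    rw [← Equiv.sum_comp (Equiv.inv H), Finset.sum_filter, Finset.sum_div]
    refine Finset.sum_congr rfl fun y _ => ?_
    show (if 2 ∣ orderOf y⁻¹ then (0 : ℂ) else ((Nc y⁻¹⁻¹ / 2 ^ m : ℕ) : ℂ)) *
      ((θ : H → ℂ) y⁻¹ / (θ : H → ℂ) 1) = _
    rw [orderOf_inv, inv_inv]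
    by_cases hy : 2 ∣ orderOf y
    · rw [if_pos hy, if_neg (not_not.2 hy), zero_mul, zero_div]
    · rw [if_neg hy, if_pos hy,
        Characters.Core.isCharacter_apply_inv (Characters.Core.isIrr_isCharacter θ.2)]
      have hd : 2 ^ m ∣ Nc y := pow_dvd_card_pairs hz2 hx (hcomm y) (by rwa [Subgroup.orderOf_coe])
      obtain ⟨c, hc⟩ := hd
      rw [hc, Nat.mul_div_cancel_left _ (by positivity)]
      push_cast
      have h2m : (2 : ℂ) ^ m ≠ 0 := pow_ne_zero _ two_ne_zero
      field_simp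
  have h4 := memLocalRing_mul (memLocalRing_defect_mul_div hM hθ) h2
  rw [h3] at h4
  convert h4 using 1
  have h5 : ((Finset.univ.filter (fun t : G => IsConj z t)).card : ℂ) ^ 2 / (Nat.card G : ℂ) *
      ∑ χ : IrrCharacter G with χ ∈ B, (χ : G → ℂ) z ^ 2 / (χ : G → ℂ) 1 *
        wt 2 x (χ : G → ℂ) (θ : H → ℂ) =
      (Nat.card H : ℂ)⁻¹ * ∑ y : H with ¬ 2 ∣ orderOf y, (Nc y : ℂ) * conj ((θ : H → ℂ) y) := by
    rw [div_mul_eq_mul_div, h1]
    field_simp
    rfl
  rw [h5]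
  have h2m : (2 : ℂ) ^ m ≠ 0 := pow_ne_zero _ two_ne_zero
  push_cast
  field_simp

end div

end Cfsg.Agent.H624.InvCount
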