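import Cfsg.Agent.S0859
import Cfsg.Agent.S0188
import Cfsg.Agent.CharactersDeep.PrimeIndex
import Cfsg.Agent.CharactersDeep.CliffordSum
import Cfsg.Agent.CharactersDeep.NormalInd
import Cfsg.Agent.CharactersDeep.IndFun

/-!
# Tools for M-groups

* `prime_index`: for a normal subgroup `K` of prime index, an irreducible character is irreducible on `K`
  or induced from an irreducible character of `K`.
* `Mono`, `MG`: monomial characters, M-groups; transport along isomorphisms.
* `exists_pi`: irreducible characters of `ι → A`.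
-/

set_option autoImplicit false

open scoped ComplexConjugate
open Cfsg

namespace Cfsg.Agent.H624.MGroup

open Cfsg.Agent.Characters.Core Cfsg.Agent.Characters.Clifford
open Cfsg.Agent.CharactersDeep.CliffordSum

universe u v

/-- An irreducible character is irreducible on a normal subgroup of prime index or induced from it. -/
theorem prime_index {G : Type u} [Group G] [Fintype G] (K : Subgroup G) [hKn : K.Normal]
    (hp : K.index.Prime) {χ : G → ℂ} (hχ : IsIrrCharacter G χ) :
    IsIrrCharacter K (fun k : K => χ k) ∨ ∃ θ : K → ℂ, IsIrrCharacter K θ ∧ χ = indFun K θ := by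
  classical
  have hres : IsCharacter K (fun k : K => χ k) := isCharacter_restrict K (isIrr_isCharacter hχ)
  rcases Cfsg.Agent.CharactersDeep.PrimeIndex.norm_restrict_prime_index K hp rfl hχ with h1 | h1
  · exact Or.inl (isIrr_of_classInner_self hres h1)
  · right
    have hf1 : Finite (IrrCharacter K) := finite_irr
    have hf2 : Finite (IrrCharacter G) := finite_irr
    let _ : Fintype (IrrCharacter K) := Fintype.ofFinite _
    let _ : Fintype (IrrCharacter G) := Fintype.ofFinite _
    -- a constituent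
    obtain ⟨m, hm⟩ := exists_nat_comb hres
    have hex : ∃ φ : IrrCharacter K, m φ ≠ 0 := by
      by_contra hcon
      push Not at hcon
      have h0 : (fun k : K => χ k) = 0 := by
        rw [hm]
        exact Finset.sum_eq_zero fun ψ _ => by rw [hcon ψ, zero_smul]
      rw [h0, classInner_zero_left] at h1
      exact hp.ne_zero (by exact_mod_cast h1.symm)
    obtain ⟨φ, hφ⟩ := hex
    have he : classInner (fun k : K => χ k) (φ : K → ℂ) = m φ := by
      rw [hm, classInner_sum_nsmul_irr]
    have hnorm := classInner_restrict_self_eq K hχ φ.2 he hφ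
    rw [h1] at hnorm
    have hnorm' : K.index = m φ ^ 2 *
      (Finset.univ.image (fun x : G => (φ : K → ℂ) ∘ (MulAut.conjNormal x : MulAut K))).card := by
      exact_mod_cast hnorm
    have hm1 : m φ = 1 := by
      have hd : m φ * m φ ∣ K.index := by
        rw [hnorm', sq]
        exact dvd_mul_right _ _
      by_contra hne
      have hd1 : m φ ∣ K.index := (dvd_mul_right _ _).trans hd
      rcases (Nat.dvd_prime hp).1 hd1 with h | h
      · exact hne h
      · rw [h] at hd
        have h2 := Nat.le_of_dvd hp.pos hd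
        have h3 := hp.two_le
        nlinarith
    rw [hm1, one_pow, one_mul] at hnorm'
    have hclif := restrict_eq_smul_sum K hχ φ.2 (by rw [he, hm1]; norm_num)
    rw [he, hm1, Nat.cast_one, one_smul] at hclif
    have hdeg : χ 1 = K.index * (φ : K → ℂ) 1 := by
      have h2 := congrFun hclif 1
      rw [Finset.sum_apply] at h2
      have h3 : χ 1 = χ ((1 : K) : G) := rfl
      have h2' : χ ((1 : K) : G) = _ := h2
      rw [h3, h2', Finset.sum_congr rfl (g := fun _ => (φ : K → ℂ) 1), Finset.sum_const,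
        nsmul_eq_mul, ← hnorm']
      intro ψ hψ
      obtain ⟨x, -, rfl⟩ := Finset.mem_image.1 hψ
      simp
    refine ⟨φ, φ.2, ?_⟩
    have hfc : IsCharacter G (indFun K (φ : K → ℂ)) :=
      Cfsg.Agent.CharactersDeep.IndFun.isCharacter_indFun K (isIrr_isCharacter φ.2)
    have hinner : classInner (indFun K (φ : K → ℂ)) χ = 1 := by
      rw [Cfsg.Agent.CharactersDeep.NormalInd.classInner_indFun K _ _ (isIrr_isClassFunction hχ),
        ← classInner_conj_symm, he, hm1]
      simp
    have hone : indFun K (φ : K → ℂ) 1 = χ 1 := by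
      rw [Cfsg.Agent.CharactersDeep.NormalInd.indFun_one, hdeg]
    obtain ⟨n, hn⟩ := exists_nat_comb hfc
    have hnχ : n ⟨χ, hχ⟩ = 1 := by
      have h2 := classInner_sum_nsmul_irr n ⟨χ, hχ⟩
      rw [← hn, hinner] at h2
      exact_mod_cast h2.symm
    choose d hd hd' using fun ψ : IrrCharacter G => isIrr_apply_one ψ.2
    have hsum : ∑ ψ : IrrCharacter G, n ψ * d ψ = d ⟨χ, hχ⟩ := by
      have h2 := congrFun hn 1
      rw [hone, Finset.sum_apply] at h2
      have h3 : χ 1 = (d ⟨χ, hχ⟩ : ℂ) := hd' ⟨χ, hχ⟩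
      rw [h3] at h2
      have h4 : ∀ ψ : IrrCharacter G, (n ψ • (ψ : G → ℂ)) 1 = ((n ψ * d ψ : ℕ) : ℂ) := by
        intro ψ
        rw [Pi.smul_apply, hd' ψ, nsmul_eq_mul]
        push_cast
        ring
      rw [Finset.sum_congr rfl (fun ψ _ => h4 ψ)] at h2
      exact_mod_cast h2.symm
    have hzero : ∀ ψ : IrrCharacter G, ψ ≠ ⟨χ, hχ⟩ → n ψ = 0 := by
      intro ψ hψ
      rw [← Finset.add_sum_erase _ _ (Finset.mem_univ (⟨χ, hχ⟩ : IrrCharacter G)), hnχ, one_mul]
        at hsum
      have h2 : ∑ ψ ∈ Finset.univ.erase (⟨χ, hχ⟩ : IrrCharacter G), n ψ * d ψ = 0 := by omega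
      rw [Finset.sum_eq_zero_iff] at h2
      have h3 := h2 ψ (Finset.mem_erase.2 ⟨hψ, Finset.mem_univ _⟩)
      rcases Nat.mul_eq_zero.1 h3 with h | h
      · exact h
      · exact absurd h (hd ψ).ne'
    rw [hn, Finset.sum_eq_single (⟨χ, hχ⟩ : IrrCharacter G), hnχ, one_smul]
    · intro ψ _ hψ
      rw [hzero ψ hψ, zero_smul]
    · intro h
      exact absurd (Finset.mem_univ _) h

/-- Monomial functions: induced from a linear character. -/
def Mono (G : Type u) [Group G] [Fintype G] (χ : G → ℂ) : Prop :=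
  ∃ (H : Subgroup G) (lam : ↥H →* ℂˣ), χ = indFun H (fun h => (lam h : ℂ))

/-- M-groups. -/
def MG (G : Type u) [Group G] [Fintype G] : Prop := ∀ χ : G → ℂ, IsIrrCharacter G χ → Mono G χ

theorem Mono.ind {G : Type u} [Group G] [Fintype G] {K : Subgroup G} [Fintype K] {θ : K → ℂ}
    (h : Mono K θ) : Mono G (indFun K θ) := by
  obtain ⟨U, φ, rfl⟩ := h
  obtain ⟨U', φ', h'⟩ := Cfsg.Agent.S0859.indFun_trans K U φ
  exact ⟨U', φ', h'.symm⟩

theorem Mono.transport {G : Type u} {G' : Type v} [Group G] [Group G'] [Fintype G] [Fintype G']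
    (e : G' ≃* G) {χ : G → ℂ} (h : Mono G χ) : Mono G' (fun g => χ (e g)) := by
  obtain ⟨H, lam, rfl⟩ := h
  refine ⟨H.comap e.toMonoidHom, lam.comp (e.toMonoidHom.subgroupComap H), ?_⟩
  funext g
  rw [indFun_apply, indFun_apply]
  have hcard : Nat.card (H.comap e.toMonoidHom) = Nat.card H :=
    Nat.card_congr (e.toEquiv.subtypeEquiv fun _ => Iff.rfl)
  rw [hcard]
  congr 1
  refine (Fintype.sum_equiv e.toEquiv _ _ fun x => ?_).symm
  by_cases hx : x⁻¹ * g * x ∈ H.comap e.toMonoidHom
  · have hx' : (e.toEquiv x)⁻¹ * e g * e.toEquiv x ∈ H := by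
      have : e (x⁻¹ * g * x) ∈ H := hx
      rwa [map_mul, map_mul, map_inv] at this
    rw [extendByZero_of_mem _ _ hx, extendByZero_of_mem _ _ hx']
    have : (e.toMonoidHom.subgroupComap H) ⟨x⁻¹ * g * x, hx⟩ =
        ⟨(e.toEquiv x)⁻¹ * e g * e.toEquiv x, hx'⟩ := by
      apply Subtype.ext
      show e (x⁻¹ * g * x) = _
      rw [map_mul, map_mul, map_inv]
      rfl
    rw [MonoidHom.comp_apply, this]
  · have hx' : (e.toEquiv x)⁻¹ * e g * e.toEquiv x ∉ H := by
      intro h
      apply hx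
      show e (x⁻¹ * g * x) ∈ H
      rwa [map_mul, map_mul, map_inv]
    rw [extendByZero_of_notMem _ _ hx, extendByZero_of_notMem _ _ hx']

theorem MG.transport {G : Type u} {G' : Type v} [Group G] [Group G'] [Fintype G] [Fintype G']
    (e : G ≃* G') (h : MG G) : MG G' := by
  intro χ hχ
  have h1 : IsIrrCharacter G (χ ∘ e.toMonoidHom) :=
    isIrr_comp e.toMonoidHom e.surjective hχ
  have h2 := (h _ h1).transport e.symm
  have h3 : (fun g => (χ ∘ e.toMonoidHom) (e.symm g)) = χ := by
    funext g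
    show χ (e (e.symm g)) = χ g
    rw [e.apply_symm_apply]
  rwa [h3] at h2

/-- A group of order one. -/
theorem MG.of_card_one {G : Type u} [Group G] [Fintype G] (h1 : Nat.card G = 1) : MG G := by
  intro χ hχ
  have hsub : Subsingleton G := (Nat.card_eq_one_iff_unique.1 h1).1
  have h2 := classInner_irr_self hχ
  rw [classInner_self_eq_ofReal] at h2
  obtain ⟨n, hn, hn'⟩ := isIrr_apply_one hχ
  have h3 : ∑ g : G, Complex.normSq (χ g) = (n : ℝ) ^ 2 := by
    rw [Fintype.sum_subsingleton _ (1 : G), hn']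
    simp [Complex.normSq_natCast, sq]
  rw [h3, h1] at h2
  have h4 : (n : ℝ) ^ 2 = 1 := by
    have : (((1 : ℕ) : ℝ)⁻¹ * (n : ℝ) ^ 2 : ℝ) = 1 := by exact_mod_cast h2
    simpa using this
  have h5 : n = 1 := by
    have : n ^ 2 = 1 := by exact_mod_cast h4
    nlinarith
  refine ⟨⊤, 1, ?_⟩
  have h6 : χ = fun _ => 1 := by
    funext g
    rw [Subsingleton.elim g 1, hn', h5, Nat.cast_one]
  have h7 := Cfsg.Agent.S0859.indFun_top χ (isIrr_isClassFunction hχ)
  rw [← h7]
  congr 1
  funext x
  rw [h6]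
  simp

/-- Irreducible characters of a finite power. -/
theorem exists_pi_fin {A : Type u} [Group A] [Finite A] (n : ℕ) :
    ∀ χ : (Fin n → A) → ℂ, IsIrrCharacter (Fin n → A) χ →
      ∃ θ : Fin n → A → ℂ, (∀ i, IsIrrCharacter A (θ i)) ∧ ∀ a, χ a = ∏ i, θ i (a i) := by
  induction n with
  | zero =>
    intro χ hχ
    refine ⟨fun i => i.elim0, fun i => i.elim0, fun a => ?_⟩
    have := Fintype.ofFinite (Fin 0 → A)
    have hsub : Subsingleton (Fin 0 → A) := inferInstance
    have h2 := classInner_irr_self hχ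
    rw [classInner_self_eq_ofReal] at h2
    obtain ⟨n, hn, hn'⟩ := isIrr_apply_one hχ
    have h3 : ∑ g : (Fin 0 → A), Complex.normSq (χ g) = (n : ℝ) ^ 2 := by
      rw [Fintype.sum_subsingleton _ (1 : Fin 0 → A), hn']
      simp [Complex.normSq_natCast, sq]
    have hc : Nat.card (Fin 0 → A) = 1 := by
      rw [Nat.card_unique]
    rw [h3, hc] at h2
    have h4 : (n : ℝ) ^ 2 = 1 := by
      have : (((1 : ℕ) : ℝ)⁻¹ * (n : ℝ) ^ 2 : ℝ) = 1 := by exact_mod_cast h2
      simpa using this
    have h5 : n = 1 := by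
      have : n ^ 2 = 1 := by exact_mod_cast h4
      nlinarith
    rw [Finset.univ_eq_empty, Finset.prod_empty, Subsingleton.elim a 1, hn', h5, Nat.cast_one]
  | succ n ih =>
    intro χ hχ
    let e : A × (Fin n → A) ≃* (Fin (n + 1) → A) :=
      { toFun := fun x => Fin.cons x.1 x.2
        invFun := fun a => (a 0, Fin.tail a)
        left_inv := fun x => by simp
        right_inv := fun a => by simp
        map_mul' := fun x y => by
          funext i
          refine Fin.cases ?_ (fun j => ?_) i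
          · simp
          · simp }
    have h1 : IsIrrCharacter (A × (Fin n → A)) (χ ∘ e.toMonoidHom) :=
      isIrr_comp e.toMonoidHom e.surjective hχ
    obtain ⟨φ, ψ, hφ, hψ, hφψ⟩ := (Cfsg.Agent.S0188.result _).1 h1
    obtain ⟨θ, hθ, hθ'⟩ := ih ψ hψ
    refine ⟨Fin.cons φ θ, fun i => ?_, fun a => ?_⟩
    · refine Fin.cases ?_ (fun j => ?_) i
      · simpa using hφ
      · simpa using hθ j
    · have h2 := congrFun hφψ (a 0, Fin.tail a)
      have h3 : (χ ∘ e.toMonoidHom) (a 0, Fin.tail a) = χ a := by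
        show χ (Fin.cons (a 0) (Fin.tail a)) = χ a
        rw [Fin.cons_self_tail]
      rw [h3] at h2
      rw [h2, Fin.prod_univ_succ, hθ']
      simp [Fin.tail]

/-- Irreducible characters of `ι → A`. -/
theorem exists_pi {A : Type u} [Group A] [Finite A] {ι : Type v} [Fintype ι]
    (χ : (ι → A) → ℂ) (hχ : IsIrrCharacter (ι → A) χ) :
      ∃ θ : ι → A → ℂ, (∀ i, IsIrrCharacter A (θ i)) ∧ ∀ a, χ a = ∏ i, θ i (a i) := by
  let e₀ := Fintype.equivFin ι
  let e : (Fin (Fintype.card ι) → A) ≃* (ι → A) :=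
    { toFun := fun a i => a (e₀ i)
      invFun := fun a i => a (e₀.symm i)
      left_inv := fun a => by funext i; simp
      right_inv := fun a => by funext i; simp
      map_mul' := fun _ _ => rfl }
  have h1 : IsIrrCharacter (Fin (Fintype.card ι) → A) (χ ∘ e.toMonoidHom) :=
    isIrr_comp e.toMonoidHom e.surjective hχ
  obtain ⟨θ, hθ, hθ'⟩ := exists_pi_fin _ _ h1
  refine ⟨fun i => θ (e₀ i), fun i => hθ _, fun a => ?_⟩
  have h2 := hθ' (e.symm a)
  have h3 : (χ ∘ e.toMonoidHom) (e.symm a) = χ a := by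
    show χ (e (e.symm a)) = χ a
    rw [e.apply_symm_apply]
  rw [h3] at h2
  rw [h2]
  refine (Fintype.prod_equiv e₀ _ _ fun i => ?_).symm
  have h4 : e.symm a (e₀ i) = a (e₀.symm (e₀ i)) := rfl
  rw [h4, e₀.symm_apply_apply]

/-- A product of monomial characters of `A` is a monomial character of `ι → A`. -/
theorem mono_pi {A : Type u} [Group A] [Fintype A] {ι : Type v} [Fintype ι] [Fintype (ι → A)]
    (θ : ι → A → ℂ) (hθ : ∀ i, Mono A (θ i)) : Mono (ι → A) (fun a => ∏ i, θ i (a i)) := by
  classical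
  choose H lam hlam using hθ
  let Hp : Subgroup (ι → A) := Subgroup.pi Set.univ H
  have hmem : ∀ (x : Hp) (i : ι), (x : ι → A) i ∈ H i := fun x i => x.2 i (Set.mem_univ i)
  let pr : ∀ i, Hp →* H i := fun i =>
    { toFun := fun x => ⟨(x : ι → A) i, hmem x i⟩
      map_one' := rfl
      map_mul' := fun _ _ => rfl }
  let L : Hp →* ℂˣ := ∏ i, (lam i).comp (pr i)
  refine ⟨Hp, L, ?_⟩
  funext a
  rw [indFun_apply]
  have hcard : Nat.card Hp = ∏ i, Nat.card (H i) := by
    have e : Hp ≃ (∀ i, H i) :=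
      { toFun := fun x i => ⟨(x : ι → A) i, hmem x i⟩
        invFun := fun y => ⟨fun i => y i, fun i _ => (y i).2⟩
        left_inv := fun x => rfl
        right_inv := fun y => rfl }
    rw [Nat.card_congr e, Nat.card_pi]
  have hext : ∀ x : ι → A, extendByZero Hp (fun h => (L h : ℂ)) (x⁻¹ * a * x) =
      ∏ i, extendByZero (H i) (fun h => (lam i h : ℂ)) ((x i)⁻¹ * a i * x i) := by
    intro x
    by_cases hx : ∀ i, (x i)⁻¹ * a i * x i ∈ H i
    · have hx' : x⁻¹ * a * x ∈ Hp := fun i _ => hx i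
      rw [extendByZero_of_mem _ _ hx']
      show ((∏ i, (lam i).comp (pr i) : Hp →* ℂˣ) ⟨x⁻¹ * a * x, hx'⟩ : ℂ) = _
      rw [MonoidHom.finsetProd_apply, Units.coe_prod]
      refine Finset.prod_congr rfl fun i _ => ?_
      rw [extendByZero_of_mem _ _ (hx i)]
      rfl
    · have hx' : x⁻¹ * a * x ∉ Hp := by
        intro h
        exact hx fun i => h i (Set.mem_univ i)
      rw [extendByZero_of_notMem _ _ hx']
      push Not at hx
      obtain ⟨i, hi⟩ := hx
      exact (Finset.prod_eq_zero (Finset.mem_univ i) (extendByZero_of_notMem (H i) _ hi)).symm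
  rw [Finset.sum_congr rfl (fun x _ => hext x), hcard]
  have hprod : ∏ i, ∑ y : A, extendByZero (H i) (fun h => (lam i h : ℂ)) (y⁻¹ * a i * y) =
      ∑ x : ι → A, ∏ i, extendByZero (H i) (fun h => (lam i h : ℂ)) ((x i)⁻¹ * a i * x i) := by
    rw [Finset.prod_univ_sum]
    refine Finset.sum_congr ?_ fun _ _ => rfl
    rw [Fintype.piFinset_univ]
    ext x
    simp
  rw [← hprod, Nat.cast_prod, ← Finset.prod_inv_distrib, ← Finset.prod_mul_distrib]
  refine Finset.prod_congr rfl fun i _ => ?_
  rw [hlam i, indFun_apply]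

/-- Finite powers of M-groups are M-groups. -/
theorem MG.pi {A : Type u} [Group A] [Fintype A] {ι : Type v} [Fintype ι] [Fintype (ι → A)]
    (h : MG A) : MG (ι → A) := by
  intro χ hχ
  obtain ⟨θ, hθ, hθ'⟩ := exists_pi χ hχ
  have h1 := mono_pi θ fun i => h _ (hθ i)
  have h2 : χ = fun a => ∏ i, θ i (a i) := funext hθ'
  rwa [h2]

end Cfsg.Agent.H624.MGroup
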