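import Cfsg.Agent.H624.ExtOrthMain
import Cfsg.Agent.H464.ExtRows
import Cfsg.Agent.H67.ExtBase
import Cfsg.Agent.H907.ExtFree

/-!
# Rows `PΩ⁺_{2m}(q)`, `m ≥ 5`, and `PΩ⁻_{2m}(q)`, `m ≥ 4` (helper624, S4832)

* `row_omega_plus`, `row_omega_minus` : `q ≥ 3`, the prime does not divide `q`;
* `hasExt_plus`, `hasExt_minus` : all `q` and all primes.
-/

set_option autoImplicit false

open scoped ComplexConjugate
open Cfsg

namespace Cfsg.Agent.H624.ExtO

open Cfsg.Agent.H477.HC Cfsg.Agent.H53.HC Cfsg.Agent.Characters Module Cfsg.Agent.H576.Ext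
  QuadraticMap Cfsg.Agent.LieClassical.OrthCore Cfsg.Agent.LieClassical.OrthTrans
  Cfsg.Agent.LieClassical.OrthSimple Cfsg.Agent.ClassicalGeometry.OrthSemi Cfsg.Agent.ClassicalGeometry.OrthAut1

universe u v w

section transfer

variable {ι : Type} [Fintype ι] [DecidableEq ι] {K : Type u} [Field K]

/-- the index of the commutator subgroup is that of `Ω` -/
theorem index_comm {F : CForm K (ι → K)} (h : IsQuad F) :
    (commutator F.iso).index = (Omega K F.Q).index := by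
  have e := isoQuad F h.B
  have h1 : (commutator (isometryGroup K F.Q)).map e.toMonoidHom = commutator F.iso := by
    rw [commutator_def, commutator_def, Subgroup.map_commutator, Subgroup.map_top_of_surjective _ e.surjective]
  rw [← h1]
  exact Subgroup.index_map_equiv _ e

/-- `POmega` and `P Q` -/
theorem hasExt_pomega {F : CForm K (ι → K)} [Finite K] (h : IsQuad F) (hG : Good (quadOf F h)) {p : ℕ}
    (he : HasExt p (P (quadOf F h))) : HasExt p (POmega K F.Q) := by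
  have hfi := finite_iso F
  have hfE : Finite ↥(E (quadOf F h)) := Finite.of_surjective _ (toE_surjective h hG)
  have e : POmega K F.Q ≃* P (quadOf F h) :=
    Cfsg.Agent.ClassicalGeometry.OrthSemiForms.pomegaEquiv (Q := quadOf F h) hG
  have : Finite (POmega K F.Q) := Finite.of_equiv _ e.toEquiv.symm
  exact HasExt.of_equiv e he

end transfer

/-! ### plus -/

section plus

variable (K : Type u) [Field K]

theorem isQuad_plus (m : ℕ) : IsQuad (CForm.plusF K m) := ⟨fun _ => rfl, plus_hB K m⟩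

theorem quadOf_plus (m : ℕ) : quadOf (CForm.plusF K m) (isQuad_plus K m) = LieClassical.OrthForms.plusForm m K := by
  apply DFunLike.coe_injective
  rw [LieClassical.OrthForms.coe_plusForm]
  rfl

variable [Finite K]

theorem good_plusF {m : ℕ} (hm : 3 ≤ m) : Good (quadOf (CForm.plusF K m) (isQuad_plus K m)) := by
  have := Fintype.ofFinite K
  rw [quadOf_plus]
  exact Cfsg.Agent.ClassicalGeometry.OrthSemiForms.good_plus hm

theorem surj_plusF {m : ℕ} (hm : 5 ≤ m) :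
    Function.Surjective (Psi (quadOf (CForm.plusF K m) (isQuad_plus K m))) := by
  rw [quadOf_plus]
  exact Cfsg.Agent.AutOrth.Final.surjective_plus hm

theorem exists_t (h3 : 3 ≤ Nat.card K) : ∃ t : K, t ≠ 0 ∧ t ≠ 1 := by
  classical
  have := Fintype.ofFinite K
  rw [Nat.card_eq_fintype_card] at h3
  by_contra h
  push Not at h
  have h1 : (Finset.univ : Finset K) ⊆ {0, 1} := by
    intro t _
    by_cases h0 : t = 0
    · simp [h0]
    · simp [h t h0]
  have h2 := Finset.card_le_card h1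
  rw [Finset.card_univ] at h2
  have h4 := Finset.card_le_two (a := (0 : K)) (b := 1)
  omega

/-- the degree for `k = m - 1` -/
theorem plus_dvd_sub {p : ℕ} [Fact p.Prime] [CharP K p] {j : ℕ} (hj : 2 ≤ j) :
    ∃ e, (Nat.card K ^ (j + 1) - 1) * (Nat.card K + 1) *
        (∏ i ∈ Finset.Ico 1 (j - 1), (Nat.card K ^ (2 * (i + 1)) - 1)) * (Nat.card K ^ j + 1) ∣
      p ^ e * dg (CForm.plusF K (j + 1)) j := by
  refine key_div (by omega) ?_
  obtain ⟨e, he⟩ := plus_dvd K (p := p) (k := j) (n := 1) (by omega) le_rfl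
  refine ⟨e, ?_⟩
  refine (dvd_of_eq ?_).trans he
  obtain ⟨i, rfl⟩ : ∃ i, j = i + 1 := ⟨j - 1, by omega⟩
  rw [Nat.add_sub_cancel, Nat.add_sub_cancel, Finset.prod_Ico_succ_top (show 1 ≤ i by omega), sq_sub, pow_one]
  ring

/-- **the Harish-Chandra character**, `k = m - 1` -/
theorem plus_hc {p : ℕ} [Fact p.Prime] [CharP K p] {j : ℕ} (hj : 4 ≤ j) (hq3 : 3 ≤ Nat.card K) {r : ℕ}
    (hr : r.Prime) (hd : (r ≠ 2 ∧ r ∣ dg (CForm.plusF K (j + 1)) j) ∨ (r = 2 ∧ 16 ∣ dg (CForm.plusF K (j + 1)) j)) :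
    HasExt r (POmega K (quadFormPlus (j + 1) K)) := by
  obtain ⟨⟨W₀, hW₀⟩, -⟩ := CForm.plusF_frame (K := K) (p := p) j 1
  refine hasExt_pomega (isQuad_plus K (j + 1)) (good_plusF K (by omega)) ?_
  refine hasExt_hc (isQuad_plus K (j + 1)) (good_plusF K (by omega)) (surj_plusF K (by omega)) (k := j) (by omega) hW₀
    (exists_t K hq3) ?_ hr hd
  rw [index_comm (isQuad_plus K (j + 1))]
  exact plus_idx K (by omega)

/-- **`PΩ⁺_{2m}(q)`, `m ≥ 5`, `q > 2`**, given the rank three character -/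
theorem row_omega_plus_aux {p : ℕ} [Fact p.Prime] [CharP K p] (hq3 : 3 ≤ Nat.card K) {m : ℕ}
    (hm : 5 ≤ m) {r : ℕ} (hr : r.Prime) (hrp : r ≠ p) (hd : r ∣ Nat.card (POmega K (quadFormPlus m K)))
    (hrk : r ∣ (Nat.card K ^ (2 * (m - 1)) - 1) / (Nat.card K ^ 2 - 1) → HasExt r (POmega K (quadFormPlus m K))) :
    HasExt r (POmega K (quadFormPlus m K)) := by
  classical
  have hp : p.Prime := Fact.out
  obtain ⟨s, hs⟩ := card_pow K p
  have hrq : ¬ r ∣ Nat.card K := by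
    rw [hs]; intro h; exact hrp ((Nat.prime_dvd_prime_iff_eq hr hp).1 (hr.dvd_of_dvd_pow h))
  have hd1 : r ∣ Nat.card (isometryGroup K (quadFormPlus m K)) :=
    hd.trans ((Subgroup.card_quotient_dvd_card _).trans (Subgroup.card_subgroup_dvd_card _))
  have hd2 : r ∣ Nat.card (CForm.plusF K m).iso := by
    rwa [← Nat.card_congr (isoQuad (CForm.plusF K m) (plus_hB K m)).toEquiv]
  rw [card_plusF K (by omega)] at hd2
  obtain ⟨j, rfl⟩ : ∃ j, m = j + 1 := ⟨m - 1, by omega⟩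
  rw [Nat.add_sub_cancel] at hd2 hrk
  obtain ⟨e, he⟩ := plus_dvd_sub K (p := p) (j := j) (by omega)
  by_cases h2r : r = 2
  · refine plus_hc K (p := p) (by omega) hq3 hr (Or.inr ⟨h2r, ?_⟩)
    have hpo : p ≠ 2 := by rw [← h2r]; exact hrp.symm
    have ho := odd_of_two_ne (K := K) hpo
    have h8 : 8 ∣ Nat.card K ^ 2 - 1 := Nat.eight_dvd_sq_sub_one_of_odd ho
    have h16 : 16 ∣ Nat.card K ^ (2 * (1 + 1)) - 1 := by
      have h1 : Nat.card K ^ (2 * (1 + 1)) - 1 = (Nat.card K ^ 2 + 1) * (Nat.card K ^ 2 - 1) := sq_sub _ 2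
      have h3 : 2 ∣ Nat.card K ^ 2 + 1 := (ho.pow (n := 2)).add_one.two_dvd
      rw [h1]
      exact Nat.mul_dvd_mul h3 h8
    have h17 : 2 ^ 4 ∣ p ^ e * dg (CForm.plusF K (j + 1)) j := by
      refine Dvd.dvd.trans ?_ he
      refine Dvd.dvd.mul_right ?_ _
      refine Dvd.dvd.mul_left ?_ _
      exact (show 2 ^ 4 ∣ Nat.card K ^ (2 * (1 + 1)) - 1 from h16).trans
        (Finset.dvd_prod_of_mem (fun i => Nat.card K ^ (2 * (i + 1)) - 1) (Finset.mem_Ico.2 ⟨le_rfl, by omega⟩))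
    exact prime_pow_dvd Nat.prime_two hp hpo.symm h17
  by_cases hA : r ∣ (Nat.card K ^ (j + 1) - 1) * (Nat.card K + 1) *
        (∏ i ∈ Finset.Ico 1 (j - 1), (Nat.card K ^ (2 * (i + 1)) - 1)) * (Nat.card K ^ j + 1)
  · refine plus_hc K (p := p) (by omega) hq3 hr (Or.inl ⟨h2r, ?_⟩)
    have := prime_pow_dvd (t := 1) hr hp hrp (by rw [pow_one]; exact hA.trans he)
    rwa [pow_one] at this
  · have hA1 : ¬ r ∣ Nat.card K ^ (j + 1) - 1 := fun h =>
      hA (Dvd.dvd.mul_right (Dvd.dvd.mul_right (Dvd.dvd.mul_right h _) _) _)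
    have hA3 : ¬ r ∣ Nat.card K ^ j + 1 := fun h => hA (Dvd.dvd.mul_left h _)
    have hA2 : ∀ i, 1 ≤ i → i < j - 1 → ¬ r ∣ Nat.card K ^ (2 * (i + 1)) - 1 := fun i hi hi' h =>
      hA (Dvd.dvd.mul_right (Dvd.dvd.mul_left (h.trans (Finset.dvd_prod_of_mem
        (fun i => Nat.card K ^ (2 * (i + 1)) - 1) (Finset.mem_Ico.2 ⟨hi, hi'⟩))) _) _)
    have hA0 : ¬ r ∣ Nat.card K ^ (2 * (0 + 1)) - 1 := fun h => hA2 1 le_rfl (by omega) (h.trans (pow_sub_dvd _ 2))
    have hB : r ∣ Nat.card K ^ (2 * j) - 1 := by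
      have h3 : r ∣ ∏ i ∈ Finset.range j, (Nat.card K ^ (2 * (i + 1)) - 1) := by
        rcases hr.dvd_mul.1 hd2 with h | h
        · rcases hr.dvd_mul.1 h with h' | h'
          · rcases hr.dvd_mul.1 h' with h'' | h''
            · exact absurd ((Nat.prime_dvd_prime_iff_eq hr Nat.prime_two).1 h'') h2r
            · exact absurd (hr.dvd_of_dvd_pow h'') hrq
          · exact absurd h' hA1
        · exact h
      obtain ⟨i, hi, hi'⟩ := (Prime.dvd_finsetProd_iff hr.prime _).1 h3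
      rw [Finset.mem_range] at hi
      rcases Nat.eq_zero_or_pos i with rfl | h0
      · exact absurd hi' hA0
      rcases Nat.lt_or_ge i (j - 1) with h | h
      · exact absurd hi' (hA2 i h0 h)
      · have : i + 1 = j := by omega
        rwa [this] at hi'
    apply hrk
    have h5 : (Nat.card K ^ 2 - 1) ∣ Nat.card K ^ (2 * j) - 1 := by
      rw [pow_mul]
      have := Nat.sub_dvd_pow_sub_pow (Nat.card K ^ 2) 1 j
      rwa [one_pow] at this
    obtain ⟨t, ht⟩ := h5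
    have h6 : 0 < Nat.card K ^ 2 - 1 := by
      have : 1 < Nat.card K ^ 2 := Nat.one_lt_pow (by omega) (by omega)
      omega
    rw [ht, Nat.mul_div_cancel_left _ h6]
    rw [ht] at hB
    exact (hr.dvd_mul.1 hB).resolve_left fun h => hA0 (by simpa using h)

/-- from the degree equation -/
theorem dvd_of_rk {q r b n : ℕ} (hq : 2 ≤ q)
    (h : ((q : ℤ) ^ 2 - 1) * b = (q : ℤ) ^ 2 * ((q : ℤ) ^ n - 1)) (hn : (q ^ 2 - 1) ∣ q ^ n - 1)
    (hd : r ∣ (q ^ n - 1) / (q ^ 2 - 1)) : r ∣ b := by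
  obtain ⟨t, ht⟩ := hn
  have h1 : 1 < q ^ 2 := Nat.one_lt_pow (by omega) (by omega)
  have h2 : 1 ≤ q ^ n := Nat.one_le_pow _ _ (by omega)
  rw [ht, Nat.mul_div_cancel_left _ (by omega)] at hd
  have h3 : ((q : ℤ) ^ n - 1) = ((q : ℤ) ^ 2 - 1) * t := by
    have h4 : ((q ^ n - 1 : ℕ) : ℤ) = (((q ^ 2 - 1) * t : ℕ) : ℤ) := by rw [ht]
    rw [Nat.cast_sub h2, Nat.cast_mul, Nat.cast_sub h1.le] at h4
    push_cast at h4
    exact h4
  have h5 : (b : ℤ) = (q : ℤ) ^ 2 * t := by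
    have h6 : ((q : ℤ) ^ 2 - 1) ≠ 0 := by
      have : (1 : ℤ) < (q : ℤ) ^ 2 := by exact_mod_cast h1
      omega
    apply mul_left_cancel₀ h6
    rw [h, h3]
    ring
  have h7 : b = q ^ 2 * t := by exact_mod_cast h5
  rw [h7]
  exact Dvd.dvd.mul_left hd _

theorem exists_char_of_not_dvd {r : ℕ} (hrq : ¬ r ∣ Nat.card K) :
    ∃ p : ℕ, ∃ _ : Fact p.Prime, ∃ _ : CharP K p, r ≠ p := by
  obtain ⟨p, hp⟩ := CharP.exists K
  have hpr : p.Prime := (CharP.char_is_prime_or_zero K p).resolve_right (CharP.char_ne_zero_of_finite K p)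
  have : Fact p.Prime := ⟨hpr⟩
  refine ⟨p, this, hp, ?_⟩
  rintro rfl
  apply hrq
  obtain ⟨s, hs⟩ := card_pow K r
  have h1 : 1 < Nat.card K := Finite.one_lt_card
  have h2 : s ≠ 0 := by rintro rfl; rw [hs, pow_zero] at h1; omega
  rw [hs]
  exact dvd_pow_self r h2

/-- **`PΩ⁺_{2m}(q)`, `m ≥ 5`, `q > 2`, cross characteristic** -/
theorem row_omega_plus (hq3 : 3 ≤ Nat.card K) {m : ℕ} (hm : 5 ≤ m) {r : ℕ} (hr : r.Prime)
    (hrq : ¬ r ∣ Nat.card K) (hd : r ∣ Nat.card (POmega K (quadFormPlus m K))) :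
    HasExt r (POmega K (quadFormPlus m K)) := by
  obtain ⟨p, _, _, hrp⟩ := exists_char_of_not_dvd K hrq
  refine row_omega_plus_aux K (p := p) hq3 hm hr hrp hd fun h => ?_
  obtain ⟨a, b, h1, -, h3⟩ := Cfsg.Agent.H464.ExtR3.rk3_plus K hm
  refine h1.hasExt_right (dvd_of_rk (n := 2 * m - 2) (by omega) h3 ?_ ?_)
  · have h4 : 2 * m - 2 = 2 * (m - 1) := by omega
    rw [h4, pow_mul]
    have := Nat.sub_dvd_pow_sub_pow (Nat.card K ^ 2) 1 (m - 1)
    rwa [one_pow] at this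
  · have h4 : 2 * m - 2 = 2 * (m - 1) := by omega
    rwa [h4]

end plus

/-! ### minus -/

section minus

variable (K : Type u) [Field K] [Finite K] (a b : K)
  (hab : ∀ z₁ z₂ : K, z₁ ^ 2 + a * z₁ * z₂ + b * z₂ ^ 2 = 0 → z₁ = 0 ∧ z₂ = 0)

include hab

theorem isQuad_minus (l : ℕ) : IsQuad (CForm.minusF K l a b hab) := ⟨fun _ => rfl, minus_hB K l a b hab⟩

theorem quadOf_minus (l : ℕ) :
    quadOf (CForm.minusF K l a b hab) (isQuad_minus K a b hab l) = LieClassical.OrthForms.minusForm l K a b := by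
  apply DFunLike.coe_injective
  rw [LieClassical.OrthForms.coe_minusForm]
  rfl

theorem good_minusF {l : ℕ} (hl : 2 ≤ l) : Good (quadOf (CForm.minusF K l a b hab) (isQuad_minus K a b hab l)) := by
  have := Fintype.ofFinite K
  rw [quadOf_minus]
  exact Cfsg.Agent.ClassicalGeometry.OrthSemiForms.good_minus hl a b hab

theorem surj_minusF {l : ℕ} (hl : 3 ≤ l) :
    Function.Surjective (Psi (quadOf (CForm.minusF K l a b hab) (isQuad_minus K a b hab l))) := by
  rw [quadOf_minus]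
  exact Cfsg.Agent.AutOrth.Final.surjective_minus hl hab

/-- **the Harish-Chandra character**, `k = l` -/
theorem minus_hc {p : ℕ} [Fact p.Prime] [CharP K p] {l : ℕ} (hl : 3 ≤ l) (hq3 : 3 ≤ Nat.card K) {r : ℕ}
    (hr : r.Prime) (hd : (r ≠ 2 ∧ r ∣ dg (CForm.minusF K (l + 0) a b hab) l) ∨
      (r = 2 ∧ 16 ∣ dg (CForm.minusF K (l + 0) a b hab) l)) :
    HasExt r (POmega K (quadFormMinus l K a b)) := by
  obtain ⟨⟨W₀, hW₀⟩, -⟩ := CForm.minusF_frame (K := K) (p := p) hab l 0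
  refine hasExt_pomega (isQuad_minus K a b hab l) (good_minusF K a b hab (by omega)) ?_
  refine hasExt_hc (isQuad_minus K a b hab l) (good_minusF K a b hab (by omega)) (surj_minusF K a b hab hl)
    (k := l) (by omega) hW₀ (exists_t K hq3) ?_ hr hd
  rw [index_comm (isQuad_minus K a b hab l)]
  exact minus_idx K a b hab hl

/-- **`PΩ⁻_{2l+2}(q)`, `l ≥ 3`, `q > 2`**, given the rank three character -/
theorem row_omega_minus_aux {p : ℕ} [Fact p.Prime] [CharP K p] (hq3 : 3 ≤ Nat.card K) {l : ℕ}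
    (hl : 3 ≤ l) {r : ℕ} (hr : r.Prime) (hrp : r ≠ p) (hd : r ∣ Nat.card (POmega K (quadFormMinus l K a b)))
    (hrk : r ∣ (Nat.card K ^ (2 * l) - 1) / (Nat.card K ^ 2 - 1) → HasExt r (POmega K (quadFormMinus l K a b))) :
    HasExt r (POmega K (quadFormMinus l K a b)) := by
  classical
  have hp : p.Prime := Fact.out
  obtain ⟨s, hs⟩ := card_pow K p
  have hrq : ¬ r ∣ Nat.card K := by
    rw [hs]; intro h; exact hrp ((Nat.prime_dvd_prime_iff_eq hr hp).1 (hr.dvd_of_dvd_pow h))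
  have hd1 : r ∣ Nat.card (isometryGroup K (quadFormMinus l K a b)) :=
    hd.trans ((Subgroup.card_quotient_dvd_card _).trans (Subgroup.card_subgroup_dvd_card _))
  have hd2 : r ∣ Nat.card (CForm.minusF K l a b hab).iso := by
    rwa [← Nat.card_congr (isoQuad (CForm.minusF K l a b hab) (minus_hB K l a b hab)).toEquiv]
  rw [card_minusF] at hd2
  obtain ⟨e, he⟩ := minus_dvd_top K (p := p) a b hab (l := l) (by omega)
  by_cases h2r : r = 2
  · refine minus_hc K a b hab (p := p) hl hq3 hr (Or.inr ⟨h2r, ?_⟩)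
    have hpo : p ≠ 2 := by rw [← h2r]; exact hrp.symm
    have ho := odd_of_two_ne (K := K) hpo
    have h8 : 8 ∣ Nat.card K ^ 2 - 1 := Nat.eight_dvd_sq_sub_one_of_odd ho
    have h16 : 16 ∣ Nat.card K ^ (2 * (1 + 1)) - 1 := by
      have h1 : Nat.card K ^ (2 * (1 + 1)) - 1 = (Nat.card K ^ 2 + 1) * (Nat.card K ^ 2 - 1) := sq_sub _ 2
      have h3 : 2 ∣ Nat.card K ^ 2 + 1 := (ho.pow (n := 2)).add_one.two_dvd
      rw [h1]
      exact Nat.mul_dvd_mul h3 h8
    have h17 : 2 ^ 4 ∣ p ^ e * dg (CForm.minusF K (l + 0) a b hab) l := by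
      refine Dvd.dvd.trans ?_ he
      refine Dvd.dvd.mul_left ?_ _
      exact (show 2 ^ 4 ∣ Nat.card K ^ (2 * (1 + 1)) - 1 from h16).trans
        (Finset.dvd_prod_of_mem (fun i => Nat.card K ^ (2 * (i + 1)) - 1) (Finset.mem_Ico.2 ⟨le_rfl, by omega⟩))
    exact prime_pow_dvd Nat.prime_two hp hpo.symm h17
  by_cases hA : r ∣ (Nat.card K ^ (l + 1) + 1) * (Nat.card K - 1) * (Nat.card K ^ l + 1) *
        ∏ i ∈ Finset.Ico 1 (l - 1), (Nat.card K ^ (2 * (i + 1)) - 1)
  · refine minus_hc K a b hab (p := p) hl hq3 hr (Or.inl ⟨h2r, ?_⟩)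
    have := prime_pow_dvd (t := 1) hr hp hrp (by rw [pow_one]; exact hA.trans he)
    rwa [pow_one] at this
  · have hA1 : ¬ r ∣ Nat.card K ^ (l + 1) + 1 := fun h =>
      hA (Dvd.dvd.mul_right (Dvd.dvd.mul_right (Dvd.dvd.mul_right h _) _) _)
    have hA2 : ∀ i, 1 ≤ i → i < l - 1 → ¬ r ∣ Nat.card K ^ (2 * (i + 1)) - 1 := fun i hi hi' h =>
      hA (Dvd.dvd.mul_left (h.trans (Finset.dvd_prod_of_mem (fun i => Nat.card K ^ (2 * (i + 1)) - 1)
        (Finset.mem_Ico.2 ⟨hi, hi'⟩))) _)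
    have hA0 : ¬ r ∣ Nat.card K ^ (2 * (0 + 1)) - 1 := fun h => hA2 1 le_rfl (by omega) (h.trans (pow_sub_dvd _ 2))
    have hB : r ∣ Nat.card K ^ (2 * l) - 1 := by
      have h3 : r ∣ ∏ i ∈ Finset.range l, (Nat.card K ^ (2 * (i + 1)) - 1) := by
        rcases hr.dvd_mul.1 hd2 with h | h
        · rcases hr.dvd_mul.1 h with h' | h'
          · rcases hr.dvd_mul.1 h' with h'' | h''
            · exact absurd ((Nat.prime_dvd_prime_iff_eq hr Nat.prime_two).1 h'') h2r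
            · exact absurd (hr.dvd_of_dvd_pow h'') hrq
          · exact absurd h' hA1
        · exact h
      obtain ⟨i, hi, hi'⟩ := (Prime.dvd_finsetProd_iff hr.prime _).1 h3
      rw [Finset.mem_range] at hi
      rcases Nat.eq_zero_or_pos i with rfl | h0
      · exact absurd hi' hA0
      rcases Nat.lt_or_ge i (l - 1) with h | h
      · exact absurd hi' (hA2 i h0 h)
      · have : i + 1 = l := by omega
        rwa [this] at hi'
    apply hrk
    have h5 : (Nat.card K ^ 2 - 1) ∣ Nat.card K ^ (2 * l) - 1 := by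
      rw [pow_mul]
      have := Nat.sub_dvd_pow_sub_pow (Nat.card K ^ 2) 1 l
      rwa [one_pow] at this
    obtain ⟨t, ht⟩ := h5
    have h6 : 0 < Nat.card K ^ 2 - 1 := by
      have : 1 < Nat.card K ^ 2 := Nat.one_lt_pow (by omega) (by omega)
      omega
    rw [ht, Nat.mul_div_cancel_left _ h6]
    rw [ht] at hB
    exact (hr.dvd_mul.1 hB).resolve_left fun h => hA0 (by simpa using h)

/-- **`PΩ⁻_{2l+2}(q)`, `l ≥ 3`, `q > 2`, cross characteristic** -/
theorem row_omega_minus (hq3 : 3 ≤ Nat.card K) {l : ℕ} (hl : 3 ≤ l) {r : ℕ} (hr : r.Prime)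
    (hrq : ¬ r ∣ Nat.card K) (hd : r ∣ Nat.card (POmega K (quadFormMinus l K a b))) :
    HasExt r (POmega K (quadFormMinus l K a b)) := by
  obtain ⟨p, _, _, hrp⟩ := exists_char_of_not_dvd K hrq
  refine row_omega_minus_aux K a b hab (p := p) hq3 hl hr hrp hd fun h => ?_
  obtain ⟨s, t, h1, h2, -⟩ := Cfsg.Agent.H464.ExtR3.rk3_minus a b hab hl
  refine h1.hasExt_left (dvd_of_rk (n := 2 * l) (by omega) h2 ?_ h)
  rw [pow_mul]
  have := Nat.sub_dvd_pow_sub_pow (Nat.card K ^ 2) 1 l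
  rwa [one_pow] at this

end minus

/-! ### all fields and primes -/

section final

variable {S : Type u} [Group S] [Finite S] [IsSimpleGroup S]

theorem card_ne_sq {n : ℕ} (h : n = 2) : ¬ IsSquare n := by
  subst h
  rintro ⟨r, hr⟩
  have h1 : r ≤ 1 := by
    by_contra h
    push Not at h
    nlinarith
  interval_cases r <;> omega

/-- **`PΩ⁺_{2m}(q)`, `m ≥ 5`** -/
theorem hasExt_plus (hna : ¬ IsMulCommutative S) {F : Type} [Field F] [Fintype F] {m : ℕ} (hm : 5 ≤ m)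
    (e : S ≃* POmega F (quadFormPlus m F)) {r : ℕ} (hr : r.Prime) (hd : r ∣ Nat.card S)
    (him : Cfsg.Agent.H671.H5.IM r S) : HasExt r S := by
  have : Fact r.Prime := ⟨hr⟩
  by_cases hrq : r ∣ Nat.card F
  · obtain ⟨p, hp⟩ := CharP.exists F
    have hpr : p.Prime := (CharP.char_is_prime_or_zero F p).resolve_right (CharP.char_ne_zero_of_finite F p)
    have : Fact p.Prime := ⟨hpr⟩
    obtain ⟨s, hs⟩ := card_pow F p
    rw [hs] at hrq
    obtain rfl := (Nat.prime_dvd_prime_iff_eq hr hpr).1 (hr.dvd_of_dvd_pow hrq)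
    refine hasExt_char (p := r) ?_ hd
    exact Or.inr (Or.inr (Or.inr (Or.inr (Or.inl ⟨F, inferInstance, inferInstance, inferInstance, m, by omega, ⟨e⟩⟩))))
  have hF : Nat.card F = Fintype.card F := Nat.card_eq_fintype_card
  rcases Nat.lt_or_ge (Nat.card F) 3 with h | h
  · have h2 : Nat.card F = 2 := by
      have : 1 < Nat.card F := Finite.one_lt_card
      omega
    refine hasExt_of_sylCyc hna (SylCyc.of_equiv e (Cfsg.Agent.H907.ExtFree.sylCyc_oplus hm ?_ ?_)) him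
    · rw [← hF, h2]; decide
    · exact card_ne_sq (by rw [← hF, h2])
  · refine HasExt.of_equiv e (row_omega_plus F h hm hr hrq ?_)
    rwa [← Nat.card_congr e.toEquiv]

/-- **`PΩ⁻_{2m}(q)`, `m ≥ 4`** -/
theorem hasExt_minus (hna : ¬ IsMulCommutative S) {F : Type} [Field F] [Fintype F] {m : ℕ} (hm : 4 ≤ m) (a b : F)
    (hab : ∀ z₁ z₂ : F, z₁ ^ 2 + a * z₁ * z₂ + b * z₂ ^ 2 = 0 → z₁ = 0 ∧ z₂ = 0)
    (e : S ≃* POmega F (quadFormMinus (m - 1) F a b)) {r : ℕ} (hr : r.Prime) (hd : r ∣ Nat.card S)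
    (him : Cfsg.Agent.H671.H5.IM r S) : HasExt r S := by
  have : Fact r.Prime := ⟨hr⟩
  by_cases hrq : r ∣ Nat.card F
  · obtain ⟨p, hp⟩ := CharP.exists F
    have hpr : p.Prime := (CharP.char_is_prime_or_zero F p).resolve_right (CharP.char_ne_zero_of_finite F p)
    have : Fact p.Prime := ⟨hpr⟩
    obtain ⟨s, hs⟩ := card_pow F p
    rw [hs] at hrq
    obtain rfl := (Nat.prime_dvd_prime_iff_eq hr hpr).1 (hr.dvd_of_dvd_pow hrq)
    refine hasExt_char (p := r) ?_ hd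
    exact Or.inr (Or.inr (Or.inr (Or.inr (Or.inr (Or.inl ⟨F, inferInstance, inferInstance, inferInstance, m, a, b,
        hm, hab, ⟨e⟩⟩)))))
  have hF : Nat.card F = Fintype.card F := Nat.card_eq_fintype_card
  rcases Nat.even_or_odd (Fintype.card F) with h | h
  · exact hasExt_of_sylCyc hna (SylCyc.of_equiv e (Cfsg.Agent.H907.ExtFree.sylCyc_ominus hm h a b hab)) him
  · refine HasExt.of_equiv e (row_omega_minus F a b hab ?_ (by omega) hr hrq ?_)
    · rw [hF]
      have : 1 < Fintype.card F := Fintype.one_lt_card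
      rcases h with ⟨j, hj⟩
      omega
    · rwa [← Nat.card_congr e.toEquiv]

end final

end Cfsg.Agent.H624.ExtO
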