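import Cfsg.Agent.H576.Ext.HcDefs

/-!
# Similitudes commuting with the root elements modulo scalars (helper624, S4832)

`scal_of_cent` : a similitude `s` with `s n = a(n) n s` for the root elements `n` is a scalar on every `W ∈ F.Om k`.
-/

set_option autoImplicit false

open scoped ComplexConjugate
open Cfsg

namespace Cfsg.Agent.H576.Ext

open Cfsg.Agent.H477.HC Cfsg.Agent.H53.HC Cfsg.Agent.Characters Module

universe u v w

variable {K : Type u} [Field K] {V : Type v} [AddCommGroup V] [Module K V] (F : CForm K V)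

/-- eigenvectors `x₀`, `x`, `x + x₀` have the same eigenvalue -/
theorem eig_eq {s : V ≃ₗ[K] V} {x₀ x : V} {z : K} (hx₀ : x₀ ≠ 0) (h0 : s x₀ = z • x₀) (hx : ∃ c : K, s x = c • x)
    (hxx : ∃ c : K, s (x + x₀) = c • (x + x₀)) : s x = z • x := by
  by_cases h : ∃ r : K, x = r • x₀
  · obtain ⟨r, rfl⟩ := h
    rw [map_smul, h0, smul_comm]
  · obtain ⟨c, hc⟩ := hx
    obtain ⟨d, hd⟩ := hxx
    rw [map_add, h0, hc, smul_add] at hd
    have h1 : (c - d) • x = (d - z) • x₀ := by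
      rw [sub_smul, sub_smul, sub_eq_sub_iff_add_eq_add, hd]
      abel
    have h2 : c - d = 0 := by
      by_contra hcd
      apply h
      exact ⟨(c - d)⁻¹ * (d - z), by rw [mul_smul, ← h1, smul_smul, inv_mul_cancel₀ hcd, one_smul]⟩
    rw [h2, zero_smul] at h1
    have h3 : d - z = 0 := (smul_eq_zero.1 h1.symm).resolve_right hx₀
    have h4 : c = z := by linear_combination h2 + h3
    rw [hc, h4]

/-- for independent singular orthogonal `x`, `b`: `s x ∈ ⟨x, b⟩` -/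
theorem cent_mem [FiniteDimensional K V] {N : Subgroup F.iso} (hN : HasRoots F N) (s : V ≃ₗ[K] V)
    (hs : ∀ n ∈ N, ∃ a : K, ∀ v, s ((n : V ≃ₗ[K] V) v) = a • (n : V ≃ₗ[K] V) (s v)) {x b : V} (hx : F.Sing x)
    (hb : F.Sing b) (hxb : F.B x b = 0) (hx0 : x ≠ 0) (hind : ∀ r : K, b ≠ r • x) :
    ∃ α β : K, s x = α • x + β • b := by
  classical
  have hbx := F.B_eq_zero hxb
  -- `w₀`
  have hbn : b ∉ (K ∙ x) := by
    intro h
    obtain ⟨r, hr⟩ := Submodule.mem_span_singleton.1 h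
    exact hind r hr.symm
  obtain ⟨f, hf, hf'⟩ := Submodule.exists_dual_map_eq_bot_of_notMem hbn inferInstance
  obtain ⟨w₀, hw₀⟩ := F.exists_dual f
  have hfx : f x = 0 := by
    have : f x ∈ (K ∙ x).map f := ⟨x, Submodule.mem_span_singleton_self x, rfl⟩
    rw [hf'] at this
    exact (Submodule.mem_bot K).1 this
  have h1 : F.B w₀ x = 0 := F.B_eq_zero (by rw [← hw₀]; exact hfx)
  have h2 : F.B w₀ b ≠ 0 := fun h => hf (by rw [hw₀]; exact F.B_eq_zero h)
  obtain ⟨u, hu⟩ := F.exists_root hx hb hxb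
  have huN : u ∈ N := hN x b hx hb hxb ⟨w₀, h1, h2⟩ u hu
  obtain ⟨a, ha⟩ := hs u huN
  have hux : (u : V ≃ₗ[K] V) x = x := by rw [hu, hxb, hx.2]; simp
  have hsx0 : s x ≠ 0 := fun h => hx0 (s.injective (h.trans (map_zero s).symm))
  have ha0 : a ≠ 0 := by
    rintro rfl
    have := ha x
    rw [zero_smul, hux] at this
    exact hsx0 this
  -- `(u - 1)² = 0`
  have hu2 : ∀ v, (u : V ≃ₗ[K] V) ((u : V ≃ₗ[K] V) v - v) = (u : V ≃ₗ[K] V) v - v := by
    intro v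
    have e1 : (u : V ≃ₗ[K] V) v - v = F.B v b • x - (F.ε⁻¹ * F.B v x) • b := by rw [hu]; abel
    rw [e1, hu]
    simp only [F.B_sub_left, F.B_smul_left, hxb, hbx, hx.2, hb.2, mul_zero, sub_zero, zero_smul, add_zero]
  have hy : s x = a • (u : V ≃ₗ[K] V) (s x) := by
    have := ha x
    rwa [hux] at this
  have hy' : (u : V ≃ₗ[K] V) (s x) = a⁻¹ • s x := by
    conv_rhs => rw [hy]
    rw [smul_smul, inv_mul_cancel₀ ha0, one_smul]
  have ha1 : a = 1 := by
    have h3 := hu2 (s x)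
    rw [hy', map_sub, map_smul, hy'] at h3
    have h4 : ((a⁻¹ - 1) * (a⁻¹ - 1)) • s x = 0 := by
      have : ((a⁻¹ - 1) * (a⁻¹ - 1)) • s x = (a⁻¹ • a⁻¹ • s x - a⁻¹ • s x) - (a⁻¹ • s x - s x) := by
        module
      rw [this, h3, sub_self]
    have h5 := (smul_eq_zero.1 h4).resolve_right hsx0
    have h6 : a⁻¹ = 1 := by
      have := mul_self_eq_zero.1 h5
      linear_combination this
    rwa [inv_eq_one] at h6
  have h7 := ha w₀
  rw [ha1, one_smul] at h7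
  have h8 : s (F.B w₀ b • x) = F.B (s w₀) b • x - (F.ε⁻¹ * F.B (s w₀) x) • b := by
    have e2 : F.B w₀ b • x = (u : V ≃ₗ[K] V) w₀ - w₀ := by rw [hu, h1]; simp
    rw [e2, map_sub, h7, hu]
    abel
  rw [map_smul] at h8
  refine ⟨(F.B w₀ b)⁻¹ * F.B (s w₀) b, -((F.B w₀ b)⁻¹ * (F.ε⁻¹ * F.B (s w₀) x)), ?_⟩
  have h9 : s x = (F.B w₀ b)⁻¹ • (F.B w₀ b • s x) := by rw [smul_smul, inv_mul_cancel₀ h2, one_smul]
  rw [h9, h8]
  module

theorem scal_of_cent [Finite K] [FiniteDimensional K V] [Finite V] {k : ℕ} (hk : 2 ≤ k) {N : Subgroup F.iso}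
    (hN : HasRoots F N) (s : V ≃ₗ[K] V) {lam : K} (hlam : lam ≠ 0) (hB : ∀ v w, F.B (s v) (s w) = lam * F.B v w)
    (hQ : ∀ v, F.Q (s v) = lam * F.Q v)
    (hs : ∀ n ∈ N, ∃ a : K, ∀ v, s ((n : V ≃ₗ[K] V) v) = a • (n : V ≃ₗ[K] V) (s v)) {W : Submodule K V}
    (hW : W ∈ F.Om k) : ∃ z : K, (∀ w ∈ W, s w = z • w) ∧ z * F.σ z = lam := by
  classical
  -- eigenvectors in members of `Om k`
  have hkerW : ∀ {W W' : Submodule K V}, W ∈ F.Om k → W' ∈ F.Om k → ∀ x ∈ W, ∃ b₂ ∈ W', b₂ ≠ 0 ∧ F.B x b₂ = 0 := by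
    intro W W' hW hW' x hx
    let f : W' →ₗ[K] K := (F.lf x).comp W'.subtype
    have h1 : LinearMap.ker f ≠ ⊥ := by
      intro h
      have h2 := LinearMap.finrank_range_add_finrank_ker f
      rw [h, finrank_bot, hW'.2, add_zero] at h2
      have h3 := Submodule.finrank_le (LinearMap.range f)
      rw [finrank_self] at h3
      omega
    obtain ⟨b, hb, hb0⟩ := Submodule.exists_mem_ne_zero_of_ne_bot h1
    exact ⟨b, b.2, fun h => hb0 (Subtype.ext h), F.B_eq_zero hb⟩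
  have key : ∀ {W : Submodule K V}, W ∈ F.Om k → ∀ x ∈ W, ∃ c : K, s x = c • x := by
    intro W hW x hx
    by_cases hx0 : x = 0
    · exact ⟨0, by rw [hx0, map_zero, smul_zero]⟩
    obtain ⟨W', hW', hopp⟩ := F.exists_opp hW
    have hdisj : ∀ y ∈ W, y ∈ W' → y = 0 := by
      intro y hy hy'
      have : y ∈ W ⊓ F.perp W' := ⟨hy, fun w hw => hW'.1.2 y hy' w hw⟩
      rw [hopp] at this
      exact (Submodule.mem_bot K).1 this
    -- `b₁ ∈ W`
    obtain ⟨b₁, hb₁, hind₁⟩ : ∃ b₁ ∈ W, ∀ r : K, b₁ ≠ r • x := by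
      by_contra hcon
      push Not at hcon
      have h1 : W ≤ (K ∙ x) := by
        intro b hb
        obtain ⟨r, hr⟩ := hcon b hb
        exact Submodule.mem_span_singleton.2 ⟨r, hr.symm⟩
      have h2 := Submodule.finrank_mono h1
      rw [hW.2, finrank_span_singleton hx0] at h2
      omega
    obtain ⟨b₂, hb₂, hb₂0, hxb₂⟩ := hkerW hW hW' x hx
    obtain ⟨α, β, h1⟩ := cent_mem F hN s hs (hW.1.sing hx) (hW.1.sing hb₁) (hW.1.2 x hx b₁ hb₁) hx0 hind₁
    obtain ⟨γ, δ, h2⟩ := cent_mem F hN s hs (hW.1.sing hx) (hW'.1.sing hb₂) hxb₂ hx0 (fun r hr => by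
      apply hb₂0
      exact hdisj b₂ (by rw [hr]; exact W.smul_mem _ hx) hb₂)
    have h3 : δ • b₂ = 0 := by
      apply hdisj
      · have : δ • b₂ = (α • x + β • b₁) - γ • x := by rw [← h1, h2]; abel
        rw [this]
        exact W.sub_mem (W.add_mem (W.smul_mem _ hx) (W.smul_mem _ hb₁)) (W.smul_mem _ hx)
      · exact W'.smul_mem _ hb₂
    exact ⟨γ, by rw [h2, h3, add_zero]⟩
  obtain ⟨W', hW', hopp⟩ := F.exists_opp hW
  obtain ⟨b, b', hbb'⟩ := CForm.exists_dual_basis (F := F) hW.2 hW'.2 hopp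
  let i0 : Fin k := ⟨0, by omega⟩
  have hx₀0 : (b i0 : V) ≠ 0 := fun h => b.ne_zero i0 (Subtype.ext h)
  obtain ⟨z, hz⟩ := key hW (b i0) (b i0).2
  have hzW : ∀ w ∈ W, s w = z • w := fun w hw =>
    eig_eq hx₀0 hz (key hW w hw) (key hW _ (W.add_mem hw (b i0).2))
  -- every singular vector is an eigenvector
  have hsing : ∀ y, F.Sing y → ∃ c : K, s y = c • y := by
    intro y hy
    by_cases hy0 : y = 0
    · exact ⟨0, by rw [hy0, map_zero, smul_zero]⟩
    have ts1 : ∀ v : V, F.Sing v → v ≠ 0 → (K ∙ v) ∈ F.Om 1 := fun v hv hv0 => by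
      refine ⟨⟨fun w hw => ?_, fun w hw w' hw' => ?_⟩, finrank_span_singleton hv0⟩
      · obtain ⟨a, rfl⟩ := Submodule.mem_span_singleton.1 hw
        rw [F.Q_smul, hv.1, mul_zero]
      · obtain ⟨a, rfl⟩ := Submodule.mem_span_singleton.1 hw
        obtain ⟨b, rfl⟩ := Submodule.mem_span_singleton.1 hw'
        rw [F.B_smul_left, F.B_smul_right, hv.2, mul_zero, mul_zero]
    obtain ⟨g, hg⟩ := F.trans_Om (ts1 _ (hW.1.sing (b i0).2) hx₀0) (ts1 y hy hy0)
    refine key (F.Om_map g W hW) y ?_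
    have h1 : y ∈ (K ∙ (b i0 : V)).map (F.iso.subtype g : V →ₗ[K] V) := by
      rw [hg]; exact Submodule.mem_span_singleton_self y
    refine Submodule.map_mono ?_ h1
    rw [Submodule.span_singleton_le_iff_mem]
    exact (b i0).2
  -- the eigenvalue on `W'`
  obtain ⟨b₂, hb₂, hb₂0, hxb₂⟩ := hkerW hW hW' (b i0) (b i0).2
  have hs₁ : F.Sing (b₂ + (b i0 : V)) := by
    have hbx := F.B_eq_zero hxb₂
    refine ⟨?_, ?_⟩
    · rw [F.Q_add, hW'.1.1 _ hb₂, hW.1.1 _ (b i0).2, hbx, F.T_zero]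
      ring
    · rw [F.B_add_left, F.B_add_right, F.B_add_right, hW'.1.2 _ hb₂ _ hb₂, hbx, hxb₂, hW.1.2 _ (b i0).2 _ (b i0).2]
      ring
  have hz₂ : s b₂ = z • b₂ := eig_eq hx₀0 hz (key hW' _ hb₂) (hsing _ hs₁)
  have hzW' : ∀ w ∈ W', s w = z • w := fun w hw =>
    eig_eq hb₂0 hz₂ (key hW' w hw) (key hW' _ (W'.add_mem hw hb₂))
  refine ⟨z, hzW, ?_⟩
  have h1 := hB (b i0) (b' i0)
  rw [hzW _ (b i0).2, hzW' _ (b' i0).2, F.B_smul_left, F.B_smul_right, hbb', if_pos rfl, mul_one, mul_one] at h1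
  exact h1

end Cfsg.Agent.H576.Ext
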