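import Mathlib
import Cfsg.Agent.H809.OddAct

/-!
# Odd groups of automorphisms of abelian `2`-groups of order at most `16`

`sq_case`: `V` abelian of order at most `16`, not elementary: an odd group `A` of automorphisms is
trivial, or of order three with a quarter of the elements fixed, or `V` is `C₄ × C₄`.
`fix_of_three`: `A` of order three, `V` of order `8` or `16`: the number of fixed points.
-/

set_option autoImplicit false
set_option linter.unusedSectionVars false

namespace Cfsg.Agent.H624.AbSq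

open Subgroup Cfsg.Agent.H809.OddAct

variable {V : Type*} [CommGroup V] [Finite V]

/-- A group of odd order acting trivially on the involutions is trivial. -/
theorem eq_bot_of_invol (hV : IsPGroup 2 V) {B : Subgroup (MulAut V)} (hB : Odd (Nat.card B))
    (h : ∀ x : V, x * x = 1 → x ∈ Fx B) : B = ⊥ := by
  by_contra hne
  obtain ⟨w, hw, hw1⟩ := exists_cm_ne hne
  obtain ⟨k, hk⟩ := IsPGroup.iff_orderOf.1 hV w
  have hk0 : k ≠ 0 := by
    rintro rfl
    rw [pow_zero, orderOf_eq_one_iff] at hk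
    exact hw1 hk
  obtain ⟨j, rfl⟩ := Nat.exists_eq_succ_of_ne_zero hk0
  have h1 : w ^ 2 ^ j ∈ Cm B := (Cm B).pow_mem hw _
  have h2 : w ^ 2 ^ j * w ^ 2 ^ j = 1 := by
    rw [← pow_two, ← pow_mul, ← pow_succ, ← hk, pow_orderOf_eq_one]
  have h3 := fx_cm hV hB (h _ h2) h1
  have h4 := orderOf_dvd_of_pow_eq_one h3
  rw [hk] at h4
  exact absurd (Nat.le_of_dvd (by positivity) h4)
    (not_le.2 (Nat.pow_lt_pow_right (by norm_num) (Nat.lt_succ_self j)))

/-- The squaring map. -/
def sq (V : Type*) [CommGroup V] : V →* V where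
  toFun x := x * x
  map_one' := mul_one 1
  map_mul' x y := by rw [mul_mul_mul_comm]

theorem sq_apply (x : V) : sq V x = x * x := rfl

theorem mem_ker {x : V} : x ∈ (sq V).ker ↔ x * x = 1 := Iff.rfl

theorem ker_inv (a : MulAut V) {x : V} (hx : x ∈ (sq V).ker) : a x ∈ (sq V).ker := by
  rw [mem_ker] at hx ⊢
  rw [← map_mul, hx, map_one]

theorem range_inv (a : MulAut V) {x : V} (hx : x ∈ (sq V).range) : a x ∈ (sq V).range := by
  obtain ⟨y, rfl⟩ := hx
  refine ⟨a y, ?_⟩
  rw [sq_apply, sq_apply, map_mul]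

theorem card_ker_mul_range : Nat.card (sq V).ker * Nat.card (sq V).range = Nat.card V := by
  rw [← Subgroup.index_ker]
  exact (sq V).ker.card_mul_index

theorem card_Fx_modEq {A : Subgroup (MulAut V)} (h3 : Nat.card A = 3) :
    Nat.card V ≡ Nat.card (Fx A) [MOD 3] := by
  have hp : Fact (Nat.Prime 3) := ⟨Nat.prime_three⟩
  have hA : IsPGroup 3 A := IsPGroup.of_card (n := 1) (by rw [h3, pow_one])
  have h1 := card_modEq hA (Set.univ : Set V) (fun _ _ _ _ => Set.mem_univ _)
  have h2 : Nat.card (Set.univ : Set V) = Nat.card V := Nat.card_congr (Equiv.Set.univ V)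
  have h4 : Nat.card {x : V // x ∈ (Set.univ : Set V) ∧ ∀ b ∈ A, b x = x} = Nat.card (Fx A) := by
    apply Nat.card_congr
    refine Equiv.subtypeEquivRight fun x => ?_
    rw [mem_Fx]
    exact ⟨fun h => h.2, fun h => ⟨Set.mem_univ _, h⟩⟩
  rwa [h2, h4] at h1

theorem card_Fx_ne {A : Subgroup (MulAut V)} (h3 : Nat.card A = 3) :
    Nat.card (Fx A) ≠ Nat.card V := by
  intro h
  have h1 : Fx A = ⊤ := Subgroup.card_eq_iff_eq_top (Fx A) |>.1 h
  have h2 := eq_one_of_fx (B := A) fun v => by rw [h1]; exact Subgroup.mem_top v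
  rw [h2, Subgroup.card_bot] at h3
  norm_num at h3

/-- Order three: the number of fixed points. -/
theorem fix_of_three (hV : IsPGroup 2 V) (hcard : Nat.card V ≤ 16) {A : Subgroup (MulAut V)}
    (h3 : Nat.card A = 3) :
    4 * Nat.card (Fx A) = Nat.card V ∨ (Nat.card V = 16 ∧ Nat.card (Fx A) = 1) := by
  have h1 := card_Fx_modEq h3
  have h2 := card_Fx_ne h3
  obtain ⟨j, hj, hj', hdvd⟩ := two_pow hV (Fx A) hcard
  obtain ⟨k, hk⟩ := hV.exists_card_eq
  have hk4 : k ≤ 4 := by
    by_contra h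
    push Not at h
    have : 2 ^ 5 ≤ 2 ^ k := Nat.pow_le_pow_right (by norm_num) h
    omega
  have hj4 : j ≤ 4 := by
    by_contra h
    push Not at h
    have : 2 ^ 5 ≤ 2 ^ j := Nat.pow_le_pow_right (by norm_num) h
    omega
  rw [hj, hk] at h1 h2 hdvd ⊢
  clear hj' hj hk hcard hV h3
  interval_cases k <;> interval_cases j <;> revert h1 h2 hdvd <;> decide

/-- **The non elementary case**. -/
theorem sq_case (hV : IsPGroup 2 V) (hcard : Nat.card V ≤ 16) (hne : ∃ x : V, x * x ≠ 1)
    {A : Subgroup (MulAut V)} (hA : Odd (Nat.card A)) :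
    Nat.card A = 1 ∨ (Nat.card A = 3 ∧ 4 * Nat.card (Fx A) = Nat.card V) ∨
      (Nat.card V = 16 ∧ Nat.card (sq V).ker = 4 ∧ (sq V).range = (sq V).ker) := by
  classical
  have hKR := card_ker_mul_range (V := V)
  set K := (sq V).ker with hK
  set R := (sq V).range with hR
  have hR1 : ∃ w ∈ R, w ≠ 1 ∧ w * w = 1 := by
    obtain ⟨x, hx⟩ := hne
    obtain ⟨k, hk⟩ := IsPGroup.iff_orderOf.1 hV x
    have hk2 : 2 ≤ k := by
      by_contra hlt
      apply hx
      have h1 : orderOf x ∣ 2 := by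
        rw [hk]
        exact (pow_dvd_pow 2 (show k ≤ 1 by omega)).trans (by norm_num)
      rw [← pow_two]
      exact orderOf_dvd_iff_pow_eq_one.1 h1
    obtain ⟨j, rfl⟩ := Nat.exists_eq_add_of_le hk2
    refine ⟨x ^ 2 ^ (j + 1), ⟨x ^ 2 ^ j, ?_⟩, ?_, ?_⟩
    · rw [sq_apply, ← pow_add, pow_succ]
      congr 1
      ring
    · intro h
      have h4 := orderOf_dvd_of_pow_eq_one h
      rw [hk] at h4
      exact absurd (Nat.le_of_dvd (by positivity) h4)
        (not_le.2 (Nat.pow_lt_pow_right (by norm_num) (by omega)))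
    · rw [← pow_add, ← two_mul, ← pow_succ', show j + 1 + 1 = 2 + j by ring, ← hk,
        pow_orderOf_eq_one]
  obtain ⟨w, hwR, hw1, hww⟩ := hR1
  have hwK : w ∈ K := mem_ker.2 hww
  obtain ⟨i, hi, hi16, -⟩ := two_pow hV K hcard
  obtain ⟨j, hj, hj16, -⟩ := two_pow hV R hcard
  have hi0 : i ≠ 0 := by
    rintro rfl
    rw [pow_zero, Subgroup.card_eq_one] at hi
    rw [hi, Subgroup.mem_bot] at hwK
    exact hw1 hwK
  have hj0 : j ≠ 0 := by
    rintro rfl
    rw [pow_zero, Subgroup.card_eq_one] at hj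
    rw [hj, Subgroup.mem_bot] at hwR
    exact hw1 hwR
  have hij : 2 ^ (i + j) ≤ 16 := by rw [pow_add, ← hi, ← hj, hKR]; exact hcard
  have hij4 : i + j ≤ 4 := by
    by_contra h
    push Not at h
    have : 2 ^ 5 ≤ 2 ^ (i + j) := Nat.pow_le_pow_right (by norm_num) h
    omega
  have hfixK : ∀ (B : Subgroup (MulAut V)), Odd (Nat.card B) → (∀ x ∈ K, ∀ b ∈ B, b x = x) →
      B = ⊥ := fun B hB h => eq_bot_of_invol hV hB fun x hx b hb => h x (mem_ker.2 hx) b hb
  -- the intersection
  have hRK : ∀ a ∈ A, ∀ c ∈ R ⊓ K, a c ∈ R ⊓ K := fun a _ c hc =>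
    Subgroup.mem_inf.2 ⟨range_inv a (Subgroup.mem_inf.1 hc).1, ker_inv a (Subgroup.mem_inf.1 hc).2⟩
  by_cases hi2 : i ≤ 2
  · have hK4 : Nat.card K ≤ 4 := by
      rw [hi]
      exact (Nat.pow_le_pow_right (by norm_num) hi2).trans (by norm_num)
    by_cases h2 : Nat.card (R ⊓ K : Subgroup V) ≤ 2
    · left
      have h3 : ∀ a ∈ A, a w = w := fix_of_two hA ((R ⊓ K : Subgroup V) : Set V) hRK h2
        (Subgroup.mem_inf.2 ⟨hwR, hwK⟩)
      have h4 := triv_of_fix hA (C := K) (fun a _ c hc => ker_inv a hc) hK4 hwK hw1 h3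
      rw [hfixK A hA h4, Subgroup.card_bot]
    · right; right
      have h3 : R ⊓ K = K := by
        refine Subgroup.eq_of_le_of_card_ge inf_le_right ?_
        obtain ⟨m, hm, -, -⟩ := two_pow hV (R ⊓ K) hcard
        have h4 : 2 ≤ m := by
          by_contra hlt
          apply h2
          rw [hm]
          exact (Nat.pow_le_pow_right (by norm_num) (show m ≤ 1 by omega)).trans (by norm_num)
        calc Nat.card K ≤ 4 := hK4
          _ = 2 ^ 2 := by norm_num
          _ ≤ 2 ^ m := Nat.pow_le_pow_right (by norm_num) h4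
          _ = _ := hm.symm
      have hKle : K ≤ R := inf_eq_right.1 h3
      have hii : i = 2 := by
        have h4 : Nat.card (R ⊓ K : Subgroup V) = 2 ^ i := by rw [h3, hi]
        rw [h4] at h2
        by_contra hlt
        have : i ≤ 1 := by omega
        exact h2 ((Nat.pow_le_pow_right (by norm_num) this).trans (by norm_num))
      subst hii
      have hj2 : j = 2 := by
        have h4 : Nat.card K ≤ Nat.card R := Subgroup.card_le_of_le hKle
        rw [hi, hj] at h4
        have := (Nat.pow_le_pow_iff_right (by norm_num : 1 < 2)).1 h4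
        omega
      subst hj2
      refine ⟨by rw [← hKR, hi, hj]; norm_num, by rw [hi]; norm_num, ?_⟩
      exact (Subgroup.eq_of_le_of_card_ge hKle (by rw [hi, hj])).symm
  · have hi3 : i = 3 := by omega
    have hj1 : j = 1 := by omega
    subst hi3 hj1
    have hV16 : Nat.card V = 16 := by rw [← hKR, hi, hj]; norm_num
    have hfw : ∀ a ∈ A, a w = w := fix_of_two hA (R : Set V) (fun a _ x hx => range_inv a hx)
      (by
        have : Nat.card (R : Set V) = Nat.card R := rfl
        rw [this, hj]; norm_num) hwR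
    have hFw : w ∈ Fx A := hfw
    -- a noncentral element of `K`
    have hcd := card_diff_one hwK hw1
    rw [hi] at hcd
    have hne' : Nonempty {x : V // x ∈ K ∧ x ≠ 1 ∧ x ≠ w} := by
      rw [← Finite.card_pos_iff]
      omega
    have key : ∀ v : V, v ∈ K → v ≠ 1 → v ≠ w → St A v = ⊥ := by
      intro v hvK hv1 hvw
      have hodd : Odd (Nat.card (St A v)) := Odd.of_dvd_nat hA (card_dvd_of_le (St_le A v))
      refine hfixK _ hodd ?_
      -- the quotient of order two
      obtain ⟨L, hL⟩ : ∃ L : Subgroup V, L = Fx (St A v) ⊓ K := ⟨_, rfl⟩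
      have hLK : L ≤ K := hL ▸ inf_le_right
      have hwL : w ∈ L := by
        rw [hL]
        exact Subgroup.mem_inf.2 ⟨fun b hb => hfw b hb.1, hwK⟩
      have hvL : v ∈ L := by
        rw [hL]
        exact Subgroup.mem_inf.2 ⟨fun b hb => hb.2, hvK⟩
      have hL4 : 4 ≤ Nat.card L := by
        have h1 := card_diff_one hwL hw1
        have h2 : Nonempty {x : V // x ∈ L ∧ x ≠ 1 ∧ x ≠ w} := ⟨⟨v, hvL, hv1, hvw⟩⟩
        have h3 := Finite.card_pos_iff.2 h2
        obtain ⟨m, hm, -, -⟩ := two_pow hV L hcard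
        have h4 : 2 ≤ m := by
          by_contra hlt
          have : 2 ^ m ≤ 2 ^ 1 := Nat.pow_le_pow_right (by norm_num) (by omega)
          omega
        rw [hm]
        calc 4 = 2 ^ 2 := by norm_num
          _ ≤ 2 ^ m := Nat.pow_le_pow_right (by norm_num) h4
      have hrel : L.relIndex K ≤ 2 := by
        have h1 : Nat.card L * L.relIndex K = Nat.card K := by
          have := Subgroup.card_mul_index (L.subgroupOf K)
          rwa [Nat.card_congr (Subgroup.subgroupOfEquivOfLe hLK).toEquiv] at this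
        rw [hi] at h1
        by_contra hlt
        push Not at hlt
        have : 4 * 3 ≤ Nat.card L * L.relIndex K := Nat.mul_le_mul hL4 hlt
        omega
      intro x hx b hb
      -- `b x * x⁻¹ ∈ L`
      have h1 : b x * x⁻¹ ∈ L := by
        by_cases hxL : x ∈ L
        · rw [hL] at hxL
          rw [(Subgroup.mem_inf.1 hxL).1 b hb, mul_inv_cancel]
          exact L.one_mem
        · have hbL : b x ∉ L := by
            intro h
            apply hxL
            rw [hL, Subgroup.mem_inf] at h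
            have h2 := h.1 b⁻¹ ((St A v).inv_mem hb)
            rw [MulAut.inv_apply_self] at h2
            rw [hL, Subgroup.mem_inf]
            rw [← h2] at h
            exact ⟨h.1, hx⟩
          have hbK : b x ∈ K := ker_inv b hx
          -- index two
          have h3 : L.relIndex K = 2 ∨ L.relIndex K = 1 := by
            have : L.relIndex K ≠ 0 := by
              have hfin : Finite (K ⧸ L.subgroupOf K) := inferInstance
              exact Subgroup.index_ne_zero_of_finite
            omega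
          rcases h3 with h3 | h3
          · have h4 := Subgroup.mul_mem_iff_of_index_two h3 (a := (⟨b x, hbK⟩ : K))
              (b := (⟨x, hx⟩ : K)⁻¹)
            rw [Subgroup.mem_subgroupOf, Subgroup.mem_subgroupOf, inv_mem_iff,
              Subgroup.mem_subgroupOf] at h4
            exact h4.2 ⟨fun h => absurd h hbL, fun h => absurd h hxL⟩
          · exact absurd (Subgroup.relIndex_eq_one.1 h3 hx) hxL
      have h2 : b x * x⁻¹ ∈ Fx (St A v) := by
        rw [hL] at h1
        exact (Subgroup.mem_inf.1 h1).1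
      exact mul_inv_eq_one.1 (fx_cm hV hodd h2 (mem_Cm _ hb x))
    obtain ⟨v, hvK, hv1, hvw⟩ := hne'.some
    have horb := orb A v
    rw [key v hvK hv1 hvw, Subgroup.card_bot, mul_one] at horb
    -- the orbit
    have hle : Nat.card {x : V // ∃ a ∈ A, a v = x} ≤ Nat.card {x : V // x ∈ K ∧ x ≠ 1 ∧ x ≠ w} := by
      refine Nat.card_le_card_of_injective
        (fun x : {x : V // ∃ a ∈ A, a v = x} => (⟨x.1, ?_⟩ : {x : V // x ∈ K ∧ x ≠ 1 ∧ x ≠ w}))
        ?_
      · obtain ⟨x, a, ha, rfl⟩ := x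
        refine ⟨ker_inv a hvK, fun h => hv1 ((MulEquiv.map_eq_one_iff a).1 h), fun h => ?_⟩
        rw [← hfw a ha] at h
        exact hvw (a.injective h)
      · intro x y h
        exact Subtype.ext (congrArg (fun z : {x : V // x ∈ K ∧ x ≠ 1 ∧ x ≠ w} => (z : V)) h)
    have h6 : Nat.card {x : V // x ∈ K ∧ x ≠ 1 ∧ x ≠ w} = 6 := by omega
    rw [h6, horb] at hle
    have h135 : Nat.card A = 1 ∨ Nat.card A = 3 ∨ Nat.card A = 5 := by
      obtain ⟨t, ht⟩ := hA
      omega
    rcases h135 with h | h | h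
    · exact Or.inl h
    · right; left
      refine ⟨h, ?_⟩
      rcases fix_of_three hV hcard h with h7 | ⟨-, h7⟩
      · exact h7
      · exfalso
        rw [Subgroup.card_eq_one] at h7
        rw [h7, Subgroup.mem_bot] at hFw
        exact hw1 hFw
    · exfalso
      -- five points in an orbit of length five
      obtain ⟨z, hz, hzo⟩ : ∃ z : {x : V // x ∈ K ∧ x ≠ 1 ∧ x ≠ w}, True ∧
          ¬ ∃ a ∈ A, a v = (z : V) := by
        by_contra hno
        push Not at hno
        have h7 : Nat.card {x : V // x ∈ K ∧ x ≠ 1 ∧ x ≠ w} ≤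
            Nat.card {x : V // ∃ a ∈ A, a v = x} :=
          Nat.card_le_card_of_injective (fun z => (⟨z.1, hno z trivial⟩ :
            {x : V // ∃ a ∈ A, a v = x})) fun x y hxy =>
              Subtype.ext (congrArg (fun z : {x : V // ∃ a ∈ A, a v = x} => (z : V)) hxy)
        rw [h6, horb, h] at h7
        omega
      have horz := orb A z.1
      rw [key z.1 z.2.1 z.2.2.1 z.2.2.2, Subgroup.card_bot, mul_one, h] at horz
      -- disjoint orbits
      have h8 : Nat.card ({x : V // ∃ a ∈ A, a v = x} ⊕ {x : V // ∃ a ∈ A, a z.1 = x}) ≤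
          Nat.card {x : V // x ∈ K ∧ x ≠ 1 ∧ x ≠ w} := by
        have hm : ∀ (y : V), y ∈ K → y ≠ 1 → y ≠ w → ∀ x : {x : V // ∃ a ∈ A, a y = x},
            x.1 ∈ K ∧ x.1 ≠ 1 ∧ x.1 ≠ w := by
          intro y hy hy1 hyw x
          obtain ⟨x, a, ha, rfl⟩ := x
          refine ⟨ker_inv a hy, fun h => hy1 ((MulEquiv.map_eq_one_iff a).1 h), fun h => ?_⟩
          rw [← hfw a ha] at h
          exact hyw (a.injective h)
        refine Nat.card_le_card_of_injective (Sum.elim
          (fun x => (⟨x.1, hm v hvK hv1 hvw x⟩ : {x : V // x ∈ K ∧ x ≠ 1 ∧ x ≠ w}))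
          (fun x => (⟨x.1, hm z.1 z.2.1 z.2.2.1 z.2.2.2 x⟩ :
            {x : V // x ∈ K ∧ x ≠ 1 ∧ x ≠ w}))) ?_
        have hdis : ∀ (x : {x : V // ∃ a ∈ A, a v = x}) (y : {x : V // ∃ a ∈ A, a z.1 = x}),
            x.1 ≠ y.1 := by
          rintro ⟨x, a, ha, rfl⟩ ⟨y, b, hb, rfl⟩ hxy
          apply hzo
          refine ⟨b⁻¹ * a, A.mul_mem (A.inv_mem hb) ha, ?_⟩
          rw [MulAut.mul_apply]
          change a v = b z.1 at hxy
          rw [hxy, MulAut.inv_apply_self]
        rintro (x | x) (y | y) hxy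
        · exact congrArg Sum.inl (Subtype.ext (congrArg
            (fun z : {x : V // x ∈ K ∧ x ≠ 1 ∧ x ≠ w} => (z : V)) hxy))
        · exact absurd (congrArg
            (fun z : {x : V // x ∈ K ∧ x ≠ 1 ∧ x ≠ w} => (z : V)) hxy) (hdis x y)
        · exact absurd (congrArg
            (fun z : {x : V // x ∈ K ∧ x ≠ 1 ∧ x ≠ w} => (z : V)) hxy).symm (hdis y x)
        · exact congrArg Sum.inr (Subtype.ext (congrArg
            (fun z : {x : V // x ∈ K ∧ x ≠ 1 ∧ x ≠ w} => (z : V)) hxy))
      rw [Nat.card_sum, h6, horb, horz, h] at h8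
      omega

omit [Finite V] in
theorem four (x : V) : (x * x) * (x * x) = x ^ 4 := by
  rw [← pow_two (x * x), ← pow_two x, ← pow_mul]

/-- The group `C₄ × C₄`. -/
theorem iso_of_sq (h16 : Nat.card V = 16) (hK4 : Nat.card (sq V).ker = 4)
    (hKR : (sq V).range = (sq V).ker) :
    Nonempty (V ≃* Multiplicative (ZMod (2 ^ 2) × ZMod (2 ^ 2))) := by
  classical
  -- two independent elements
  have hx4 : ∀ x : V, x ^ 4 = 1 := by
    intro x
    have h1 : x * x ∈ (sq V).ker := by
      rw [← hKR]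
      exact ⟨x, rfl⟩
    rw [mem_ker] at h1
    rw [← four, h1]
  have h1 : (1 : V) ∈ (sq V).ker := one_mem _
  obtain ⟨a, haK, ha1⟩ : ∃ a ∈ (sq V).ker, a ≠ 1 := by
    by_contra hno
    push Not at hno
    have : (sq V).ker = ⊥ := (Subgroup.eq_bot_iff_forall _).2 hno
    rw [this, Subgroup.card_bot] at hK4
    omega
  have hcd := card_diff_one haK ha1
  rw [hK4] at hcd
  have hne' : Nonempty {x : V // x ∈ (sq V).ker ∧ x ≠ 1 ∧ x ≠ a} := by
    rw [← Finite.card_pos_iff]
    omega
  obtain ⟨b, hbK, hb1, hba⟩ := hne'.some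
  have hab1 : a * b ≠ 1 := by
    intro h
    apply hba
    have h2 : a * a = 1 := haK
    exact (mul_left_cancel (h2.trans h.symm)).symm
  rw [← hKR] at haK hbK
  obtain ⟨x, rfl⟩ := haK
  obtain ⟨y, rfl⟩ := hbK
  rw [sq_apply] at ha1 hb1 hba hab1
  -- the homomorphism
  let fx : ZMod (2 ^ 2) →+ Additive V := ZMod.lift (2 ^ 2) ⟨zmultiplesHom (Additive V)
    (Additive.ofMul x), by
      change ((2 ^ 2 : ℕ) : ℤ) • Additive.ofMul x = 0
      rw [natCast_zsmul, ← ofMul_pow]
      exact congrArg Additive.ofMul (hx4 x)⟩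
  let fy : ZMod (2 ^ 2) →+ Additive V := ZMod.lift (2 ^ 2) ⟨zmultiplesHom (Additive V)
    (Additive.ofMul y), by
      change ((2 ^ 2 : ℕ) : ℤ) • Additive.ofMul y = 0
      rw [natCast_zsmul, ← ofMul_pow]
      exact congrArg Additive.ofMul (hx4 y)⟩
  have hfx : ∀ n : ℕ, fx (n : ZMod (2 ^ 2)) = Additive.ofMul (x ^ n) := by
    intro n
    have h2 := ZMod.lift_coe (2 ^ 2) (A := Additive V) ⟨zmultiplesHom (Additive V)
      (Additive.ofMul x), by
      change ((2 ^ 2 : ℕ) : ℤ) • Additive.ofMul x = 0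
      rw [natCast_zsmul, ← ofMul_pow]
      exact congrArg Additive.ofMul (hx4 x)⟩ (n : ℤ)
    rw [Int.cast_natCast] at h2
    rw [ofMul_pow]
    refine h2.trans ?_
    change (n : ℤ) • Additive.ofMul x = _
    rw [natCast_zsmul]
  have hfy : ∀ n : ℕ, fy (n : ZMod (2 ^ 2)) = Additive.ofMul (y ^ n) := by
    intro n
    have h2 := ZMod.lift_coe (2 ^ 2) (A := Additive V) ⟨zmultiplesHom (Additive V)
      (Additive.ofMul y), by
      change ((2 ^ 2 : ℕ) : ℤ) • Additive.ofMul y = 0
      rw [natCast_zsmul, ← ofMul_pow]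
      exact congrArg Additive.ofMul (hx4 y)⟩ (n : ℤ)
    rw [Int.cast_natCast] at h2
    rw [ofMul_pow]
    refine h2.trans ?_
    change (n : ℤ) • Additive.ofMul y = _
    rw [natCast_zsmul]
  let f : ZMod (2 ^ 2) × ZMod (2 ^ 2) →+ Additive V := fx.coprod fy
  let F : Multiplicative (ZMod (2 ^ 2) × ZMod (2 ^ 2)) →* V := AddMonoidHom.toMultiplicativeLeft f
  have hinj : Function.Injective f := by
    rw [injective_iff_map_eq_zero]
    rintro ⟨i, j⟩ hij
    have hij' : fx i + fy j = 0 := hij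
    obtain ⟨m, hm, rfl⟩ : ∃ m : ℕ, m < 4 ∧ (m : ZMod (2 ^ 2)) = i :=
      ⟨i.val, ZMod.val_lt i, ZMod.natCast_zmod_val i⟩
    obtain ⟨n, hn, rfl⟩ : ∃ n : ℕ, n < 4 ∧ (n : ZMod (2 ^ 2)) = j :=
      ⟨j.val, ZMod.val_lt j, ZMod.natCast_zmod_val j⟩
    rw [hfx, hfy, ← ofMul_mul] at hij'
    have hij2 : x ^ m * y ^ n = 1 := hij'
    have hsq : (x * x) ^ m * (y * y) ^ n = 1 := by
      calc (x * x) ^ m * (y * y) ^ n = (x ^ m * y ^ n) * (x ^ m * y ^ n) := by
            rw [mul_pow, mul_pow, mul_mul_mul_comm]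
        _ = 1 := by rw [hij2, one_mul]
    have hxx : (x * x) * (x * x) = 1 := by rw [four, hx4]
    have hyy : (y * y) * (y * y) = 1 := by rw [four, hx4]
    have e2 : ∀ z : V, z * z = 1 → z ^ 2 = 1 := fun z hz => by rw [pow_two, hz]
    have e3 : ∀ z : V, z * z = 1 → z ^ 3 = z := fun z hz => by rw [pow_succ, e2 z hz, one_mul]
    have hgoal : m = 0 ∧ n = 0 := by
      interval_cases m <;> interval_cases n
      all_goals
        simp only [pow_zero, pow_one, e2 _ hxx, e3 _ hxx, e2 _ hyy, e3 _ hyy, one_mul,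
          mul_one] at hsq
      all_goals first
        | exact ⟨rfl, rfl⟩
        | exact absurd hsq ha1
        | exact absurd hsq hb1
        | exact absurd hsq hab1
        | (exfalso
           simp only [pow_zero, pow_two, one_mul, mul_one] at hij2
           first
             | exact ha1 hij2
             | exact hb1 hij2
             | exact hab1 hij2)
    rw [hgoal.1, hgoal.2]
    rfl
  have hFinj : Function.Injective F := fun u v h => hinj h
  have hbij : Function.Bijective F := by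
    rw [Nat.bijective_iff_injective_and_card]
    refine ⟨hFinj, ?_⟩
    rw [h16]
    have h3 : Nat.card (Multiplicative (ZMod (2 ^ 2) × ZMod (2 ^ 2))) =
        Nat.card (ZMod (2 ^ 2) × ZMod (2 ^ 2)) := rfl
    rw [h3, Nat.card_prod, Nat.card_zmod]
    norm_num
  exact ⟨(MulEquiv.ofBijective F hbij).symm⟩

end Cfsg.Agent.H624.AbSq
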