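import Mathlib
import Cfsg.Agent.H624.AbSq
import Cfsg.Agent.H617.StarAut
import Cfsg.Agent.H639.FormFree2
import Cfsg.Agent.S4552

/-!
# Ranks and forms of `2`-blocks with abelian defect groups of order at most `16`

* `free_of_autG`: freeness in terms of the group of automorphisms `autG a`;
* `local_of_one`, `local_of_three`, `local_of_five`: inertial index `1`, `3`, `5`;
* `rank_le_three_of_sq`: abelian, not elementary, of order at most `16`.
-/

set_option autoImplicit false
set_option linter.unusedSectionVars false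

open Cfsg
open scoped ComplexConjugate

namespace Cfsg.Agent.H624.AbRank

open Cfsg.Agent.H651 Cfsg.Agent.H649 Cfsg.Agent.Characters
open Cfsg.Agent.H652.DoubleCount Cfsg.Agent.H645.FusCount Cfsg.Agent.H650
open Cfsg.Agent.H645.TraceForm Cfsg.Agent.H645.LocMono Cfsg.Agent.H645.Watanabe
open Cfsg.Agent.H617.AbelRank Cfsg.Agent.H617.StarAut
open Cfsg.Agent.H639 Cfsg.Agent.H616.Form Cfsg.Agent.H624.AbSq
open Cfsg.Agent.H809.OddAct (St Fx mem_Fx)

universe u

section group

variable {V : Type*} [Group V] [Finite V]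

theorem fix_group (hab : ∀ x y : V, x * y = y * x) (hV : IsPGroup 2 V) (hcard : Nat.card V ≤ 16)
    {A : Subgroup (MulAut V)} (h3 : Nat.card A = 3) :
    4 * Nat.card {x : V // ∀ s ∈ A, s x = x} = Nat.card V ∨
      (Nat.card V = 16 ∧ Nat.card {x : V // ∀ s ∈ A, s x = x} = 1) := by
  let _ : CommGroup V := { ‹Group V› with mul_comm := hab }
  exact fix_of_three (V := V) (A := A) hV hcard h3

theorem sq_group (hab : ∀ x y : V, x * y = y * x) (hV : IsPGroup 2 V) (hcard : Nat.card V ≤ 16)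
    (hne : ∃ x : V, x * x ≠ 1) {A : Subgroup (MulAut V)} (hA : Odd (Nat.card A)) :
    Nat.card A = 1 ∨ (Nat.card A = 3 ∧ 4 * Nat.card {x : V // ∀ s ∈ A, s x = x} = Nat.card V) ∨
      Nonempty (V ≃* Multiplicative (ZMod (2 ^ 2) × ZMod (2 ^ 2))) := by
  let _ : CommGroup V := { ‹Group V› with mul_comm := hab }
  rcases sq_case (V := V) hV hcard hne hA with h | h | ⟨h1, h2, h3⟩
  · exact Or.inl h
  · exact Or.inr (Or.inl h)
  · exact Or.inr (Or.inr (iso_of_sq h1 h2 h3))

omit [Finite V] in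
theorem eq_one_of_three {A : Subgroup (MulAut V)} (h3 : Nat.card A = 3)
    (h1 : Nat.card {x : V // ∀ s ∈ A, s x = x} = 1) :
    ∀ α ∈ A, ∀ x : V, x ≠ 1 → α x = x → α = 1 := by
  intro α hα x hx hαx
  by_contra hne
  have hp : Fact (Nat.Prime 3) := ⟨Nat.prime_three⟩
  have hle : Subgroup.zpowers α ≤ A := Subgroup.zpowers_le.2 hα
  have hfin : Finite A := Nat.finite_of_card_ne_zero (by rw [h3]; norm_num)
  have h4 : Subgroup.zpowers α = A := by
    have h5 : orderOf (⟨α, hα⟩ : A) = 3 := by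
      have h6 : orderOf (⟨α, hα⟩ : A) ∣ 3 := h3 ▸ orderOf_dvd_natCard _
      rcases (Nat.dvd_prime Nat.prime_three).1 h6 with h7 | h7
      · exact absurd (congrArg Subtype.val (orderOf_eq_one_iff.1 h7)) hne
      · exact h7
    refine Subgroup.eq_of_le_of_card_ge hle ?_
    rw [h3, Nat.card_zpowers, ← Subgroup.orderOf_coe] at *
    exact h5.ge
  have hfx : ∀ s ∈ A, s x = x := by
    intro s hs
    rw [← h4] at hs
    obtain ⟨n, rfl⟩ := hs
    have h5 : α ∈ MulAction.stabilizer (MulAut V) x := hαx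
    exact (MulAction.stabilizer (MulAut V) x).zpow_mem h5 n
  have h5 := (Nat.card_eq_one_iff_unique.1 h1).1
  exact hx (congrArg Subtype.val (h5.elim ⟨x, hfx⟩ ⟨1, fun s _ => map_one s⟩))

end group

variable {G : Type u} [Group G]

section

variable [Finite G] {p : ℕ} [Fact p.Prime] {M : Ideal AlgInt} (hM : IsPModular p M)
  {B : Set (IrrCharacter G)} {a : BrauerPairIdx G}
  (hmax : IsMaximalBrauerPair p M B a.1 a.2) (hab : ∀ x ∈ a.1, ∀ y ∈ a.1, x * y = y * x)

include hM hmax hab

/-- Freeness in terms of `autG a`. -/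
theorem free_of_autG (h : ∀ α ∈ autG a, ∀ x : a.1, x ≠ 1 → α x = x → α = 1) : Free a := by
  have := Fintype.ofFinite G
  have := Cfsg.Agent.Blocks.Local.isPrime_of_isPModular hM
  intro t ht x hx hx1 htx
  obtain ⟨α, hα, hαt⟩ := exists_autG hM hmax hab (t := t) ht
  have h1 := h α hα ⟨x, hx⟩ (fun h => hx1 (congrArg Subtype.val h)) (Subtype.ext (by
    rw [hαt]
    exact htx))
  rw [Subgroup.mem_centralizer_iff]
  intro y hy
  have h2 := hαt ⟨y, hy⟩
  rw [h1] at h2
  have h3 : y = t * y * t⁻¹ := h2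
  calc y * t = t * y * t⁻¹ * t := by rw [← h3]
    _ = t * y := by group

theorem formBd_of_autG (hne : a.1 ≠ ⊥)
    (h : ∀ α ∈ autG a, ∀ x : a.1, x ≠ 1 → α x = x → α = 1) : FormBd p B (Nat.card a.1) :=
  formBd_of_free hM hmax hab (free_of_autG hM hmax hab h) hne

/-- The fixed points. -/
theorem card_fix : Nat.card {w : G // w ∈ a.1 ∧ ∀ t ∈ stab a, t * w * t⁻¹ = w} =
    Nat.card {x : a.1 // ∀ s ∈ autG a, s x = x} := by
  have := Fintype.ofFinite G
  have := Cfsg.Agent.Blocks.Local.isPrime_of_isPModular hM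
  refine Nat.card_congr
      { toFun := fun w => ⟨⟨w.1, w.2.1⟩, fun s hs => ?_⟩
        invFun := fun x => ⟨x.1, x.1.2, fun t ht => ?_⟩
        left_inv := fun _ => rfl
        right_inv := fun _ => rfl }
  · obtain ⟨t, ht, hst⟩ := (mem_autG hM hmax hab).1 hs
    apply Subtype.ext
    rw [hst]
    exact w.2.2 t ht
  · obtain ⟨α, hα, h⟩ := exists_autG hM hmax hab ht
    rw [← h, x.2 α hα]

theorem relIndex_eq : (Subgroup.centralizer (a.1 : Set G)).relIndex (stab a) =
    Nat.card (autG a) := by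
  have := Fintype.ofFinite G
  have := Cfsg.Agent.Blocks.Local.isPrime_of_isPModular hM
  exact (card_autG hM hmax hab).symm

theorem form_of_one (hne : a.1 ≠ ⊥) (h1 : Nat.card (autG a) = 1) :
    FormBd p B (Nat.card a.1) := by
  refine formBd_of_autG hM hmax hab hne fun α hα x _ _ => ?_
  rw [Subgroup.card_eq_one] at h1
  rw [h1, Subgroup.mem_bot] at hα
  exact hα

theorem odd_autG : ¬ p ∣ Nat.card (autG a) := by
  have := Fintype.ofFinite G
  have := Cfsg.Agent.Blocks.Local.isPrime_of_isPModular hM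
  exact not_dvd_card_autG hM hmax hab

/-- Trivial inertial quotient: rank one. -/
theorem rank_of_one (h1 : Nat.card (autG a) = 1) : blockRank p B = 1 := by
  have := Fintype.ofFinite G
  have := Cfsg.Agent.Blocks.Local.isPrime_of_isPModular hM
  refine rank_one hM hmax hab fun t ht x hx => ?_
  have h2 := relIndex_eq hM hmax hab
  rw [h1, Subgroup.relIndex_eq_one] at h2
  have h3 := Subgroup.mem_centralizer_iff.1 (h2 ht) x hx
  rw [← h3]
  group

end

section two

variable [Finite G] {M : Ideal AlgInt} (hM : IsPModular 2 M)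
  {B : Set (IrrCharacter G)} {a : BrauerPairIdx G}
  (hmax : IsMaximalBrauerPair 2 M B a.1 a.2) (hab : ∀ x ∈ a.1, ∀ y ∈ a.1, x * y = y * x)

include hM hmax hab

theorem rank_of_three (h3 : Nat.card (autG a) = 3)
    (h4 : 4 * Nat.card {x : a.1 // ∀ s ∈ autG a, s x = x} = Nat.card a.1) :
    blockRank 2 B ≤ 3 := by
  have hp2 : Fact (Nat.Prime 2) := ⟨Nat.prime_two⟩
  have := Fintype.ofFinite G
  have := Cfsg.Agent.Blocks.Local.isPrime_of_isPModular hM
  refine rank_le_three_of_three hM hmax hab ((relIndex_eq hM hmax hab).trans h3) ?_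
  rw [card_fix hM hmax hab, h4]

/-- Inertial index three. -/
theorem local_of_three (hcard : Nat.card a.1 ≤ 16) (h3 : Nat.card (autG a) = 3) :
    blockRank 2 B ≤ 3 ∨ FormBd 2 B (Nat.card a.1) := by
  have hp2 : Fact (Nat.Prime 2) := ⟨Nat.prime_two⟩
  rcases fix_group (fun x y => Subtype.ext (hab x x.2 y y.2)) hmax.1.1.1 hcard h3 with h | ⟨h16, h1⟩
  · exact Or.inl (rank_of_three hM hmax hab h3 h)
  · refine Or.inr (formBd_of_autG hM hmax hab ?_ (eq_one_of_three h3 h1))
    intro h
    rw [h, Subgroup.card_bot] at h16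
    omega

/-- Abelian defect group of order at most `16`, not elementary: rank at most three. -/
theorem rank_le_three_of_sq (hcard : Nat.card a.1 ≤ 16) (hne : ∃ x ∈ a.1, x * x ≠ 1) :
    blockRank 2 B ≤ 3 := by
  have hp2 : Fact (Nat.Prime 2) := ⟨Nat.prime_two⟩
  have := Fintype.ofFinite G
  have := Cfsg.Agent.Blocks.Local.isPrime_of_isPModular hM
  have hA : Odd (Nat.card (autG a)) := by
    rw [← Nat.not_even_iff_odd, even_iff_two_dvd]
    exact odd_autG hM hmax hab
  obtain ⟨x, hx, hxx⟩ := hne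
  rcases sq_group (fun x y => Subtype.ext (hab x x.2 y y.2)) hmax.1.1.1 hcard
    ⟨⟨x, hx⟩, fun h => hxx (congrArg Subtype.val h)⟩ hA with h | ⟨h3, h4⟩ | h
  · rw [rank_of_one hM hmax hab h]
    norm_num
  · exact rank_of_three hM hmax hab h3 h4
  · have hD := Cfsg.Agent.H644.isDefectGroup_of_isMaximalBrauerPair hM hmax
    rcases Cfsg.Agent.S4552.result M hM B hmax.1.2.1 a.1 hD 2 le_rfl h with h | h
    · rw [h.1]; norm_num
    · exact h.1.le

end two

end Cfsg.Agent.H624.AbRank
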