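import Mathlib
import Cfsg.Agent.H616.FormBd
import Cfsg.Agent.H644.CentralQuot
import Cfsg.Agent.H658.Domin

/-!
# Positive forms and domination of blocks by a central `p`-subgroup

`formBd_of_defl`: a positive form for the dominated block `defl U b` of trace at most `n` gives a
positive form for `b` of trace at most `|U| * n`.
-/

set_option autoImplicit false
set_option linter.unusedSectionVars false

open Cfsg Matrix
open scoped ComplexConjugate

namespace Cfsg.Agent.H624.FormDefl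

open Cfsg.Agent.Blocks.Blau Cfsg.Agent.Blocks.Local Cfsg.Agent.Characters
open Cfsg.Agent.Blocks.PRegular
open Cfsg.Agent.H613.RegGram
open Cfsg.Agent.H616.Form Cfsg.Agent.H644.CentralQuot Cfsg.Agent.H658

universe u

variable {H : Type u} [Group H] {p : ℕ} [Fact p.Prime] {M : Ideal AlgInt}

/-- A form is reproduced by the Gram matrix of the block. -/
theorem IsForm.repr [Fintype H] (hM : IsPModular p M) {b : Set (IrrCharacter H)} [Fintype b]
    (hb : IsPBlock M b) {n : ℕ} {κ : Type*} [Fintype κ] {T : b → κ → ℝ} (hT : IsForm p b n T)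
    (θ : b) (i : κ) :
    (T θ i : ℂ) = ∑ ζ : b, rg p (θ : H → ℂ) (ζ : H → ℂ) * (T ζ i : ℂ) := by
  classical
  have hp0 : (p : ℂ) ^ blockDefect p b ≠ 0 := pow_ne_zero _ (by
    exact_mod_cast (Fact.out : p.Prime).ne_zero)
  have hint : ∀ ζ : b, ∃ k : ℤ, (p : ℂ) ^ blockDefect p b *
      rg p (θ : H → ℂ) (ζ : H → ℂ) = k := by
    intro ζ
    obtain ⟨k, hk⟩ := exists_int_rg (p := p) hM (B := b) θ.2 (ζ : IrrCharacter H)
    exact ⟨k, by rw [← hk]⟩
  choose k hk using hint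
  have hrel : Rel p b (fun ζ => (if ζ = θ then (p : ℤ) ^ blockDefect p b else 0) - k ζ) := by
    intro g hg
    have h1 := congrFun (regPart_eq_sum_block hM hb θ.2) g
    rw [regPart_of_not_dvd hg, Finset.sum_apply] at h1
    push_cast
    simp only [sub_mul, Finset.sum_sub_distrib]
    have h2 : ∑ ζ : b, (if ζ = θ then (p : ℂ) ^ blockDefect p b else 0) *
        ((ζ : IrrCharacter H) : H → ℂ) g =
        (p : ℂ) ^ blockDefect p b * ((θ : IrrCharacter H) : H → ℂ) g := by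
      rw [Finset.sum_eq_single θ]
      · rw [if_pos rfl]
      · intro ζ _ hζ
        rw [if_neg hζ, zero_mul]
      · intro h
        exact absurd (Finset.mem_univ _) h
    rw [h2, h1, Finset.mul_sum, ← Finset.sum_sub_distrib]
    refine Finset.sum_eq_zero fun ζ _ => ?_
    rw [← hk, Pi.smul_apply, smul_eq_mul]
    ring
  have h1 := hT.zero _ hrel i
  push_cast at h1
  simp only [sub_mul, Finset.sum_sub_distrib] at h1
  have h2 : ∑ ζ : b, (if ζ = θ then (p : ℝ) ^ blockDefect p b else 0) * T ζ i =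
      (p : ℝ) ^ blockDefect p b * T θ i := by
    rw [Finset.sum_eq_single θ]
    · rw [if_pos rfl]
    · intro ζ _ hζ
      rw [if_neg hζ, zero_mul]
    · intro h
      exact absurd (Finset.mem_univ _) h
  rw [h2, sub_eq_zero] at h1
  have h3 := congrArg (fun r : ℝ => (r : ℂ)) h1
  push_cast at h3
  apply mul_left_cancel₀ hp0
  rw [h3, Finset.mul_sum]
  refine Finset.sum_congr rfl fun ζ _ => ?_
  rw [← hk]
  ring

/-- **Domination**. -/
theorem formBd_of_defl [Finite H] (hM : IsPModular p M) {U : Subgroup H} [U.Normal]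
    (hU : U ≤ Subgroup.center H) (hp : IsPGroup p U) {b : Set (IrrCharacter H)}
    (hb : IsPBlock M b) {n : ℕ} (h : FormBd p (defl U b) n) : FormBd p b (Nat.card U * n) := by
  classical
  have := Fintype.ofFinite H
  have := Fintype.ofFinite (H ⧸ U)
  have := Core.finite_irr (G := H)
  have := Core.finite_irr (G := H ⧸ U)
  have : Fintype b := Fintype.ofFinite _
  have : Fintype (defl U b) := Fintype.ofFinite _
  obtain ⟨N, T, hT⟩ := h.exists
  have hbd := isPBlock_defl hM hU hp hb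
  have hm : ∀ ψ : b, ∃ m : defl U b → ℤ, ∀ g : H, ¬ p ∣ orderOf g →
      (ψ : H → ℂ) g = ∑ θ : defl U b, (m θ : ℂ) * (infl U (θ : IrrCharacter (H ⧸ U)) : H → ℂ) g :=
    fun ψ => exists_int_defl hM hU hp hb ψ.2
  choose m hm using hm
  have hU0 : (Nat.card U : ℂ) ≠ 0 := by exact_mod_cast Nat.card_pos.ne'
  -- the values of combinations
  have hval : ∀ (c : b → ℤ) (g : H), ¬ p ∣ orderOf g →
      ∑ θ : defl U b, ((∑ ψ, c ψ * m ψ θ : ℤ) : ℂ) *
        ((θ : IrrCharacter (H ⧸ U)) : H ⧸ U → ℂ) (QuotientGroup.mk g) =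
      ∑ ψ : b, (c ψ : ℂ) * ((ψ : IrrCharacter H) : H → ℂ) g := by
    intro c g hg
    push_cast
    simp only [Finset.sum_mul]
    rw [Finset.sum_comm]
    refine Finset.sum_congr rfl fun ψ _ => ?_
    rw [hm ψ g hg, Finset.mul_sum]
    refine Finset.sum_congr rfl fun θ _ => ?_
    rw [infl_apply]
    ring
  have hrel : ∀ c : b → ℤ, Rel p b c ↔ Rel p (defl U b) (fun θ => ∑ ψ, c ψ * m ψ θ) := by
    intro c
    constructor
    · intro hc x hx
      obtain ⟨g, hg, rfl⟩ := exists_isPRegular_lift H p U hx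
      rw [hval c g hg]
      exact hc g hg
    · intro hc g hg
      rw [← hval c g hg]
      exact hc _ (not_dvd_orderOf_mk hg)
  have hsum : ∀ (c : b → ℤ) (i : Fin N), ∑ ψ : b, (c ψ : ℝ) * ∑ θ : defl U b, (m ψ θ : ℝ) * T θ i =
      ∑ θ : defl U b, ((∑ ψ, c ψ * m ψ θ : ℤ) : ℝ) * T θ i := by
    intro c i
    push_cast
    simp only [Finset.sum_mul, Finset.mul_sum]
    rw [Finset.sum_comm]
    refine Finset.sum_congr rfl fun θ _ => Finset.sum_congr rfl fun ψ _ => ?_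
    ring
  -- the trace
  have hrg : ∀ (ψ : b) (ζ : defl U b), (Nat.card U : ℂ) *
      rg p (ψ : H → ℂ) (infl U (ζ : IrrCharacter (H ⧸ U)) : H → ℂ) =
      ∑ θ : defl U b, (m ψ θ : ℂ) * rg p (θ : H ⧸ U → ℂ) (ζ : H ⧸ U → ℂ) := by
    intro ψ ζ
    have h1 : rg p (ψ : H → ℂ) (infl U (ζ : IrrCharacter (H ⧸ U)) : H → ℂ) =
        ∑ θ : defl U b, (m ψ θ : ℂ) * rg p (infl U (θ : IrrCharacter (H ⧸ U)) : H → ℂ)
          (infl U (ζ : IrrCharacter (H ⧸ U)) : H → ℂ) := by
      simp only [rg_def, H613.Contrib.pair_eq_sum_filter, Finset.mul_sum]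
      rw [Finset.sum_comm]
      refine Finset.sum_congr rfl fun g hg => ?_
      rw [hm ψ g (Finset.mem_filter.1 hg).2, Finset.sum_mul, Finset.mul_sum]
      refine Finset.sum_congr rfl fun θ _ => ?_
      ring
    rw [h1, Finset.mul_sum]
    refine Finset.sum_congr rfl fun θ _ => ?_
    rw [rg_infl hU hp]
    ring
  have hTrep : ∀ (ψ : b) (i : Fin N), ((∑ θ : defl U b, (m ψ θ : ℝ) * T θ i : ℝ) : ℂ) =
      (Nat.card U : ℂ) * ∑ ζ : defl U b,
        rg p (ψ : H → ℂ) (infl U (ζ : IrrCharacter (H ⧸ U)) : H → ℂ) * (T ζ i : ℂ) := by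
    intro ψ i
    push_cast
    rw [Finset.mul_sum]
    have h1 : ∀ ζ : defl U b, (Nat.card U : ℂ) *
        (rg p (ψ : H → ℂ) (infl U (ζ : IrrCharacter (H ⧸ U)) : H → ℂ) * (T ζ i : ℂ)) =
        ∑ θ : defl U b, (m ψ θ : ℂ) * (rg p (θ : H ⧸ U → ℂ) (ζ : H ⧸ U → ℂ) * (T ζ i : ℂ)) := by
      intro ζ
      rw [← mul_assoc, hrg, Finset.sum_mul]
      refine Finset.sum_congr rfl fun θ _ => ?_
      ring
    rw [Finset.sum_congr rfl fun ζ _ => h1 ζ, Finset.sum_comm]
    refine Finset.sum_congr rfl fun θ _ => ?_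
    rw [← Finset.mul_sum, ← IsForm.repr hM hbd hT]
  have htr : ∀ i : Fin N, ∑ ψ : b, (∑ θ : defl U b, (m ψ θ : ℝ) * T θ i) ^ 2 =
      (Nat.card U : ℝ) * ∑ θ : defl U b, T θ i ^ 2 := by
    intro i
    have h1 : ((∑ ψ : b, (∑ θ : defl U b, (m ψ θ : ℝ) * T θ i) ^ 2 : ℝ) : ℂ) =
        (((Nat.card U : ℝ) * ∑ θ : defl U b, T θ i ^ 2 : ℝ) : ℂ) := by
      rw [Complex.ofReal_sum]
      have h2 : ∀ ψ : b, (((∑ θ : defl U b, (m ψ θ : ℝ) * T θ i) ^ 2 : ℝ) : ℂ) =
          (Nat.card U : ℂ) ^ 2 * ∑ ζ : defl U b, ∑ ζ' : defl U b,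
            (T ζ i : ℂ) * (T ζ' i : ℂ) *
            (rg p (infl U (ζ : IrrCharacter (H ⧸ U)) : H → ℂ) (ψ : H → ℂ) *
              rg p (ψ : H → ℂ) (infl U (ζ' : IrrCharacter (H ⧸ U)) : H → ℂ)) := by
        intro ψ
        rw [Complex.ofReal_pow, hTrep, mul_pow, pow_two (∑ ζ : defl U b, _), Finset.sum_mul_sum]
        congr 1
        refine Finset.sum_congr rfl fun ζ _ => Finset.sum_congr rfl fun ζ' _ => ?_
        rw [rg_comm p (Core.isIrr_isCharacter (ψ : IrrCharacter H).2)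
          (Core.isIrr_isCharacter (infl U (ζ : IrrCharacter (H ⧸ U))).2)]
        ring
      rw [Finset.sum_congr rfl fun ψ _ => h2 ψ, ← Finset.mul_sum, Finset.sum_comm]
      have h3 : ∀ ζ : defl U b, ∑ ψ : b, ∑ ζ' : defl U b,
            (T ζ i : ℂ) * (T ζ' i : ℂ) *
            (rg p (infl U (ζ : IrrCharacter (H ⧸ U)) : H → ℂ) (ψ : H → ℂ) *
              rg p (ψ : H → ℂ) (infl U (ζ' : IrrCharacter (H ⧸ U)) : H → ℂ)) =
          (T ζ i : ℂ) * ((Nat.card U : ℂ)⁻¹ * (T ζ i : ℂ)) := by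
        intro ζ
        rw [Finset.sum_comm]
        have h4 : ∀ ζ' : defl U b, ∑ ψ : b, (T ζ i : ℂ) * (T ζ' i : ℂ) *
            (rg p (infl U (ζ : IrrCharacter (H ⧸ U)) : H → ℂ) (ψ : H → ℂ) *
              rg p (ψ : H → ℂ) (infl U (ζ' : IrrCharacter (H ⧸ U)) : H → ℂ)) =
            (T ζ i : ℂ) * ((Nat.card U : ℂ)⁻¹ *
              (rg p (ζ : H ⧸ U → ℂ) (ζ' : H ⧸ U → ℂ) * (T ζ' i : ℂ))) := by
          intro ζ'
          rw [← Finset.mul_sum, sum_rg_mul_rg hM hb (mem_defl.1 ζ.2), rg_infl hU hp]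
          field_simp
        rw [Finset.sum_congr rfl fun ζ' _ => h4 ζ', ← Finset.mul_sum, ← Finset.mul_sum,
          ← IsForm.repr hM hbd hT]
      rw [Finset.sum_congr rfl fun ζ _ => h3 ζ]
      push_cast
      rw [Finset.mul_sum, Finset.mul_sum]
      refine Finset.sum_congr rfl fun ζ _ => ?_
      field_simp
    exact_mod_cast h1
  refine IsForm.formBd (T := fun ψ i => ∑ θ : defl U b, (m ψ θ : ℝ) * T θ i) ⟨?_, ?_, ?_⟩
  · intro c hc i
    rw [hsum]
    exact hT.zero _ ((hrel c).1 hc) i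
  · intro c hc
    simp only [hsum]
    exact hT.one_le _ fun h1 => hc ((hrel c).2 h1)
  · rw [Finset.sum_comm, Finset.sum_congr rfl fun i _ => htr i, ← Finset.mul_sum,
      Finset.sum_comm]
    push_cast
    exact mul_le_mul_of_nonneg_left hT.sum_le (by positivity)

end Cfsg.Agent.H624.FormDefl
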