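import Mathlib
import Cfsg.Agent.H616.FormMain
import Cfsg.Agent.H624.FormDefl
import Cfsg.Agent.H624.AbRank
import Cfsg.Agent.H658.Major
import Cfsg.Agent.S0973
import Cfsg.Agent.S4540
import Cfsg.Agent.H617.SmallRank

/-!
# Brauer's bound for defect groups with a central cyclic subgroup of index at most `16`: frame

* `Situation`, `exists_situation`: the major subsection of a central element `x` of the defect
  group `D`, and its block modulo `⟨x⟩`;
* `Situation.card_le_of_form`, `Situation.card_le_of_rank`, `Situation.not_isCyclic`.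
-/

set_option autoImplicit false
set_option linter.unusedSectionVars false

open Cfsg
open scoped ComplexConjugate

namespace Cfsg.Agent.H624.Asm

open Cfsg.Agent.Blocks.Local Cfsg.Agent.Characters
open Cfsg.Agent.H644.CentralQuot Cfsg.Agent.H658 Cfsg.Agent.H616.Form
open Cfsg.Agent.H617.StarAut (autG)

universe u

section frame

variable {G : Type u} [Group G] [Finite G] {p : ℕ} [Fact p.Prime] {M : Ideal AlgInt}

/-- The major subsection attached to the central element `x` of `D` and its quotient modulo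
`⟨x⟩`. -/
structure Situation (p : ℕ) (M : Ideal AlgInt) (B : Set (IrrCharacter G)) (D : Subgroup G) (x : G)
    (f : Set (IrrCharacter (Subgroup.centralizer ({x} : Set G))))
    (U : Subgroup (Subgroup.centralizer ({x} : Set G))) [U.Normal] : Prop where
  mem : x ∈ D
  comm : ∀ w ∈ D, w * x = x * w
  ord : ∃ k, orderOf x = p ^ k
  ind : IsInducedBlock M (Subgroup.centralizer ({x} : Set G)) f B
  defect : blockDefect p f = blockDefect p B
  defB : IsDefectGroup p M B D
  def_f : IsDefectGroup p M f (D.subgroupOf (Subgroup.centralizer ({x} : Set G)))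
  le_center : U ≤ Subgroup.center _
  pgroup : IsPGroup p U
  card : Nat.card U = orderOf x
  le_def : U ≤ D.subgroupOf (Subgroup.centralizer ({x} : Set G))
  def_defl : IsDefectGroup p M (defl U f)
    ((D.subgroupOf (Subgroup.centralizer ({x} : Set G))).map (QuotientGroup.mk' U))

theorem exists_situation (hM : IsPModular p M) {B : Set (IrrCharacter G)} (hB : IsPBlock M B)
    {D : Subgroup G} (hBD : IsDefectGroup p M B D) {x : G} (hx : x ∈ D)
    (hxc : ∀ w ∈ D, w * x = x * w) :
    ∃ (f : Set (IrrCharacter (Subgroup.centralizer ({x} : Set G))))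
      (U : Subgroup (Subgroup.centralizer ({x} : Set G))) (_ : U.Normal),
      Situation p M B D x f U ∧
        U = Subgroup.zpowers ⟨x, Subgroup.mem_centralizer_singleton_iff.2 rfl⟩ := by
  have hDp : IsPGroup p D := Cfsg.Agent.Blocks.Basic.isPGroup_of_isDefectGroup hBD
  obtain ⟨b, -, hb⟩ := (S0973.result p M hM B hB D hBD).1
  obtain ⟨f, -, hf, hfD, hfd⟩ := exists_major hM hBD hx (fun w hw => (hxc w hw).symm) hb
  let x' : Subgroup.centralizer ({x} : Set G) := ⟨x, Subgroup.mem_centralizer_singleton_iff.2 rfl⟩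
  have hU : Subgroup.zpowers x' ≤ Subgroup.center _ := by
    rw [Subgroup.zpowers_le, Subgroup.mem_center_iff]
    intro g
    exact Subtype.ext (Subgroup.mem_centralizer_singleton_iff.1 g.2)
  have hUn : (Subgroup.zpowers x').Normal := by
    refine ⟨fun z hz g => ?_⟩
    rw [Subgroup.mem_center_iff.1 (hU hz) g, mul_assoc, mul_inv_cancel, mul_one]
    exact hz
  have hx'D : Subgroup.zpowers x' ≤ D.subgroupOf (Subgroup.centralizer ({x} : Set G)) := by
    rw [Subgroup.zpowers_le, Subgroup.mem_subgroupOf]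
    exact hx
  have hp : IsPGroup p (Subgroup.zpowers x') :=
    (hDp.comap_of_injective _ (Subgroup.subtype_injective _)).to_le hx'D
  refine ⟨f, Subgroup.zpowers x', hUn, ⟨hx, hxc, ?_, hf, hfd, hBD, hfD, hU, hp, ?_, hx'D, ?_⟩, rfl⟩
  · obtain ⟨k, hk⟩ := (IsPGroup.iff_orderOf.1 hDp) ⟨x, hx⟩
    exact ⟨k, by rw [← hk, Subgroup.orderOf_mk]⟩
  · rw [Nat.card_zpowers, ← Subgroup.orderOf_coe]
  · exact (isDefectGroup_defl hM hU hp hf.1 hfD).2

namespace Situation

variable {B : Set (IrrCharacter G)} {D : Subgroup G} {x : G}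
  {f : Set (IrrCharacter (Subgroup.centralizer ({x} : Set G)))}
  {U : Subgroup (Subgroup.centralizer ({x} : Set G))} [U.Normal]

omit [Finite G] [Fact p.Prime] in
theorem le_cent (h : Situation p M B D x f U) : D ≤ Subgroup.centralizer ({x} : Set G) :=
  fun w hw => Subgroup.mem_centralizer_singleton_iff.2 (h.comm w hw)

omit [Fact p.Prime] in
theorem card_mul (h : Situation p M B D x f U) :
    orderOf x * Nat.card ((D.subgroupOf (Subgroup.centralizer ({x} : Set G))).map
      (QuotientGroup.mk' U)) = Nat.card D := by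
  have h1 : Nat.card (D.subgroupOf (Subgroup.centralizer ({x} : Set G))) = Nat.card D :=
    Nat.card_congr (Subgroup.subgroupOfEquivOfLe h.le_cent).toEquiv
  rw [← h1, ← h.card]
  have h2 : (U.relIndex (D.subgroupOf (Subgroup.centralizer ({x} : Set G)))) =
      Nat.card ((D.subgroupOf (Subgroup.centralizer ({x} : Set G))).map
      (QuotientGroup.mk' U)) := by
    rw [← Subgroup.relIndex_ker, QuotientGroup.ker_mk']
  rw [← h2]
  have h3 := Subgroup.card_mul_index (U.subgroupOf
    (D.subgroupOf (Subgroup.centralizer ({x} : Set G))))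
  rw [Nat.card_congr (Subgroup.subgroupOfEquivOfLe h.le_def).toEquiv] at h3
  exact h3

theorem card_le_of_form (hM : IsPModular p M) (h : Situation p M B D x f U)
    (hF : FormBd p (defl U f) (Nat.card ((D.subgroupOf
      (Subgroup.centralizer ({x} : Set G))).map (QuotientGroup.mk' U)))) :
    Nat.card B ≤ Nat.card D := by
  have h1 := FormDefl.formBd_of_defl hM h.le_center h.pgroup h.ind.1 hF
  rw [h.card, h.card_mul] at h1
  exact card_le_of_formBd hM h.ord rfl h.ind h.defect h1

omit [Fact p.Prime] in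
theorem card_le_of_rank {M : Ideal AlgInt} {U : Subgroup (Subgroup.centralizer ({x} : Set G))}
    [U.Normal] (hM : IsPModular 2 M) (h : Situation 2 M B D x f U)
    (hl : blockRank 2 (defl U f) ≤ 3) : Nat.card B ≤ Nat.card D := by
  have hp : Fact (Nat.Prime 2) := ⟨Nat.prime_two⟩
  have := Fintype.ofFinite (Subgroup.centralizer ({x} : Set G))
  have h1 := blockRank_defl hM h.le_center h.pgroup h.ind.1
  rw [h1] at hl
  have h2 := Cfsg.Agent.S4540.result M hM B h.ind.2.1 D h.defB x h.mem h.comm f h.ind h.def_f hl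
  rw [Cfsg.Agent.S0908.result 2 M hM B h.ind.2.1 D h.defB]
  have h3 := h2.1.trans h2.2
  omega

/-- The quotient is not cyclic for nonabelian `D`. -/
theorem not_isCyclic (h : Situation p M B D x f U)
    (hna : ¬ ∀ a ∈ D, ∀ b ∈ D, a * b = b * a) :
    ¬ IsCyclic ((D.subgroupOf (Subgroup.centralizer ({x} : Set G))).map
      (QuotientGroup.mk' U)) := by
  intro hc
  apply hna
  obtain ⟨⟨g', hg'⟩, hg⟩ := hc.exists_generator
  obtain ⟨g, hgD, rfl⟩ := Subgroup.mem_map.1 hg'
  -- every element of `D` is `g ^ n * x ^ m`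
  have key : ∀ a ∈ D, ∃ n : ℤ, ∃ z : G, a = (g : G) ^ n * z ∧ ∀ w ∈ D, w * z = z * w := by
    intro a ha
    have haD : (⟨a, h.le_cent ha⟩ : Subgroup.centralizer ({x} : Set G)) ∈
        D.subgroupOf (Subgroup.centralizer ({x} : Set G)) := ha
    obtain ⟨n, hn⟩ := hg ⟨_, Subgroup.mem_map_of_mem (QuotientGroup.mk' U) haD⟩
    have hn' : (QuotientGroup.mk (g ^ n) : (Subgroup.centralizer ({x} : Set G)) ⧸ U) =
        QuotientGroup.mk ⟨a, h.le_cent ha⟩ := congrArg Subtype.val hn
    rw [QuotientGroup.eq] at hn'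
    refine ⟨n, (((g ^ n)⁻¹ * ⟨a, h.le_cent ha⟩ : Subgroup.centralizer ({x} : Set G)) : G), ?_, ?_⟩
    · push_cast
      group
    · intro w hw
      have h1 := Subgroup.mem_center_iff.1 (h.le_center hn') ⟨w, h.le_cent hw⟩
      exact congrArg Subtype.val h1
  intro a ha b hb
  obtain ⟨n, z, rfl, hz⟩ := key a ha
  obtain ⟨m, z', rfl, hz'⟩ := key b hb
  have hgn : ∀ k : ℤ, (g : G) ^ k ∈ D := fun k => D.zpow_mem hgD k
  have e1 := hz _ (hgn m)
  have e2 := hz' _ (hgn n)
  have hzD : z ∈ D := by
    have := D.mul_mem (D.inv_mem (hgn n)) ha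
    rwa [inv_mul_cancel_left] at this
  have e3 := hz' z hzD
  calc (g : G) ^ n * z * ((g : G) ^ m * z') = (g : G) ^ n * (z * (g : G) ^ m) * z' := by group
    _ = (g : G) ^ n * ((g : G) ^ m * z) * z' := by rw [e1]
    _ = (g : G) ^ (n + m) * (z * z') := by rw [zpow_add]; group
    _ = (g : G) ^ (m + n) * (z' * z) := by rw [e3, add_comm]
    _ = (g : G) ^ m * ((g : G) ^ n * z') * z := by rw [zpow_add]; group
    _ = (g : G) ^ m * (z' * (g : G) ^ n) * z := by rw [e2]
    _ = (g : G) ^ m * z' * ((g : G) ^ n * z) := by group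

end Situation

end frame

end Cfsg.Agent.H624.Asm
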