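import Cfsg.Agent.H464.ExtSemi
import Cfsg.Agent.H699.CusGBase
import Cfsg.Agent.H477.HC.RowMinus
import Cfsg.Agent.AutOrth.Final

/-!
# Orthogonal groups: the data of the row theorem (helper624, S4832)

* `IsQuad F` : the `CForm` `F` is the one of a quadratic form; `quadOf F h` : the quadratic form (`⇑ = F.Q`);
* `qE` : `commutator F.iso →* P (quadOf F h)`, surjective, with kernel the scalars;
* `hNn`, `aut_of_range` : semisimilarities;
* `exists_below` : constituents in `S` of `F.hc c 1`.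
-/

set_option autoImplicit false

open scoped ComplexConjugate
open Cfsg

namespace Cfsg.Agent.H624.ExtO

open Cfsg.Agent.H477.HC Cfsg.Agent.H53.HC Cfsg.Agent.Characters Module Cfsg.Agent.H576.Ext
  QuadraticMap Cfsg.Agent.LieClassical.OrthCore Cfsg.Agent.LieClassical.OrthTrans
  Cfsg.Agent.LieClassical.OrthSimple Cfsg.Agent.ClassicalGeometry.OrthSemi Cfsg.Agent.ClassicalGeometry.OrthAut1

universe u v w

variable {K : Type u} [Field K] {V : Type v} [AddCommGroup V] [Module K V] {F : CForm K V}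

/-- the forms of quadratic type -/
structure IsQuad (F : CForm K V) : Prop where
  σ : ∀ a, F.σ a = a
  B : ∀ u v, F.B u v = F.Q (u + v) - F.Q u - F.Q v

/-- the quadratic form -/
def quadOf (F : CForm K V) (h : IsQuad F) : QuadraticForm K V where
  toFun := F.Q
  toFun_smul a v := by rw [F.Q_smul, h.σ, smul_eq_mul]
  exists_companion' := ⟨LinearMap.mk₂ K F.B F.B_add_left F.B_smul_left F.B_add_right
    (fun c x y => by rw [F.B_smul_right, h.σ, smul_eq_mul]), fun x y => by
      rw [LinearMap.mk₂_apply, h.B]; ring⟩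

theorem quadOf_apply (h : IsQuad F) (v : V) : quadOf F h v = F.Q v := rfl

theorem coe_quadOf (h : IsQuad F) : ⇑(quadOf F h) = F.Q := rfl

theorem polar_quadOf (h : IsQuad F) (u v : V) : polar (quadOf F h) u v = F.B u v := by
  rw [h.B]; rfl

theorem iso_eq (h : IsQuad F) : F.iso = O (quadOf F h) := by
  ext g
  rw [mem_O, F.mem_iso]
  refine ⟨fun hg v => hg.2 v, fun hg => ⟨fun u v => ?_, fun v => hg v⟩⟩
  have hg' : ∀ v, F.Q (g v) = F.Q v := hg
  rw [h.B, h.B, ← map_add, hg', hg', hg']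

theorem map_comm (h : IsQuad F) : (commutator F.iso).map F.iso.subtype = ⁅O (quadOf F h), O (quadOf F h)⁆ := by
  rw [commutator_def, Subgroup.map_commutator, ← MonoidHom.range_eq_map, Subgroup.range_subtype, iso_eq h]

theorem mem_E (h : IsQuad F) (hG : Good (quadOf F h)) (n : commutator F.iso) :
    ((n : F.iso) : V ≃ₗ[K] V) ∈ E (quadOf F h) := by
  rw [← hG.commutator_eq_E, ← map_comm h]
  exact ⟨n, n.2, rfl⟩

/-- `commutator F.iso → E Q` -/
def toE (h : IsQuad F) (hG : Good (quadOf F h)) : commutator F.iso →* ↥(E (quadOf F h)) :=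
  (F.iso.subtype.comp (commutator F.iso).subtype).codRestrict _ (mem_E h hG)

theorem toE_apply (h : IsQuad F) (hG : Good (quadOf F h)) (n : commutator F.iso) (v : V) :
    (toE h hG n : V ≃ₗ[K] V) v = ((n : F.iso) : V ≃ₗ[K] V) v := rfl

theorem toE_surjective (h : IsQuad F) (hG : Good (quadOf F h)) : Function.Surjective (toE h hG) := by
  rintro ⟨e, he⟩
  have he' := he
  rw [← hG.commutator_eq_E, ← map_comm h] at he'
  obtain ⟨n, hn, rfl⟩ := he'
  exact ⟨⟨n, hn⟩, rfl⟩

/-- `commutator F.iso → E Q / Z(E Q)` -/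
def qE (h : IsQuad F) (hG : Good (quadOf F h)) : commutator F.iso →* P (quadOf F h) :=
  (QuotientGroup.mk' _).comp (toE h hG)

theorem qE_apply (h : IsQuad F) (hG : Good (quadOf F h)) (n : commutator F.iso) :
    qE h hG n = QuotientGroup.mk (toE h hG n) := rfl

theorem qE_surjective (h : IsQuad F) (hG : Good (quadOf F h)) : Function.Surjective (qE h hG) :=
  (QuotientGroup.mk'_surjective _).comp (toE_surjective h hG)

theorem qE_ker (h : IsQuad F) (hG : Good (quadOf F h)) (n : commutator F.iso) :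
    qE h hG n = 1 ↔ ∃ a : K, ∀ v, ((n : F.iso) : V ≃ₗ[K] V) v = a • v := by
  rw [qE_apply, QuotientGroup.eq_one_iff]
  refine ⟨fun hn => ?_, ?_⟩
  · obtain ⟨a, ha⟩ := center_scalar hG hn
    exact ⟨a, ha⟩
  · rintro ⟨a, ha⟩
    exact mem_center_of_scalar (c := a) ha

/-- a semisimilarity of `F` as a semisimilarity of the quadratic form -/
def toGam (h : IsQuad F) (s : Semi F) : Gam (quadOf F h) :=
  ⟨s.γ.toEquiv, s.τ, s.lam, ⟨s.hlam, fun u v => map_add s.γ u v, s.smul, s.hQ⟩⟩

theorem toGam_apply (h : IsQuad F) (s : Semi F) (v : V) : (toGam h s).1 v = s.γ v := rfl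

/-- `N = commutator F.iso` is normalised by the semisimilarities -/
theorem hNn (h : IsQuad F) (hG : Good (quadOf F h)) (s : Semi F) (n : commutator F.iso) :
    ∃ n' : commutator F.iso, ∀ v, ((n' : F.iso) : V ≃ₗ[K] V) (s.γ v) = s.γ (((n : F.iso) : V ≃ₗ[K] V) v) := by
  obtain ⟨n', hn'⟩ := toE_surjective h hG (conjE (quadOf F h) (toGam h s) (toE h hG n))
  refine ⟨n', fun v => ?_⟩
  rw [← toE_apply h hG, hn', coe_conjE]
  exact conjLin_apply' (toGam h s) (toE h hG n).1 v

/-- the centre of `P Q` is trivial -/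
theorem center_P (h : IsQuad F) (hG : Good (quadOf F h)) : Subgroup.center (P (quadOf F h)) = ⊥ := by
  have hs := good_isSimpleGroup hG
  rcases hs.eq_bot_or_eq_top_of_normal _ (inferInstance : (Subgroup.center (P (quadOf F h))).Normal) with h1 | h1
  · exact h1
  · exfalso
    -- `E Q` would be nilpotent
    have h2 : commutator (P (quadOf F h)) = ⊥ := by
      rw [commutator_def, Subgroup.commutator_eq_bot_iff_le_centralizer]
      intro x _
      rw [Subgroup.mem_centralizer_iff]
      intro y _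
      have : y ∈ Subgroup.center (P (quadOf F h)) := by rw [h1]; trivial
      exact (Subgroup.mem_center_iff.1 this x).symm
    have h3 : commutator (P (quadOf F h)) = ⊤ := by
      have := commutator_E hG
      rw [commutator_def] at this ⊢
      have h4 := congrArg (Subgroup.map (QuotientGroup.mk' (Subgroup.center ↥(E (quadOf F h))))) this
      rw [Subgroup.map_commutator, Subgroup.map_top_of_surjective _ (QuotientGroup.mk'_surjective _)] at h4
      exact h4
    rw [h2] at h3
    have h5 : Nontrivial (P (quadOf F h)) := hs.toNontrivial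
    exact bot_ne_top h3

/-- **the automorphisms** -/
theorem aut_of_range (h : IsQuad F) (hG : Good (quadOf F h)) {α : MulAut (P (quadOf F h))}
    (hα : α ∈ (Psi (quadOf F h)).range) : ∃ s : Semi F, ∀ n n' : commutator F.iso,
      (∀ v, ((n' : F.iso) : V ≃ₗ[K] V) (s.γ v) = s.γ (((n : F.iso) : V ≃ₗ[K] V) v)) →
      α (qE h hG n) = qE h hG n' := by
  obtain ⟨⟨M, σ, c, hM⟩, rfl⟩ := hα
  refine ⟨⟨σ, c, hM.ne, { M with map_add' := hM.add }, hM.smul, fun v w => ?_, hM.form⟩, fun n n' hn => ?_⟩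
  · rw [← polar_quadOf h, ← polar_quadOf h]
    exact hM.polar v w
  · rw [qE_apply, qE_apply, Psi_mk]
    congr 1
    apply Subtype.ext
    rw [coe_conjE]
    ext v
    obtain ⟨w, rfl⟩ := M.surjective v
    rw [toE_apply]
    exact (conjLin_apply' (Q := quadOf F h) ⟨M, σ, c, hM⟩ (toE h hG n).1 w).trans (hn w).symm

/-! ### constituents -/

section below

open Cfsg.Agent.H33

/-- an irreducible character trivial on the kernel of a surjection comes from the image -/
theorem exists_quot_hom {N : Type v} [Group N] [Finite N] {S : Type w} [Group S] [Finite S] (q : N →* S)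
    (hq : Function.Surjective q) {θ : N → ℂ} (hθ : IsIrrCharacter N θ) (hz : ∀ z : N, q z = 1 → θ z = θ 1) :
    ∃ η : S → ℂ, IsIrrCharacter S η ∧ ∀ n : N, η (q n) = θ n := by
  obtain ⟨η, hη, hη'⟩ := exists_quot q.ker hθ fun z hz' => hz z hz'
  let e := QuotientGroup.quotientKerEquivOfSurjective q hq
  refine ⟨η ∘ e.symm.toMonoidHom, Core.isIrr_comp _ e.symm.surjective hη, fun n => ?_⟩
  have h1 : e (n : N ⧸ q.ker) = q n := rfl
  change η (e.symm (q n)) = θ n
  rw [← h1, e.symm_apply_apply, hη']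

/-- **descent to a normal subgroup**, with the inner product -/
theorem down_constituent' {I : Type u} [Group I] [Finite I] (N : Subgroup I) [N.Normal] {χ : I → ℂ}
    (hχ : IsIrrCharacter I χ) {d : ℕ} (hd : χ 1 = d) :
    ∃ (θ : N → ℂ) (e : ℕ), IsIrrCharacter N θ ∧ θ 1 = e ∧ e ∣ d ∧ d / e ∣ N.index ∧ 0 < e ∧
      (∀ [Fintype N], classInner (fun n : N => χ n) θ ≠ 0) ∧
      ∀ z : N, z ∈ Subgroup.center N → χ z = χ 1 → θ z = θ 1 := by
  classical
  let _ : Fintype I := Fintype.ofFinite I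
  let _ : Fintype N := Fintype.ofFinite N
  have hα : IsCharacter N (χ ∘ N.subtype) := Core.isCharacter_comp N.subtype (Core.isIrr_isCharacter hχ)
  obtain ⟨θ, hθ, hθ'⟩ := exists_constituent hα (by
    rw [Function.comp_apply, map_one]; exact Core.isIrr_apply_one_ne_zero hχ)
  obtain ⟨e, he0, he⟩ := Core.isIrr_apply_one hθ
  obtain ⟨h3, h4⟩ := Cfsg.Agent.S0887.result N χ hχ θ hθ hθ' d e hd he
  refine ⟨θ, e, hθ, he, h3, h4, he0, fun {inst} => ?_, fun z hzc hzχ => ?_⟩
  · have e5 : inst = Fintype.ofFinite ↥N := Subsingleton.elim _ _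
    rw [e5]
    exact hθ'
  obtain ⟨l, hl⟩ := central_mul hθ hzc
  -- `l = 1`
  have e0 : ∑ n : N, (χ ∘ N.subtype) n * conj (θ n) = conj l * ∑ n : N, (χ ∘ N.subtype) n * conj (θ n) := by
    calc ∑ n : N, (χ ∘ N.subtype) n * conj (θ n)
        = ∑ n : N, (χ ∘ N.subtype) (n * z) * conj (θ (n * z)) :=
          (Equiv.sum_comp (Equiv.mulRight z) (fun n => (χ ∘ N.subtype) n * conj (θ n))).symm
      _ = _ := by
          rw [Finset.mul_sum]
          refine Finset.sum_congr rfl fun n _ => ?_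
          have h5 : (χ ∘ N.subtype) (n * z) = (χ ∘ N.subtype) n := kernel_mul hα (by
            change χ z = χ 1
            exact hzχ) n
          rw [hl, map_mul, h5]
          ring
  have e1 : classInner (χ ∘ N.subtype) θ = conj l * classInner (χ ∘ N.subtype) θ := by
    rw [Core.classInner_def, mul_left_comm, ← e0]
  have e2 : conj l = 1 := by
    have : (conj l - 1) * classInner (χ ∘ N.subtype) θ = 0 := by
      rw [sub_mul, one_mul, ← e1, sub_self]
    exact sub_eq_zero.1 ((mul_eq_zero.1 this).resolve_right hθ')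
  have e3 : l = 1 := by
    have := congrArg conj e2
    rwa [Complex.conj_conj, map_one] at this
  have := hl 1
  rwa [one_mul, e3, one_mul] at this

/-- **constituents in `S = N / scalars`** -/
theorem exists_below [Finite K] [FiniteDimensional K V] [Finite V] {N : Subgroup F.iso} [N.Normal]
    {S : Type w} [Group S] [Finite S] (q : N →* S) (hq : Function.Surjective q)
    (hker : ∀ n : N, q n = 1 → ∃ a : K, ∀ v, ((n : F.iso) : V ≃ₗ[K] V) v = a • v)
    {k : ℕ} [Fintype (F.Om k)] (hk : 0 < k) {W₀ : Submodule K V} (hW₀ : W₀ ∈ F.Om k)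
    {c : GL (Fin k) K → ℂ} (hc : CusG K k F.σ c) :
    ∃ (θ : S → ℂ) (e : ℕ), IsIrrCharacter S θ ∧ θ 1 = e ∧ e ∣ dg F k ∧ dg F k / e ∣ N.index ∧ 0 < e ∧
      ∀ [Fintype N], classInner (fun n : N => F.hc c (fun _ _ => 1) n) (fun n => θ (q n)) ≠ 0 := by
  have hfi := finite_iso F
  let _ := Fintype.ofFinite F.iso
  have hcl := Core.isIrr_isClassFunction hc.irr
  have hχ := F.isIrr_hc_one hc.irr hc.cusp hc.dual hW₀
  have hχ1 : F.hc c (fun _ _ => 1) 1 = (dg F k : ℂ) := by
    rw [F.hc_one hcl (fun _ _ => 1) (d := 1) (fun _ _ => rfl), hc.deg, mul_one]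
    unfold dg
    rw [Nat.cast_mul]
  obtain ⟨θ, e, hθ, he, h1, h2, h3, h4, h5⟩ := down_constituent' N hχ hχ1
  -- a non-zero value of the form
  obtain ⟨u, w, huw⟩ : ∃ u w, F.B u w ≠ 0 := by
    have h0 : W₀ ≠ ⊥ := by
      rintro rfl
      have := hW₀.2
      rw [finrank_bot] at this
      omega
    obtain ⟨x, -, hx⟩ := Submodule.exists_mem_ne_zero_of_ne_bot h0
    by_contra hcon
    push Not at hcon
    exact hx (F.nondeg x fun u => hcon x u)
  obtain ⟨η, hη, hη'⟩ := exists_quot_hom q hq hθ (fun z hz => by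
    obtain ⟨a, ha⟩ := hker z hz
    have e1 : a * F.σ a * F.B u w = F.B u w := by
      have h6 := F.iso_B (z : F.iso) u w
      rw [ha, ha, F.B_smul_left, F.B_smul_right] at h6
      rw [mul_assoc]
      exact h6
    have e2 : a * F.σ a = 1 := by
      have := mul_right_cancel₀ huw (e1.trans (one_mul _).symm)
      exact this
    have ha0 : a ≠ 0 := by
      rintro rfl
      rw [zero_mul] at e2
      exact zero_ne_one e2
    let a' : Kˣ := Units.mk0 a ha0
    have e3 : c (Matrix.GeneralLinearGroup.scalar (Fin k) a') = c 1 := by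
      obtain ⟨ν, hν⟩ := hc.nu
      have h7 := hν a' 1
      have h8 : a' * Units.map (F.σ : K →* K) a' = 1 := Units.ext e2
      rw [mul_one, h8, map_one, Units.val_one, one_mul] at h7
      exact h7
    refine h5 z ?_ (F.hc_scalar hcl (fun _ _ => 1) (a := a') ha e3 (fun _ _ => rfl))
    rw [Subgroup.mem_center_iff]
    intro g
    apply Subtype.ext
    apply Subtype.ext
    ext v
    change ((g : F.iso) : V ≃ₗ[K] V) (((z : F.iso) : V ≃ₗ[K] V) v) =
      ((z : F.iso) : V ≃ₗ[K] V) (((g : F.iso) : V ≃ₗ[K] V) v)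
    rw [ha, ha, map_smul])
  refine ⟨η, e, hη, ?_, h1, h2, h3, fun {inst} => ?_⟩
  · rw [← he, ← hη' 1, map_one]
  · have e4 : (fun n : N => η (q n)) = θ := funext hη'
    rw [e4]
    exact h4

/-- the arithmetic of the descent, `r ≠ 2` or `16 ∣ d` -/
theorem dvd_of_index {r d e j : ℕ} (hr : r.Prime) (hd : (r ≠ 2 ∧ r ∣ d) ∨ (r = 2 ∧ 16 ∣ d)) (he : e ∣ d)
    (he0 : 0 < e) (hj : d / e ∣ j) (hj8 : j ∣ 8) : r ∣ e := by
  obtain ⟨f, rfl⟩ := he
  rw [Nat.mul_div_cancel_left _ he0] at hj
  have hf : f ∣ 2 ^ 3 := hj.trans hj8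
  rcases hd with ⟨h2, hd⟩ | ⟨rfl, hd⟩
  · rcases hr.dvd_mul.1 hd with h | h
    · exact h
    · exfalso
      exact h2 ((Nat.prime_dvd_prime_iff_eq hr Nat.prime_two).1 (hr.dvd_of_dvd_pow (h.trans hf)))
  · by_contra h
    have h1 : Nat.Coprime (2 ^ 4) e := Nat.Coprime.pow_left 4 ((Nat.Prime.coprime_iff_not_dvd Nat.prime_two).2 h)
    have h2 : 2 ^ 4 ∣ f := h1.dvd_of_dvd_mul_left hd
    have h3 := Nat.le_of_dvd (by norm_num) (h2.trans hf)
    norm_num at h3

end below

end Cfsg.Agent.H624.ExtO
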