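import Cfsg.Agent.H624.GTSix

/-!
# Two-generated groups of order `64` and exponent dividing `8` with elementary abelian center
-/

set_option autoImplicit false
set_option linter.unusedSectionVars false

namespace Cfsg.Agent.H624.GTSix

open Subgroup
open scoped commutatorElement

section cards

/-- A group of maximal class and exponent dividing `8` has order at most `16`. -/
theorem eight_le_index {T : Type*} [Group T] [Finite T] (hT : IsPGroup 2 T)
    (hcard : 32 ≤ Nat.card T) (h8 : ∀ g : T, g ^ 8 = 1) : 8 ≤ (commutator T).index := by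
  have hidx : ∃ k, (commutator T).index = 2 ^ k := by
    have h1 : IsPGroup 2 (T ⧸ commutator T) := hT.to_quotient _
    exact h1.exists_card_eq
  obtain ⟨k, hk⟩ := hidx
  by_contra hlt
  have hk2 : k ≤ 2 := by
    by_contra hk3
    apply hlt
    rw [hk]
    calc 8 = 2 ^ 3 := by norm_num
      _ ≤ 2 ^ k := Nat.pow_le_pow_right (by norm_num) (by omega)
  have h4 : (commutator T).index ≤ 4 := by
    rw [hk]
    calc 2 ^ k ≤ 2 ^ 2 := Nat.pow_le_pow_right (by norm_num) hk2
      _ = 4 := by norm_num
  have hna : ¬ ∀ a b : T, a * b = b * a := by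
    intro hab
    have h1 : commutator T = ⊥ := by
      rw [_root_.commutator_def, eq_bot_iff, commutator_le]
      intro a _ b _
      exact mem_bot.2 (commutatorElement_eq_one_iff_mul_comm.2 (hab a b))
    rw [h1, index_bot] at h4
    omega
  have hord : ∀ g : T, orderOf g ≤ 8 := fun g =>
    Nat.le_of_dvd (by norm_num) (orderOf_dvd_of_pow_eq_one (h8 g))
  rcases Cfsg.Agent.H772.cases_of_index_le hT hna h4 with ⟨n, ⟨e⟩⟩ | ⟨n, hn, hc, x, y, hx, -⟩ |
      ⟨n, ⟨e⟩⟩
  · have h1 := Nat.card_congr e.toEquiv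
    rw [DihedralGroup.nat_card] at h1
    have h2 := hord (e.symm (DihedralGroup.r 1))
    rw [MulEquiv.orderOf_eq, DihedralGroup.orderOf_r_one] at h2
    omega
  · have h2 := hord x
    rw [hx] at h2
    rw [hc, pow_succ] at hcard
    omega
  · have h1 := Nat.card_congr e.toEquiv
    rcases Nat.eq_zero_or_pos n with rfl | hn
    · have hinf0 : Infinite (ZMod (2 * 0)) := by
        change Infinite ℤ
        infer_instance
      have hinf : Infinite (QuaternionGroup 0) := by
        refine Infinite.of_injective (fun i : ZMod (2 * 0) => QuaternionGroup.a i) ?_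
        intro i j h
        exact QuaternionGroup.a.inj h
      have : Finite (QuaternionGroup 0) := Finite.of_equiv T e.toEquiv
      exact not_finite (QuaternionGroup 0)
    · have : NeZero n := ⟨hn.ne'⟩
      rw [Nat.card_eq_fintype_card (α := QuaternionGroup n), QuaternionGroup.card] at h1
      have h2 := hord (e.symm (QuaternionGroup.a 1))
      rw [MulEquiv.orderOf_eq, QuaternionGroup.orderOf_a_one] at h2
      omega

variable {D : Type*} [Group D]

/-- The order of a join. -/
theorem card_sup_le [Finite D] (H K : Subgroup D) [K.Normal] :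
    Nat.card (H ⊔ K : Subgroup D) ≤ Nat.card H * Nat.card K := by
  have h1 := mul_normal H K
  have h2 := Set.natCard_mul_le (s := (H : Set D)) (t := (K : Set D))
  rw [← h1] at h2
  exact h2

/-- Subgroups of the center are normal. -/
theorem normal_of_le {N : Subgroup D} (h : N ≤ center D) : N.Normal :=
  ⟨fun n hn g => by
    rw [mem_center_iff.1 (h hn) g, mul_inv_cancel_right]
    exact hn⟩

theorem zpowers_le_center {z : D} (hz : z ∈ center D) : zpowers z ≤ center D :=
  (zpowers_le).2 hz

theorem normal_zpowers {z : D} (hz : z ∈ center D) : (zpowers z).Normal :=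
  normal_of_le (zpowers_le_center hz)

theorem card_zpowers_le {z : D} (hz : z * z = 1) : Nat.card (zpowers z) ≤ 2 := by
  rw [Nat.card_zpowers]
  exact Nat.le_of_dvd (by norm_num) (orderOf_dvd_of_pow_eq_one (by rw [sq]; exact hz))

/-- A normal subgroup of order at most two is central. -/
theorem le_center_of_card_le [Finite D] (N : Subgroup D) [hN : N.Normal]
    (h : Nat.card N ≤ 2) : N ≤ center D := by
  intro n hn
  rw [mem_center_iff]
  intro g
  have h1 := hN.conj_mem n hn g
  by_cases hn1 : n = 1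
  · rw [hn1]; simp
  have key : ∀ m ∈ N, m = 1 ∨ m = n := by
    intro m hm
    by_contra hcon
    push Not at hcon
    classical
    have := Fintype.ofFinite N
    have h3 : ({⟨1, N.one_mem⟩, ⟨n, hn⟩, ⟨m, hm⟩} : Finset N).card = 3 := by
      rw [Finset.card_insert_of_notMem, Finset.card_insert_of_notMem, Finset.card_singleton]
      · simp only [Finset.mem_singleton, Subtype.mk.injEq]
        exact fun h => hcon.2 h.symm
      · simp only [Finset.mem_insert, Finset.mem_singleton, Subtype.mk.injEq, not_or]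
        exact ⟨fun h => hn1 h.symm, fun h => hcon.1 h.symm⟩
    have h4 := Finset.card_le_univ ({⟨1, N.one_mem⟩, ⟨n, hn⟩, ⟨m, hm⟩} : Finset N)
    rw [← Nat.card_eq_fintype_card] at h4
    omega
  rcases key _ h1 with h2 | h2
  · exact absurd (conj_eq_one_iff.1 h2) hn1
  · calc g * n = (g * n * g⁻¹) * g := by group
      _ = n * g := by rw [h2]

/-- The derived subgroup of a quotient. -/
theorem index_commutator_quot (N : Subgroup D) [N.Normal] :
    (commutator (D ⧸ N)).index = (commutator D ⊔ N).index := by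
  have h1 : map (QuotientGroup.mk' N) (commutator D) = commutator (D ⧸ N) := by
    rw [_root_.commutator_def, _root_.commutator_def, map_commutator,
      ← MonoidHom.range_eq_map, MonoidHom.range_eq_top.2 (QuotientGroup.mk'_surjective N)]
  rw [← h1, ← index_comap_of_surjective (H := map (QuotientGroup.mk' N) (commutator D))
    (QuotientGroup.mk'_surjective N), comap_map_eq, QuotientGroup.ker_mk']

/-- The center of a quotient. -/
theorem index_center_quot (N : Subgroup D) [N.Normal] :
    (center (D ⧸ N)).index = (Subgroup.upperCentralSeriesStep N).index := by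
  rw [Subgroup.upperCentralSeriesStep_eq_comap_center,
    index_comap_of_surjective _ (QuotientGroup.mk'_surjective N)]

/-- The center of a nonabelian group has index at least `4`. -/
theorem four_le_index_center [Finite D] (h : ¬ ∀ a b : D, a * b = b * a) :
    4 ≤ (center D).index := by
  by_contra hlt
  push Not at hlt
  have hne : (center D).index ≠ 0 := index_ne_zero_of_finite
  have hcyc : IsCyclic (D ⧸ center D) := by
    have h1 : Nat.card (D ⧸ center D) = (center D).index := rfl
    have : (center D).index = 1 ∨ (center D).index = 2 ∨ (center D).index = 3 := by omega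
    rcases this with h2 | h2 | h2
    · rw [h2] at h1
      have := (Nat.card_eq_one_iff_unique.1 h1).1
      infer_instance
    · have : Fact (Nat.Prime 2) := ⟨Nat.prime_two⟩
      exact isCyclic_of_prime_card (h1.trans h2)
    · have : Fact (Nat.Prime 3) := ⟨Nat.prime_three⟩
      exact isCyclic_of_prime_card (h1.trans h2)
  apply h
  have h5 := MonoidHom.isMulCommutative_of_isCyclic_of_ker_le_center
    (QuotientGroup.mk' (center D)) (by rw [QuotientGroup.ker_mk'])
  exact fun a b => h5.is_comm.comm a b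

/-- A group of order less than `6` is abelian; for powers of two we need orders `1`, `2`, `4`. -/
theorem comm_of_card_le {Q : Type*} [Group Q] [Finite Q] (hQ : Nat.card Q ≤ 4) (a b : Q) :
    a * b = b * a := by
  by_contra hne
  have h1 := four_le_index_center (D := Q) fun h => hne (h a b)
  have h2 := (center Q).card_mul_index
  have h3 : (center Q).index ≤ Nat.card Q := Nat.le_of_dvd Nat.card_pos (index_dvd_card _)
  have h4 : (center Q).index = 4 := by omega
  have h5 : Nat.card Q = 4 := by omega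
  have : Fact (Nat.Prime 2) := ⟨Nat.prime_two⟩
  have h6 : Nat.card Q = 2 ^ 2 := by rw [h5]; norm_num
  have h7 := IsPGroup.isMulCommutative_of_card_eq_prime_sq (p := 2) h6
  exact hne (h7.is_comm.comm a b)

end cards

/-- The first type of good quotient. -/
def GoodA (T : Type*) [Group T] : Prop :=
  Nat.card T = 32 ∧ Nat.card (center T) = 2 ∧ (commutator T).index = 8

/-- The second type of good quotient. -/
def GoodB (T : Type*) [Group T] : Prop :=
  (∃ s : T, (zpowers s).Normal ∧ ∃ t : T, closure ({s, t} : Set T) = ⊤) ∧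
    (¬ ∀ a b : T, a * b = b * a) ∧ 4 ≤ Nat.card (center T)

section main

variable {D : Type*} [Group D] [Finite D]

theorem goodA_of {z : D} (hz1 : z ≠ 1) (hz2 : z * z = 1)
    (hcard : Nat.card D = 64) [hn : (zpowers z).Normal]
    (hW : Nat.card (Subgroup.upperCentralSeriesStep (zpowers z)) = 4)
    (hC : Nat.card (commutator D ⊔ zpowers z : Subgroup D) = 8) : GoodA (D ⧸ zpowers z) := by
  have h2 : Nat.card (zpowers z) = 2 := by
    rw [Nat.card_zpowers]
    exact orderOf_eq_prime (by rw [sq]; exact hz2) hz1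
  have h3 := (zpowers z).card_mul_index
  rw [h2, hcard] at h3
  have h4 : Nat.card (D ⧸ zpowers z) = 32 := by
    change (zpowers z).index = 32
    omega
  refine ⟨h4, ?_, ?_⟩
  · have h5 := (center (D ⧸ zpowers z)).card_mul_index
    have h6 := (Subgroup.upperCentralSeriesStep (zpowers z)).card_mul_index
    rw [index_center_quot, h4] at h5
    rw [hW, hcard] at h6
    have h7 : (Subgroup.upperCentralSeriesStep (zpowers z)).index = 16 := by omega
    rw [h7] at h5
    omega
  · have h6 := (commutator D ⊔ zpowers z : Subgroup D).card_mul_index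
    rw [hC, hcard] at h6
    rw [index_commutator_quot]
    omega

/-- The commutator of the generators is not central. -/
theorem comm_notMem_center {x y : D} (hgen : closure ({x, y} : Set D) = ⊤)
    (hcard : 32 < Nat.card D) (hZ : ∀ z ∈ center D, z * z = 1) : ⁅x, y⁆ ∉ center D := by
  intro hc
  have hc2 := hZ _ hc
  have hxy : x * y = ⁅x, y⁆ * (y * x) := by rw [commutatorElement_def]; group
  have hcc := mem_center_iff.1 hc
  have hx2 : x * x ∈ center D := by
    refine mem_center_of_comm hgen (by group) ?_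
    calc x * x * y = x * (x * y) := by group
      _ = x * (⁅x, y⁆ * (y * x)) := by rw [← hxy]
      _ = (x * ⁅x, y⁆) * y * x := by group
      _ = ⁅x, y⁆ * x * y * x := by rw [hcc x]
      _ = ⁅x, y⁆ * (x * y) * x := by group
      _ = ⁅x, y⁆ * (⁅x, y⁆ * (y * x)) * x := by rw [← hxy]
      _ = (⁅x, y⁆ * ⁅x, y⁆) * (y * (x * x)) := by group
      _ = y * (x * x) := by rw [hc2, one_mul]
  have hy2 : y * y ∈ center D := by
    refine mem_center_of_comm hgen ?_ (by group)
    symm
    calc x * (y * y) = (x * y) * y := by group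
      _ = ⁅x, y⁆ * (y * x) * y := by rw [← hxy]
      _ = ⁅x, y⁆ * y * (x * y) := by group
      _ = ⁅x, y⁆ * y * (⁅x, y⁆ * (y * x)) := by rw [← hxy]
      _ = ⁅x, y⁆ * (y * ⁅x, y⁆) * (y * x) := by group
      _ = ⁅x, y⁆ * (⁅x, y⁆ * y) * (y * x) := by rw [hcc y]
      _ = (⁅x, y⁆ * ⁅x, y⁆) * (y * y * x) := by group
      _ = y * y * x := by rw [hc2, one_mul]
  have n1 := normal_zpowers hx2
  have n2 := normal_zpowers hy2
  have n3 := normal_zpowers hc
  set N : Subgroup D := zpowers (x * x) ⊔ (zpowers (y * y) ⊔ zpowers ⁅x, y⁆) with hN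
  have hNn : N.Normal := by rw [hN]; infer_instance
  have h1 : Nat.card N ≤ 8 := by
    have h2 := card_sup_le (zpowers (x * x)) (zpowers (y * y) ⊔ zpowers ⁅x, y⁆)
    have h3 := card_sup_le (zpowers (y * y)) (zpowers ⁅x, y⁆)
    have h4 := card_zpowers_le (hZ _ hx2)
    have h5 := card_zpowers_le (hZ _ hy2)
    have h6 := card_zpowers_le hc2
    calc Nat.card N ≤ _ := h2
      _ ≤ 2 * (2 * 2) := Nat.mul_le_mul h4 (h3.trans (Nat.mul_le_mul h5 h6))
      _ = 8 := by norm_num
  have h2 : N.index ≤ 4 := by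
    refine index_le_four hgen N ?_ ?_ ?_
    · exact (le_sup_left : zpowers (x * x) ≤ N) (mem_zpowers _)
    · exact ((le_sup_left : zpowers (y * y) ≤ _).trans
        (le_sup_right : (zpowers (y * y) ⊔ zpowers ⁅x, y⁆) ≤ N)) (mem_zpowers _)
    · exact ((le_sup_right : zpowers ⁅x, y⁆ ≤ _).trans
        (le_sup_right : (zpowers (y * y) ⊔ zpowers ⁅x, y⁆) ≤ N)) (mem_zpowers _)
  have h3 := N.card_mul_index
  have h4 : Nat.card N * N.index ≤ 8 * 4 := Nat.mul_le_mul h1 h2
  omega

/-- The exceptional case of a center of order `8`. -/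
theorem case_eight {x y : D} (hgen : closure ({x, y} : Set D) = ⊤)
    (hZ : ∀ z ∈ center D, z * z = 1) (hc : ⁅x, y⁆ ∉ center D) (h8 : Nat.card (center D) = 8)
    (hcard : Nat.card D = 64) :
    ∃ z : D, z ∈ center D ∧ ∃ _ : (zpowers z).Normal, GoodB (D ⧸ zpowers z) := by
  have hidx : (center D).index = 8 := by
    have := (center D).card_mul_index
    rw [h8, hcard] at this
    omega
  obtain ⟨s, t, hst, hs2, hs4, hinv, hc'⟩ := exists_inv hgen (center D) hidx hc
  have hn := normal_zpowers hinv
  refine ⟨t * s * t⁻¹ * s, hinv, hn, ?_, ?_, ?_⟩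
  · set f := QuotientGroup.mk' (zpowers (t * s * t⁻¹ * s)) with hf
    have hgen' := closure_quot hst (zpowers (t * s * t⁻¹ * s))
    rw [← hf] at hgen'
    have h1 : f t * f s * (f t)⁻¹ * f s = 1 := by
      rw [← map_mul, ← map_inv, ← map_mul, ← map_mul, hf, QuotientGroup.mk'_apply,
        QuotientGroup.eq_one_iff]
      exact mem_zpowers _
    have h2 : f t * f s * (f t)⁻¹ = (f s)⁻¹ := eq_inv_of_mul_eq_one_left h1
    refine ⟨f s, ?_, f t, hgen'⟩
    rw [← normalizer_eq_top_iff, eq_top_iff, ← hgen', closure_le]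
    intro a ha
    rcases ha with rfl | rfl
    · exact (le_normalizer : zpowers (f s) ≤ _) (mem_zpowers _)
    · rw [SetLike.mem_coe, mem_normalizer_iff]
      have key : ∀ g, f t * g * (f t)⁻¹ ∈ zpowers (f s) ↔ g ∈ zpowers (f s) := by
        intro g
        have h3 : (zpowers (f s)).map (MulAut.conj (f t)).toMonoidHom = zpowers (f s) := by
          rw [MonoidHom.map_zpowers]
          change zpowers (f t * f s * (f t)⁻¹) = _
          rw [h2, zpowers_inv]
        constructor
        · intro h
          rw [← h3] at h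
          obtain ⟨w, hw, hw'⟩ := h
          have : w = g := (MulAut.conj (f t)).injective hw'
          rw [← this]
          exact hw
        · intro h
          rw [← h3]
          exact ⟨g, h, rfl⟩
      exact fun g => (key g).symm
  · intro hab
    apply hc
    have h1 := (commutator_mem_iff (zpowers (t * s * t⁻¹ * s)) x y).2 (hab _ _)
    exact zpowers_le_center hinv h1
  · have h1 : (center D).map (QuotientGroup.mk' (zpowers (t * s * t⁻¹ * s))) ≤
        center (D ⧸ zpowers (t * s * t⁻¹ * s)) := by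
      rintro _ ⟨w, hw, rfl⟩
      rw [mem_center_iff]
      intro g
      obtain ⟨g, rfl⟩ := QuotientGroup.mk'_surjective _ g
      rw [← map_mul, mem_center_iff.1 hw g, map_mul]
    have h2 : Nat.card ((center D).map (QuotientGroup.mk' (zpowers (t * s * t⁻¹ * s)))) ≤
        Nat.card (center (D ⧸ zpowers (t * s * t⁻¹ * s))) := card_le_of_le h1
    refine le_trans ?_ h2
    have h3 : ((center D).map (QuotientGroup.mk' (zpowers (t * s * t⁻¹ * s)))).index =
        (center D).index := by
      rw [← index_comap_of_surjective (H := (center D).map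
        (QuotientGroup.mk' (zpowers (t * s * t⁻¹ * s)))) (QuotientGroup.mk'_surjective _),
        comap_map_eq, QuotientGroup.ker_mk', sup_eq_left.2 (zpowers_le_center hinv)]
    have h4 := ((center D).map (QuotientGroup.mk' (zpowers (t * s * t⁻¹ * s)))).card_mul_index
    rw [h3, hidx] at h4
    have h5 := (zpowers (t * s * t⁻¹ * s)).card_mul_index
    have h6 := card_zpowers_le (hZ _ hinv)
    have h7 : (zpowers (t * s * t⁻¹ * s)).index = Nat.card (D ⧸ zpowers (t * s * t⁻¹ * s)) := rfl
    rw [hcard, h7, ← h4] at h5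
    by_contra hlt
    push Not at hlt
    have h8 : Nat.card (zpowers (t * s * t⁻¹ * s)) *
        (Nat.card ((center D).map (QuotientGroup.mk' (zpowers (t * s * t⁻¹ * s)))) * 8) ≤
        2 * (3 * 8) := Nat.mul_le_mul h6 (Nat.mul_le_mul (by omega) le_rfl)
    omega

omit [Finite D] in
theorem eq_or_eq_of_mem {z g : D} (hz : z * z = 1) (h : g ∈ zpowers z) : g = 1 ∨ g = z := by
  obtain ⟨n, rfl⟩ := h
  have h2 : z ^ (2 : ℤ) = 1 := by rw [zpow_ofNat, sq, hz]
  rcases Int.even_or_odd' n with ⟨k, hk | hk⟩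
  · left
    simp only [hk, zpow_mul, h2, one_zpow]
  · right
    simp only [hk, zpow_add, zpow_mul, h2, one_zpow, one_mul, zpow_one]

/-- Case `|D'| = 4`, `|Z(D)| = 4`. -/
theorem case_four {x y : D} (hZ : ∀ z ∈ center D, z * z = 1) (hc : ⁅x, y⁆ ∉ center D) (h4 : Nat.card (center D) = 4)
    (hD' : Nat.card (commutator D) = 4) (hcard : Nat.card D = 64) :
    ∃ z : D, z ∈ center D ∧ ∃ _ : (zpowers z).Normal, GoodA (D ⧸ zpowers z) := by
  have hcD : ⁅x, y⁆ ∈ commutator D := by
    rw [_root_.commutator_def]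
    exact commutator_mem_commutator (mem_top _) (mem_top _)
  have hnle : ¬ center D ≤ commutator D := by
    intro hle
    have h1 : center D = commutator D := eq_of_le_of_card_ge hle (by rw [h4, hD'])
    exact hc (h1 ▸ hcD)
  obtain ⟨z, hz, hzD⟩ := SetLike.not_le_iff_exists.1 hnle
  have hn := normal_zpowers hz
  have hz2 := hZ z hz
  have hz1 : z ≠ 1 := fun h => hzD (h ▸ one_mem _)
  refine ⟨z, hz, hn, goodA_of hz1 hz2 hcard ?_ ?_⟩
  · have h1 : Subgroup.upperCentralSeriesStep (zpowers z) = center D := by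
      apply le_antisymm
      · intro w hw
        rw [mem_center_iff]
        intro g
        have h2 : ⁅w, g⁆ ∈ zpowers z := hw g
        have h3 : ⁅w, g⁆ ∈ commutator D := by
          rw [_root_.commutator_def]
          exact commutator_mem_commutator (mem_top _) (mem_top _)
        rcases eq_or_eq_of_mem hz2 h2 with h5 | h5
        · exact (commutatorElement_eq_one_iff_mul_comm.1 h5).symm
        · rw [h5] at h3
          exact absurd h3 hzD
      · intro w hw g
        have : ⁅w, g⁆ = 1 :=
          commutatorElement_eq_one_iff_mul_comm.2 (mem_center_iff.1 hw g).symm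
        rw [this]
        exact one_mem _
    rw [h1, h4]
  · have h1 := card_sup_le (commutator D) (zpowers z)
    have h2 := card_zpowers_le hz2
    have h3 : Nat.card (commutator D ⊔ zpowers z : Subgroup D) ≤ 8 :=
      h1.trans (by rw [hD']; omega)
    have h5 : Nat.card (commutator D) ∣ Nat.card (commutator D ⊔ zpowers z : Subgroup D) :=
      card_dvd_of_le le_sup_left
    rw [hD'] at h5
    have h6 : Nat.card (commutator D ⊔ zpowers z : Subgroup D) ≠ 4 := by
      intro h
      have h7 : commutator D = commutator D ⊔ zpowers z :=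
        eq_of_le_of_card_ge le_sup_left (by rw [h, hD'])
      apply hzD
      rw [h7]
      exact (le_sup_right : zpowers z ≤ _) (mem_zpowers z)
    have h7 : 0 < Nat.card (commutator D ⊔ zpowers z : Subgroup D) := Nat.card_pos
    obtain ⟨k, hk⟩ := h5
    rw [hk] at h3 h6 h7 ⊢
    omega

theorem comm_mem (a b : D) : ⁅a, b⁆ ∈ commutator D := by
  rw [_root_.commutator_def]
  exact commutator_mem_commutator (mem_top _) (mem_top _)

/-- If `|D'| = 8` then the center is contained in the derived subgroup. -/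
theorem center_le (hZ : ∀ z ∈ center D, z * z = 1) (h8 : ∀ g : D, g ^ 8 = 1)
    (hD' : Nat.card (commutator D) = 8) (hcard : Nat.card D = 64) : center D ≤ commutator D := by
  intro v hv
  by_contra hvD
  have hn := normal_zpowers hv
  have hv2 := hZ v hv
  have hv1 : v ≠ 1 := fun h => hvD (h ▸ one_mem _)
  have h2 : Nat.card (zpowers v) = 2 := by
    rw [Nat.card_zpowers]
    exact orderOf_eq_prime (by rw [sq]; exact hv2) hv1
  have h3 := (zpowers v).card_mul_index
  rw [h2, hcard] at h3
  have h4 : Nat.card (D ⧸ zpowers v) = 32 := by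
    change (zpowers v).index = 32
    omega
  have h5 := eight_le_index (T := D ⧸ zpowers v)
    (IsPGroup.of_card (n := 5) (by rw [h4]; norm_num)) (by rw [h4]) (fun g => by
      obtain ⟨g, rfl⟩ := QuotientGroup.mk'_surjective _ g
      rw [← map_pow, h8, map_one])
  rw [index_commutator_quot] at h5
  have h6 := (commutator D ⊔ zpowers v : Subgroup D).card_mul_index
  rw [hcard] at h6
  have h7 : Nat.card (commutator D) ∣ Nat.card (commutator D ⊔ zpowers v : Subgroup D) :=
    card_dvd_of_le le_sup_left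
  rw [hD'] at h7
  have h8' : Nat.card (commutator D ⊔ zpowers v : Subgroup D) ≠ 8 := by
    intro h
    have h7 : commutator D = commutator D ⊔ zpowers v :=
      eq_of_le_of_card_ge le_sup_left (by rw [h, hD'])
    apply hvD
    rw [h7]
    exact (le_sup_right : zpowers v ≤ _) (mem_zpowers v)
  obtain ⟨k, hk⟩ := h7
  rw [hk] at h6 h8'
  have h9 : k ≠ 0 := by rintro rfl; omega
  have h10 : k ≠ 1 := by rintro rfl; omega
  have h11 : 8 * 2 * 8 ≤ 8 * k * (commutator D ⊔ zpowers v : Subgroup D).index :=
    Nat.mul_le_mul (Nat.mul_le_mul le_rfl (by omega)) h5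
  omega

/-- A product of two elements outside a subgroup of index at most two. -/
theorem mul_mem_of_card_le {H K : Subgroup D} (hHK : H ≤ K) (hcard : Nat.card K ≤ 2 * Nat.card H)
    {a b : D} (ha : a ∈ K) (hb : b ∈ K) (ha' : a ∉ H) (hb' : b ∉ H) : a * b ∈ H := by
  have h1 := (H.subgroupOf K).card_mul_index
  rw [Nat.card_congr (subgroupOfEquivOfLe hHK).toEquiv] at h1
  have h2 : (H.subgroupOf K).index ≠ 1 := by
    intro h
    rw [index_eq_one] at h
    exact ha' (subgroupOf_eq_top.1 h ha)
  have h0 : 0 < Nat.card H := Nat.card_pos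
  have h3 : (H.subgroupOf K).index ≠ 0 := index_ne_zero_of_finite
  have h4 : (H.subgroupOf K).index = 2 := by
    by_contra hne
    have h5 : 3 ≤ (H.subgroupOf K).index := by omega
    have h6 := Nat.mul_le_mul_left (Nat.card H) h5
    omega
  have h5 := (mul_mem_iff_of_index_two h4 (a := ⟨a, ha⟩) (b := ⟨b, hb⟩)).2
    ⟨fun h => absurd (mem_subgroupOf.1 h) ha', fun h => absurd (mem_subgroupOf.1 h) hb'⟩
  exact mem_subgroupOf.1 h5

/-- If `c` is central modulo `z` then its square is not in `⟨z⟩`. -/
theorem sq_notMem {x y : D} (hgen : closure ({x, y} : Set D) = ⊤)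
    (hZ : ∀ z ∈ center D, z * z = 1)
    (hD' : Nat.card (commutator D) = 8) (hZD : center D ≤ commutator D)
    (hcard : Nat.card D = 64) {z : D} (hz : z ∈ center D)
    (hcz : ∀ g, ⁅⁅x, y⁆, g⁆ ∈ zpowers z) : ⁅x, y⁆ * ⁅x, y⁆ ∉ zpowers z := by
  have hn := normal_zpowers hz
  set c := ⁅x, y⁆ with hcdef
  intro hcc
  set f := QuotientGroup.mk' (zpowers z) with hf
  have hcen : f c ∈ center (D ⧸ zpowers z) := by
    rw [mem_center_iff]
    intro g
    obtain ⟨g, rfl⟩ := QuotientGroup.mk'_surjective _ g
    exact ((commutator_mem_iff (zpowers z) c g).1 (hcz g)).symm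
  have hn' := normal_zpowers hcen
  have h1 : commutator (D ⧸ zpowers z) ≤ zpowers (f c) := by
    refine commutator_le_of_gen (closure_quot hgen (zpowers z)) ?_
    rw [← map_commutatorElement]
    exact mem_zpowers _
  have h2 : Nat.card (zpowers (f c)) ≤ 2 := by
    refine card_zpowers_le ?_
    rw [← map_mul, hf, QuotientGroup.mk'_apply, QuotientGroup.eq_one_iff]
    exact hcc
  have h3 : Nat.card (commutator (D ⧸ zpowers z)) ≤ 2 := (card_le_of_le h1).trans h2
  have h5 := (commutator (D ⧸ zpowers z)).card_mul_index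
  rw [index_commutator_quot] at h5
  have h6 : commutator D ⊔ zpowers z = commutator D :=
    sup_eq_left.2 ((zpowers_le).2 (hZD hz))
  rw [h6] at h5
  have h7 := (commutator D).card_mul_index
  rw [hD', hcard] at h7
  have h8 := (zpowers z).card_mul_index
  have h9 := card_zpowers_le (hZ z hz)
  have h10 : (zpowers z).index = Nat.card (D ⧸ zpowers z) := rfl
  rw [hcard, h10, ← h5] at h8
  have h11 : (commutator D).index = 8 := by omega
  rw [h11] at h8
  have h12 : Nat.card (zpowers z) * (Nat.card (commutator (D ⧸ zpowers z)) * 8) ≤ 2 * (2 * 8) :=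
    Nat.mul_le_mul h9 (Nat.mul_le_mul h3 le_rfl)
  omega

/-- The commutator `c` does not centralize `D` modulo a central involution. -/
theorem comm_notMem_step {x y : D} (hgen : closure ({x, y} : Set D) = ⊤)
    (hZ : ∀ z ∈ center D, z * z = 1) (hc : ⁅x, y⁆ ∉ center D)
    (hD' : Nat.card (commutator D) = 8) (hZD : center D ≤ commutator D)
    (hcard : Nat.card D = 64) (h4 : Nat.card (center D) = 4) {z : D} (hz : z ∈ center D) :
    ¬ ∀ g, ⁅⁅x, y⁆, g⁆ ∈ zpowers z := by
  intro hcz
  have hn := normal_zpowers hz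
  have hnZ : (center D).Normal := inferInstance
  have hc2 := sq_notMem hgen hZ hD' hZD hcard hz hcz
  set c := ⁅x, y⁆ with hcdef
  have hcD : c ∈ commutator D := comm_mem x y
  -- commutators with `c`
  have hcc : c * c ∈ center D :=
    mul_mem_of_card_le hZD (by rw [hD', h4]) hcD hcD hc hc
  have hxc : ⁅x, c⁆ ∈ zpowers z := by
    rw [← commutatorElement_inv]
    exact inv_mem (hcz x)
  have hyc : ⁅y, c⁆ ∈ zpowers z := by
    rw [← commutatorElement_inv]
    exact inv_mem (hcz y)
  have hzle := zpowers_le_center hz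
  have e1 : ⁅x * x, y⁆ = ⁅x, c⁆ * (c * c) := by
    rw [hcdef]
    simp only [commutatorElement_def]
    group
  have e2 : ⁅x, y * y⁆ = ⁅y, c⁆ * (c * c) := by
    have h1 : ⁅x, y * y⁆ = c * ⁅y, c⁆ * c := by
      rw [hcdef]
      simp only [commutatorElement_def]
      group
    rw [h1, mem_center_iff.1 (hzle hyc) c, mul_assoc]
  have e3 : ⁅x * x * (y * y), y⁆ = ⁅x, c⁆ * (c * c) := by
    rw [← e1]
    simp only [commutatorElement_def]
    group
  -- the subgroups
  set Z2 := Subgroup.upperCentralSeriesStep (center D) with hZ2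
  set W := Subgroup.upperCentralSeriesStep (zpowers z) with hW
  have hWZ2 : W ≤ Z2 := fun w hw g => hzle (hw g)
  have hZW : center D ≤ W := by
    intro w hw g
    have : ⁅w, g⁆ = 1 := commutatorElement_eq_one_iff_mul_comm.2 (mem_center_iff.1 hw g).symm
    rw [this]
    exact one_mem _
  have hcW : c ∈ W := hcz
  have hW8 : 8 ≤ Nat.card W := by
    have h1 : Nat.card (center D) ∣ Nat.card W := card_dvd_of_le hZW
    rw [h4] at h1
    have h2 : Nat.card W ≠ 4 := by
      intro h
      have h3 : center D = W := eq_of_le_of_card_ge hZW (by rw [h, h4])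
      exact hc (h3 ▸ hcW)
    have h3 : 0 < Nat.card W := Nat.card_pos
    obtain ⟨k, hk⟩ := h1
    omega
  have hZ16 : Nat.card Z2 ≤ 16 := by
    have h1 : 4 ≤ (center (D ⧸ center D)).index := by
      apply four_le_index_center
      intro hab
      exact hc ((commutator_mem_iff (center D) x y).2 (hab _ _))
    rw [index_center_quot] at h1
    have h2 := Z2.card_mul_index
    rw [hcard] at h2
    by_contra hlt
    push Not at hlt
    have h3 : 17 * 4 ≤ Nat.card Z2 * Z2.index := Nat.mul_le_mul hlt h1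
    omega
  have mem_Z2 : ∀ g : D, ⁅g, x⁆ ∈ center D → ⁅g, y⁆ ∈ center D → g ∈ Z2 := by
    intro g hgx hgy
    have h1 := mem_center_of_comm (closure_quot hgen (center D))
      ((commutator_mem_iff (center D) g x).1 hgx) ((commutator_mem_iff (center D) g y).1 hgy)
    rw [hZ2, Subgroup.upperCentralSeriesStep_eq_comap_center]
    exact mem_comap.2 h1
  have hx2 : x * x ∈ Z2 := by
    refine mem_Z2 _ ?_ ?_
    · have : ⁅x * x, x⁆ = 1 := by rw [commutatorElement_def]; group
      rw [this]
      exact one_mem _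
    · rw [e1]
      exact mul_mem (hzle hxc) hcc
  have hy2 : y * y ∈ Z2 := by
    refine mem_Z2 _ ?_ ?_
    · rw [← commutatorElement_inv, e2]
      exact inv_mem (mul_mem (hzle hyc) hcc)
    · have : ⁅y * y, y⁆ = 1 := by rw [commutatorElement_def]; group
      rw [this]
      exact one_mem _
  have hx2' : x * x ∉ W := by
    intro h
    apply hc2
    have h1 : ⁅x * x, y⁆ ∈ zpowers z := h y
    rw [e1] at h1
    exact (mul_mem_cancel_left hxc).1 h1
  have hy2' : y * y ∉ W := by
    intro h
    apply hc2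
    have h1 : ⁅y * y, x⁆ ∈ zpowers z := h x
    rw [← commutatorElement_inv, inv_mem_iff, e2] at h1
    exact (mul_mem_cancel_left hyc).1 h1
  have h5 := mul_mem_of_card_le hWZ2 (by omega) hx2 hy2 hx2' hy2'
  have h6 : ⁅x * x * (y * y), y⁆ ∈ zpowers z := h5 y
  rw [e3] at h6
  exact hc2 ((mul_mem_cancel_left hxc).1 h6)

omit [Finite D] in
theorem mk_ne_mk {z z' w w' : D} (hz2 : z * z = 1) (hz2' : z' * z' = 1)
    (hne : z ≠ z') (hw : ∀ g, ⁅w, g⁆ ∈ zpowers z) (hw' : ∀ g, ⁅w', g⁆ ∈ zpowers z')
    (hwZ : w ∉ center D) :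
    QuotientGroup.mk' (center D) w ≠ QuotientGroup.mk' (center D) w' := by
  intro h
  apply hwZ
  have h1 : w⁻¹ * w' ∈ center D := QuotientGroup.eq.1 h
  have h2 : ∀ g : D, ⁅w', g⁆ = ⁅w, g⁆ := by
    intro g
    have h3 : w' = w * (w⁻¹ * w') := by group
    have h4 := mem_center_iff.1 h1
    calc ⁅w', g⁆ = w * ((w⁻¹ * w') * g) * (w⁻¹ * w')⁻¹ * w⁻¹ * g⁻¹ := by
          rw [commutatorElement_def]; group
      _ = w * (g * (w⁻¹ * w')) * (w⁻¹ * w')⁻¹ * w⁻¹ * g⁻¹ := by rw [h4 g]
      _ = ⁅w, g⁆ := by rw [commutatorElement_def]; group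
  rw [mem_center_iff]
  intro g
  have h3 := hw g
  have h4 := hw' g
  rw [h2 g] at h4
  rcases eq_or_eq_of_mem hz2 h3 with h5 | h5
  · exact (commutatorElement_eq_one_iff_mul_comm.1 h5).symm
  · rcases eq_or_eq_of_mem hz2' h4 with h6 | h6
    · exact (commutatorElement_eq_one_iff_mul_comm.1 h6).symm
    · exact absurd (h5.symm.trans h6) hne

/-- Case `|D'| = 8`, `|Z(D)| = 4`. -/
theorem case_eight_four {x y : D} (hgen : closure ({x, y} : Set D) = ⊤)
    (hZ : ∀ z ∈ center D, z * z = 1) (hc : ⁅x, y⁆ ∉ center D)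
    (hD' : Nat.card (commutator D) = 8) (hZD : center D ≤ commutator D)
    (hcard : Nat.card D = 64) (h4 : Nat.card (center D) = 4) :
    ∃ z : D, z ∈ center D ∧ ∃ _ : (zpowers z).Normal, GoodA (D ⧸ zpowers z) := by
  classical
  by_contra hcon
  -- every central involution has a witness
  have hwit : ∀ z ∈ center D, z ≠ 1 → ∃ w : D, w ∉ center D ∧ ∀ g : D, ⁅w, g⁆ ∈ zpowers z := by
    intro z hz hz1
    by_contra hno
    push Not at hno
    apply hcon
    have hn := normal_zpowers hz
    refine ⟨z, hz, hn, goodA_of hz1 (hZ z hz) hcard ?_ ?_⟩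
    · have h1 : Subgroup.upperCentralSeriesStep (zpowers z) = center D := by
        apply le_antisymm
        · intro w hw
          by_contra hwZ
          obtain ⟨g, hg⟩ := hno w hwZ
          exact hg (hw g)
        · intro w hw g
          have : ⁅w, g⁆ = 1 :=
            commutatorElement_eq_one_iff_mul_comm.2 (mem_center_iff.1 hw g).symm
          rw [this]
          exact one_mem _
      rw [h1, h4]
    · rw [sup_eq_left.2 ((zpowers_le).2 (hZD hz)), hD']
  -- three central involutions
  obtain ⟨z1, hz1, hz11⟩ : ∃ z ∈ center D, z ≠ 1 := by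
    by_contra hno
    push Not at hno
    have : center D = ⊥ := by
      rw [eq_bot_iff]
      intro z hz
      exact mem_bot.2 (hno z hz)
    rw [this, card_bot] at h4
    omega
  obtain ⟨z2, hz2, hz21⟩ : ∃ z ∈ center D, z ∉ zpowers z1 := by
    apply SetLike.not_le_iff_exists.1
    intro hle
    have h1 := card_le_of_le hle
    have h2 := card_zpowers_le (hZ z1 hz1)
    omega
  have hz2ne1 : z2 ≠ 1 := fun h => hz21 (h ▸ one_mem _)
  have hz2nez1 : z1 ≠ z2 := fun h => hz21 (h ▸ mem_zpowers _)
  have hz3 : z1 * z2 ∈ center D := mul_mem hz1 hz2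
  have hz3ne1 : z1 * z2 ≠ 1 := by
    intro h
    apply hz2nez1
    have h1 := hZ z2 hz2
    exact mul_right_cancel (h.trans h1.symm)
  have hz3ne2 : z1 * z2 ≠ z2 := fun h => hz11 (mul_eq_right.1 h)
  have hz3ne : z1 * z2 ≠ z1 := fun h => hz2ne1 (mul_eq_left.1 h)
  obtain ⟨w1, hw1, hw1'⟩ := hwit z1 hz1 hz11
  obtain ⟨w2, hw2, hw2'⟩ := hwit z2 hz2 hz2ne1
  obtain ⟨w3, hw3, hw3'⟩ := hwit (z1 * z2) hz3 hz3ne1
  set f := QuotientGroup.mk' (center D) with hf
  have hone : ∀ w, w ∉ center D → f w ≠ 1 := by
    intro w hw h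
    apply hw
    rwa [hf, QuotientGroup.mk'_apply, QuotientGroup.eq_one_iff] at h
  have hcne : ∀ z ∈ center D, ∀ w : D, (∀ g : D, ⁅w, g⁆ ∈ zpowers z) → f ⁅x, y⁆ ≠ f w := by
    intro z hz w hw h
    refine comm_notMem_step hgen hZ hc hD' hZD hcard h4 hz ?_
    have h1 : w⁻¹ * ⁅x, y⁆ ∈ center D := QuotientGroup.eq.1 h.symm
    intro g
    have h4 := mem_center_iff.1 h1
    have h5 : ⁅⁅x, y⁆, g⁆ = ⁅w, g⁆ := by
      calc ⁅⁅x, y⁆, g⁆ = w * ((w⁻¹ * ⁅x, y⁆) * g) * (w⁻¹ * ⁅x, y⁆)⁻¹ * w⁻¹ * g⁻¹ := by
            rw [commutatorElement_def ⁅x, y⁆ g]; group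
        _ = w * (g * (w⁻¹ * ⁅x, y⁆)) * (w⁻¹ * ⁅x, y⁆)⁻¹ * w⁻¹ * g⁻¹ := by rw [h4 g]
        _ = ⁅w, g⁆ := by rw [commutatorElement_def w g]; group
    rw [h5]
    exact hw g
  -- the center of `D / Z`
  have hcardQ : Nat.card (D ⧸ center D) = 16 := by
    have h1 := (center D).card_mul_index
    rw [h4, hcard] at h1
    change (center D).index = 16
    omega
  have hA : Nat.card (center (D ⧸ center D)) ≤ 4 := by
    have h1 : 4 ≤ (center (D ⧸ center D)).index := by
      apply four_le_index_center
      intro hab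
      exact hc ((commutator_mem_iff (center D) x y).2 (hab _ _))
    have h2 := (center (D ⧸ center D)).card_mul_index
    rw [hcardQ] at h2
    by_contra hlt
    push Not at hlt
    have h3 := Nat.mul_le_mul hlt h1
    omega
  have mem_A : ∀ w z : D, z ∈ center D → (∀ g : D, ⁅w, g⁆ ∈ zpowers z) → f w ∈ center (D ⧸ center D) := by
    intro w z hz hw
    rw [mem_center_iff]
    intro g
    obtain ⟨g, rfl⟩ := QuotientGroup.mk'_surjective _ g
    exact ((commutator_mem_iff (center D) w g).1 (zpowers_le_center hz (hw g))).symm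
  have hcA : f ⁅x, y⁆ ∈ center (D ⧸ center D) := by
    have h1 : Nat.card (commutator (D ⧸ center D)) ≤ 2 := by
      have h5 := (commutator (D ⧸ center D)).card_mul_index
      rw [index_commutator_quot, hcardQ, sup_eq_left.2 hZD] at h5
      have h7 := (commutator D).card_mul_index
      rw [hD', hcard] at h7
      have h8 : (commutator D).index = 8 := by omega
      rw [h8] at h5
      omega
    have h2 := le_center_of_card_le _ h1
    apply h2
    rw [map_commutatorElement]
    exact comm_mem _ _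
  -- five elements
  let F : Finset (center (D ⧸ center D)) :=
    {1, ⟨f ⁅x, y⁆, hcA⟩, ⟨f w1, mem_A w1 z1 hz1 hw1'⟩, ⟨f w2, mem_A w2 z2 hz2 hw2'⟩,
      ⟨f w3, mem_A w3 _ hz3 hw3'⟩}
  have hF : F.card = 5 := by
    have n1 := hone _ hc
    have n2 := hone _ hw1
    have n3 := hone _ hw2
    have n4 := hone _ hw3
    have m1 := hcne z1 hz1 w1 hw1'
    have m2 := hcne z2 hz2 w2 hw2'
    have m3 := hcne _ hz3 w3 hw3'
    have k1 := mk_ne_mk (hZ _ hz1) (hZ _ hz2) hz2nez1 hw1' hw2' hw1
    have k2 := mk_ne_mk (hZ _ hz1) (hZ _ hz3) hz3ne.symm hw1' hw3' hw1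
    have k3 := mk_ne_mk (hZ _ hz2) (hZ _ hz3) hz3ne2.symm hw2' hw3' hw2
    rw [← hf] at k1 k2 k3
    rw [Finset.card_insert_of_notMem, Finset.card_insert_of_notMem,
      Finset.card_insert_of_notMem, Finset.card_insert_of_notMem, Finset.card_singleton]
    · simp only [Finset.mem_singleton, Subtype.mk.injEq]
      exact k3
    · simp only [Finset.mem_insert, Finset.mem_singleton, Subtype.mk.injEq, not_or]
      exact ⟨k1, k2⟩
    · simp only [Finset.mem_insert, Finset.mem_singleton, Subtype.mk.injEq, not_or]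
      exact ⟨m1, m2, m3⟩
    · simp only [Finset.mem_insert, Finset.mem_singleton, Subtype.ext_iff, OneMemClass.coe_one,
        not_or]
      exact ⟨n1.symm, n2.symm, n3.symm, n4.symm⟩
  have := Fintype.ofFinite (center (D ⧸ center D))
  have h5 := Finset.card_le_univ F
  rw [← Nat.card_eq_fintype_card, hF] at h5
  omega

/-- Case `|D'| = 8`, `|Z(D)| = 2`. -/
theorem case_eight_two {x y : D} (hgen : closure ({x, y} : Set D) = ⊤)
    (hZ : ∀ z ∈ center D, z * z = 1) (h8 : ∀ g : D, g ^ 8 = 1)
    (hD' : Nat.card (commutator D) = 8) (hZD : center D ≤ commutator D)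
    (hcard : Nat.card D = 64) (h2 : Nat.card (center D) = 2) :
    ∃ z : D, z ∈ center D ∧ ∃ _ : (zpowers z).Normal, GoodA (D ⧸ zpowers z) := by
  classical
  obtain ⟨z, hz, hz1⟩ : ∃ z ∈ center D, z ≠ 1 := by
    by_contra hno
    push Not at hno
    have : center D = ⊥ := by
      rw [eq_bot_iff]
      intro z hz
      exact mem_bot.2 (hno z hz)
    rw [this, card_bot] at h2
    omega
  have hz2 := hZ z hz
  have hzc : Nat.card (zpowers z) = 2 := by
    rw [Nat.card_zpowers]
    exact orderOf_eq_prime (by rw [sq]; exact hz2) hz1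
  have hzZ : zpowers z = center D :=
    eq_of_le_of_card_ge (zpowers_le_center hz) (by rw [h2, hzc])
  have hn := normal_zpowers hz
  refine ⟨z, hz, hn, goodA_of hz1 hz2 hcard ?_ (by rw [sup_eq_left.2 ((zpowers_le).2 (hZD hz)), hD'])⟩
  set W := Subgroup.upperCentralSeriesStep (zpowers z) with hW
  have hWn : W.Normal := by
    rw [hW, Subgroup.upperCentralSeriesStep_eq_comap_center]
    infer_instance
  have hW8 : Nat.card W ≤ 8 := by
    have h1 := card_le_mul_sq hgen (zpowers z) W (fun w hw g => hw g)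
    rw [h2, hzc] at h1
    exact h1.trans (by norm_num)
  have hWcard := W.card_mul_index
  rw [hcard] at hWcard
  -- `|W| > 2`
  have hTcard : Nat.card (D ⧸ zpowers z) = 32 := by
    have h3 := (zpowers z).card_mul_index
    rw [hzc, hcard] at h3
    change (zpowers z).index = 32
    omega
  have hT : IsPGroup 2 (D ⧸ zpowers z) := IsPGroup.of_card (n := 5) (by rw [hTcard]; norm_num)
  have hWpow : ∃ k, Nat.card (center (D ⧸ zpowers z)) = 2 ^ k ∧ k ≠ 0 := by
    have h3 : IsPGroup 2 (center (D ⧸ zpowers z)) := hT.to_subgroup _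
    obtain ⟨k, hk⟩ := h3.exists_card_eq
    refine ⟨k, hk, ?_⟩
    rintro rfl
    have hnt : Nontrivial (D ⧸ zpowers z) := by
      rw [← Finite.one_lt_card_iff_nontrivial, hTcard]
      norm_num
    have h4 : Nontrivial (center (D ⧸ zpowers z)) := hT.center_nontrivial
    rw [← Finite.one_lt_card_iff_nontrivial, hk] at h4
    omega
  obtain ⟨k, hk, hk0⟩ := hWpow
  have h3 := (center (D ⧸ zpowers z)).card_mul_index
  rw [index_center_quot, hTcard, ← hW, hk] at h3
  have hidx : 0 < W.index := Nat.pos_of_ne_zero index_ne_zero_of_finite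
  have hWk : Nat.card W = 2 * 2 ^ k := by
    have h5 : Nat.card W * W.index = 2 * 2 ^ k * W.index := by
      rw [hWcard, mul_assoc, h3]
      norm_num
    exact Nat.eq_of_mul_eq_mul_right hidx h5
  have hk2 : k ≤ 2 := by
    by_contra hlt
    have : 2 ^ 3 ≤ 2 ^ k := Nat.pow_le_pow_right (by norm_num) (by omega)
    omega
  have hk12 : k = 1 ∨ k = 2 := by omega
  rcases hk12 with rfl | rfl
  · rw [hWk]; norm_num
  exfalso
  have hW8' : Nat.card W = 8 := by rw [hWk]; norm_num
  have hWidx : W.index = 8 := by omega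
  -- squares of elements of `W` are central
  have hWsq : ∀ w ∈ W, w * w ∈ center D := by
    intro w hw
    rw [mem_center_iff]
    intro g
    have h4 : ⁅w, g⁆ ∈ zpowers z := hw g
    have h5 : ⁅w * w, g⁆ = 1 := by
      calc ⁅w * w, g⁆ = w * ⁅w, g⁆ * w⁻¹ * ⁅w, g⁆ := by
            simp only [commutatorElement_def]; group
        _ = ⁅w, g⁆ * w * w⁻¹ * ⁅w, g⁆ := by
            rw [mem_center_iff.1 (zpowers_le_center hz h4) w]
        _ = ⁅w, g⁆ * ⁅w, g⁆ := by rw [mul_inv_cancel_right]
        _ = 1 := hZ _ (zpowers_le_center hz h4)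
    exact (commutatorElement_eq_one_iff_mul_comm.1 h5).symm
  have hcW : ⁅x, y⁆ ∉ W := by
    intro hc
    have h4 := sq_notMem hgen hZ hD' hZD hcard hz (fun g => hc g)
    apply h4
    rw [hzZ]
    exact hWsq _ hc
  obtain ⟨s, t, hst, hs2, hs4, hinv, hc'⟩ := exists_inv hgen W hWidx hcW
  obtain ⟨ζ, hζ⟩ : ∃ ζ, ζ = t * s * t⁻¹ * s := ⟨_, rfl⟩
  rw [← hζ] at hinv
  have hts : t * s * t⁻¹ = ζ * s⁻¹ := by rw [hζ]; group
  -- the square of `ζ s⁻¹`
  obtain ⟨e, he⟩ : ∃ e, e = ζ * ζ * (ζ⁻¹ * s⁻¹ * ζ * s) := ⟨_, rfl⟩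
  have heZ : e ∈ center D := by
    rw [he]
    refine mul_mem (hWsq ζ hinv) ?_
    have h4 : ⁅ζ⁻¹, s⁻¹⁆ ∈ zpowers z := W.inv_mem hinv s⁻¹
    have h5 : ⁅ζ⁻¹, s⁻¹⁆ = ζ⁻¹ * s⁻¹ * ζ * s := by
      rw [commutatorElement_def]; group
    rw [h5] at h4
    exact zpowers_le_center hz h4
  have hts2 : t * (s * s) * t⁻¹ = e * (s * s)⁻¹ := by
    calc t * (s * s) * t⁻¹ = (t * s * t⁻¹) * (t * s * t⁻¹) := by group
      _ = (ζ * s⁻¹) * (ζ * s⁻¹) := by rw [hts]
      _ = e * (s * s)⁻¹ := by rw [he]; group
  have hs4Z : s * s * (s * s) ∉ center D := by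
    intro h4
    apply hs2
    have h5 : ⁅s * s, s⁆ ∈ zpowers z := by
      have : ⁅s * s, s⁆ = 1 := by rw [commutatorElement_def]; group
      rw [this]
      exact one_mem _
    have h6 : ⁅s * s, t⁆ ∈ zpowers z := by
      have h7 : ⁅s * s, t⁆ = s * s * (s * s) * e⁻¹ := by
        calc ⁅s * s, t⁆ = s * s * (t * (s * s) * t⁻¹)⁻¹ := by
              rw [commutatorElement_def]; group
          _ = s * s * (e * (s * s)⁻¹)⁻¹ := by rw [hts2]
          _ = s * s * (s * s) * e⁻¹ := by rw [mul_inv_rev, inv_inv, ← mul_assoc]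
      rw [h7, hzZ]
      exact mul_mem h4 (inv_mem heZ)
    have h7 := mem_center_of_comm (closure_quot hst (zpowers z))
      ((commutator_mem_iff (zpowers z) (s * s) s).1 h5)
      ((commutator_mem_iff (zpowers z) (s * s) t).1 h6)
    rw [hW, Subgroup.upperCentralSeriesStep_eq_comap_center]
    exact mem_comap.2 h7
  apply hs4Z
  refine mem_center_of_comm hst (by group) ?_
  have h9 : t * (s * s * (s * s)) * t⁻¹ = s * s * (s * s) := by
    have hcm := mem_center_iff.1 heZ
    have h10 : s * s * (s * s) * (s * s * (s * s)) = 1 := by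
      rw [← h8 s]
      simp only [pow_succ, pow_zero, one_mul, mul_assoc]
    calc t * (s * s * (s * s)) * t⁻¹ = (t * (s * s) * t⁻¹) * (t * (s * s) * t⁻¹) := by group
      _ = (e * (s * s)⁻¹) * (e * (s * s)⁻¹) := by rw [hts2]
      _ = e * ((s * s)⁻¹ * e) * (s * s)⁻¹ := by group
      _ = e * (e * (s * s)⁻¹) * (s * s)⁻¹ := by rw [hcm]
      _ = (e * e) * (s * s * (s * s))⁻¹ := by group
      _ = (s * s * (s * s))⁻¹ := by rw [hZ e heZ, one_mul]
      _ = s * s * (s * s) := inv_eq_of_mul_eq_one_left h10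
  calc s * s * (s * s) * t = (t * (s * s * (s * s)) * t⁻¹) * t := by rw [h9]
    _ = t * (s * s * (s * s)) := by group

/-- **The group theory**: a two-generated group of order `64` and exponent dividing `8` with
elementary abelian center has a good quotient. -/
theorem exists_good {x y : D} (hgen : closure ({x, y} : Set D) = ⊤)
    (hcard : Nat.card D = 64) (hZ : ∀ z ∈ center D, z * z = 1) (h8 : ∀ g : D, g ^ 8 = 1) :
    ∃ z : D, z ∈ center D ∧ ∃ _ : (zpowers z).Normal,
      GoodA (D ⧸ zpowers z) ∨ GoodB (D ⧸ zpowers z) := by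
  have hc := comm_notMem_center hgen (by rw [hcard]; norm_num) hZ
  have hD : IsPGroup 2 D := IsPGroup.of_card (n := 6) (by rw [hcard]; norm_num)
  have hcD : ⁅x, y⁆ ∈ commutator D := comm_mem x y
  -- the derived subgroup
  have hidx := eight_le_index hD (by rw [hcard]; norm_num) h8
  have hmul := (commutator D).card_mul_index
  rw [hcard] at hmul
  obtain ⟨k, hk⟩ := (hD.to_subgroup (commutator D)).exists_card_eq
  have hk3 : k ≤ 3 := by
    by_contra hlt
    have h1 : 2 ^ 4 ≤ 2 ^ k := Nat.pow_le_pow_right (by norm_num) (by omega)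
    have h2 : 16 * 8 ≤ Nat.card (commutator D) * (commutator D).index :=
      Nat.mul_le_mul (by omega) hidx
    omega
  have hk2 : 2 ≤ k := by
    by_contra hlt
    have h1 : 2 ^ k ≤ 2 ^ 1 := Nat.pow_le_pow_right (by norm_num) (by omega)
    exact hc (le_center_of_card_le _ (by rw [hk]; omega) hcD)
  -- the center
  obtain ⟨m, hm⟩ := (hD.to_subgroup (center D)).exists_card_eq
  have hm3 : m ≤ 3 := by
    by_contra hlt
    have h1 : 2 ^ 4 ≤ 2 ^ m := Nat.pow_le_pow_right (by norm_num) (by omega)
    have h2 := (center D).card_mul_index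
    rw [hcard] at h2
    have h3 : Nat.card (D ⧸ center D) ≤ 4 := by
      change (center D).index ≤ 4
      by_contra h4
      push Not at h4
      have : 16 * 5 ≤ Nat.card (center D) * (center D).index := Nat.mul_le_mul (by omega) h4
      omega
    exact hc ((commutator_mem_iff (center D) x y).2 (comm_of_card_le h3 _ _))
  have hm0 : m ≠ 0 := by
    rintro rfl
    have hnt : Nontrivial D := by
      rw [← Finite.one_lt_card_iff_nontrivial, hcard]
      norm_num
    have h4 : Nontrivial (center D) := hD.center_nontrivial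
    rw [← Finite.one_lt_card_iff_nontrivial, hm] at h4
    omega
  by_cases hm8 : m = 3
  · obtain ⟨z, hz, hn, h⟩ := case_eight hgen hZ hc (by rw [hm, hm8]; norm_num) hcard
    exact ⟨z, hz, hn, Or.inr h⟩
  have hkk : k = 2 ∨ k = 3 := by omega
  rcases hkk with rfl | rfl
  · have h4 : Nat.card (commutator D) = 4 := by rw [hk]; norm_num
    have h5 := card_le_mul_sq hgen (commutator D) ⊤ (fun w _ g => comm_mem w g)
    rw [h4, card_top, hcard] at h5
    have hm2 : m = 2 := by
      by_contra hne
      have : m = 1 := by omega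
      rw [hm, this] at h5
      omega
    obtain ⟨z, hz, hn, h⟩ := case_four hZ hc (by rw [hm, hm2]; norm_num) h4 hcard
    exact ⟨z, hz, hn, Or.inl h⟩
  · have h4 : Nat.card (commutator D) = 8 := by rw [hk]; norm_num
    have hZD := center_le hZ h8 h4 hcard
    have hm12 : m = 1 ∨ m = 2 := by omega
    rcases hm12 with rfl | rfl
    · obtain ⟨z, hz, hn, h⟩ := case_eight_two hgen hZ h8 h4 hZD hcard (by rw [hm]; norm_num)
      exact ⟨z, hz, hn, Or.inl h⟩
    · obtain ⟨z, hz, hn, h⟩ := case_eight_four hgen hZ hc h4 hZD hcard (by rw [hm]; norm_num)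
      exact ⟨z, hz, hn, Or.inl h⟩

end main

end Cfsg.Agent.H624.GTSix
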