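import Cfsg.Agent.H772.MetaTwoA
import Cfsg.Agent.Lib.NormalAbelian

/-!
# Two-generated groups of order `64` and exponent dividing `8` with elementary abelian center
-/

set_option autoImplicit false
set_option linter.unusedSectionVars false

namespace Cfsg.Agent.H624.GTSix

open Subgroup
open scoped commutatorElement

section basic

variable {D : Type*} [Group D]

/-- An element commuting with the generators is central. -/
theorem mem_center_of_comm {x y g : D} (hgen : closure ({x, y} : Set D) = ⊤)
    (hx : g * x = x * g) (hy : g * y = y * g) : g ∈ center D := by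
  have h : closure ({x, y} : Set D) ≤ centralizer ({g} : Set D) := by
    rw [closure_le]
    intro a ha
    rcases ha with rfl | rfl
    · exact mem_centralizer_singleton_iff.2 hx.symm
    · exact mem_centralizer_singleton_iff.2 hy.symm
  rw [hgen] at h
  exact mem_center_iff.2 fun a => mem_centralizer_singleton_iff.1 (h (mem_top a))

/-- The counting lemma. -/
theorem card_le_mul_sq [Finite D] {x y : D} (hgen : closure ({x, y} : Set D) = ⊤)
    (N W : Subgroup D) (hW : ∀ w ∈ W, ∀ g, ⁅w, g⁆ ∈ N) :
    Nat.card W ≤ Nat.card (center D) * Nat.card N ^ 2 := by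
  classical
  let F : W → N × N := fun w => (⟨⁅(w : D), x⁆, hW w w.2 x⟩, ⟨⁅(w : D), y⁆, hW w w.2 y⟩)
  have hF : ∀ w w' : W, F w = F w' → (w' : D)⁻¹ * w ∈ center D := by
    intro w w' h
    have h1 : ⁅(w : D), x⁆ = ⁅(w' : D), x⁆ := congrArg Subtype.val (congrArg Prod.fst h)
    have h2 : ⁅(w : D), y⁆ = ⁅(w' : D), y⁆ := congrArg Subtype.val (congrArg Prod.snd h)
    have key : ∀ a : D, ⁅(w : D), a⁆ = ⁅(w' : D), a⁆ →
        ((w' : D)⁻¹ * w) * a = a * ((w' : D)⁻¹ * w) := by
      intro a ha
      rw [commutatorElement_def, commutatorElement_def] at ha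
      have h3 : (w : D) * a * (w : D)⁻¹ = w' * a * (w' : D)⁻¹ := mul_right_cancel ha
      calc ((w' : D)⁻¹ * w) * a = (w' : D)⁻¹ * (w * a * (w : D)⁻¹) * w := by group
        _ = (w' : D)⁻¹ * (w' * a * (w' : D)⁻¹) * w := by rw [h3]
        _ = a * ((w' : D)⁻¹ * w) := by group
    exact mem_center_of_comm hgen (key x h1) (key y h2)
  let r : N × N → W := Function.invFun F
  have hr : ∀ w, F (r (F w)) = F w := fun w => Function.invFun_eq ⟨w, rfl⟩
  let E : W → center D × (N × N) := fun w => (⟨((r (F w) : W) : D)⁻¹ * w, hF w _ (hr w).symm⟩, F w)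
  have hE : Function.Injective E := by
    intro w w' h
    have h1 : F w = F w' := congrArg Prod.snd h
    have h2 : ((r (F w) : W) : D)⁻¹ * w = ((r (F w') : W) : D)⁻¹ * w' :=
      congrArg Subtype.val (congrArg Prod.fst h)
    rw [h1] at h2
    exact Subtype.ext (mul_left_cancel h2)
  have h1 := Nat.card_le_card_of_injective E hE
  rwa [Nat.card_prod, Nat.card_prod, ← sq] at h1

/-- A group generated by two commuting involutions. -/
theorem card_le_four [Finite D] {x y : D} (hgen : closure ({x, y} : Set D) = ⊤)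
    (hxy : x * y = y * x) (hx : x * x = 1) (hy : y * y = 1) : Nat.card D ≤ 4 := by
  classical
  let F : Bool × Bool → D := fun b => (if b.1 then x else 1) * (if b.2 then y else 1)
  have hF : Function.Surjective F := by
    intro g
    have hg : g ∈ closure ({x, y} : Set D) := hgen ▸ mem_top g
    have key : ∀ (b : Bool × Bool), (∃ b', F b' = x * F b) ∧ (∃ b', F b' = y * F b) := by
      rintro ⟨b1, b2⟩
      constructor
      · cases b1
        · exact ⟨(true, b2), by simp [F]⟩
        · exact ⟨(false, b2), by simp [F, ← mul_assoc, hx]⟩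
      · cases b2
        · refine ⟨(b1, true), ?_⟩
          cases b1 <;> simp [F, hxy]
        · refine ⟨(b1, false), ?_⟩
          cases b1
          · simp [F, hy]
          · simp only [F, if_true]
            rw [← mul_assoc, ← hxy, mul_assoc, hy]
            simp
    refine closure_induction_left (p := fun g _ => ∃ b, F b = g) ⟨(false, false), by simp [F]⟩
      ?_ ?_ hg
    · rintro a ha b _ ⟨c, rfl⟩
      rcases ha with rfl | rfl
      · exact (key c).1
      · exact (key c).2
    · rintro a ha b _ ⟨c, rfl⟩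
      rcases ha with rfl | rfl
      · have : a⁻¹ = a := inv_eq_of_mul_eq_one_left hx
        rw [this]
        exact (key c).1
      · have : a⁻¹ = a := inv_eq_of_mul_eq_one_left hy
        rw [this]
        exact (key c).2
  have := Nat.card_le_card_of_surjective F hF
  simpa using this

/-- Generation of a quotient. -/
theorem closure_quot {x y : D} (hgen : closure ({x, y} : Set D) = ⊤) (N : Subgroup D) [N.Normal] :
    closure ({QuotientGroup.mk' N x, QuotientGroup.mk' N y} : Set (D ⧸ N)) = ⊤ := by
  have h := MonoidHom.map_closure (QuotientGroup.mk' N) ({x, y} : Set D)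
  rw [hgen, Set.image_pair, ← MonoidHom.range_eq_map,
    MonoidHom.range_eq_top.2 (QuotientGroup.mk'_surjective N)] at h
  exact h.symm

/-- Commuting modulo a normal subgroup. -/
theorem commutator_mem_iff (N : Subgroup D) [N.Normal] (a b : D) :
    ⁅a, b⁆ ∈ N ↔ QuotientGroup.mk' N a * QuotientGroup.mk' N b =
      QuotientGroup.mk' N b * QuotientGroup.mk' N a := by
  rw [← commutatorElement_eq_one_iff_mul_comm, ← map_commutatorElement,
    QuotientGroup.mk'_apply, QuotientGroup.eq_one_iff]

/-- If the generators commute modulo `N` then the quotient is abelian. -/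
theorem commutator_mem_of_gen {x y : D} (hgen : closure ({x, y} : Set D) = ⊤) {N : Subgroup D}
    [N.Normal] (hc : ⁅x, y⁆ ∈ N) (a b : D) : ⁅a, b⁆ ∈ N := by
  have hc' := (commutator_mem_iff N x y).1 hc
  have h := closure_quot hgen N
  have hx := mem_center_of_comm h rfl hc'
  have hy := mem_center_of_comm h hc'.symm rfl
  have htop : closure ({QuotientGroup.mk' N x, QuotientGroup.mk' N y} : Set (D ⧸ N)) ≤
      center (D ⧸ N) := by
    rw [closure_le]
    intro a ha
    rcases ha with rfl | rfl
    · exact hx
    · exact hy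
  rw [h] at htop
  exact (commutator_mem_iff N a b).2 ((mem_center_iff.1 (htop (mem_top (QuotientGroup.mk' N b)))) _)

theorem commutator_le_of_gen {x y : D} (hgen : closure ({x, y} : Set D) = ⊤) {N : Subgroup D}
    [N.Normal] (hc : ⁅x, y⁆ ∈ N) : commutator D ≤ N := by
  rw [_root_.commutator_def, commutator_le]
  intro a _ b _
  exact commutator_mem_of_gen hgen hc a b

/-- The Frattini type bound. -/
theorem index_le_four [Finite D] {x y : D} (hgen : closure ({x, y} : Set D) = ⊤) (N : Subgroup D)
    [N.Normal] (hx : x * x ∈ N) (hy : y * y ∈ N) (hc : ⁅x, y⁆ ∈ N) : N.index ≤ 4 := by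
  have h := closure_quot hgen N
  refine card_le_four h ((commutator_mem_iff N x y).1 hc) ?_ ?_
  · rw [← map_mul, QuotientGroup.mk'_apply, QuotientGroup.eq_one_iff]
    exact hx
  · rw [← map_mul, QuotientGroup.mk'_apply, QuotientGroup.eq_one_iff]
    exact hy

/-- Choice of generators: one of them has a square outside `W`. -/
theorem exists_gen {x y : D} (hgen : closure ({x, y} : Set D) = ⊤) (W : Subgroup D) [W.Normal]
    (hc : ⁅x, y⁆ ∉ W) : ∃ s t : D, closure ({s, t} : Set D) = ⊤ ∧ s * s ∉ W ∧ ⁅s, t⁆ ∉ W := by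
  by_cases hx : x * x ∈ W
  · by_cases hy : y * y ∈ W
    · refine ⟨x * y, y, ?_, ?_, ?_⟩
      · rw [eq_top_iff, ← hgen, closure_le]
        intro a ha
        rcases ha with rfl | rfl
        · have h1 : a * y ∈ closure ({a * y, y} : Set D) := subset_closure (Set.mem_insert _ _)
          have h2 : y ∈ closure ({a * y, y} : Set D) :=
            subset_closure (Set.mem_insert_of_mem _ rfl)
          have h3 := mul_mem h1 (inv_mem h2)
          rwa [mul_inv_cancel_right] at h3
        · exact subset_closure (Set.mem_insert_of_mem _ rfl)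
      · intro h
        apply hc
        have h1 : ⁅x, y⁆ = (x * y * (x * y)) * (y⁻¹ * (x * x)⁻¹ * y⁻¹⁻¹) * (y * y)⁻¹ := by
          rw [commutatorElement_def]; group
        rw [h1]
        exact W.mul_mem (W.mul_mem h (‹W.Normal›.conj_mem _ (W.inv_mem hx) _)) (W.inv_mem hy)
      · intro h
        apply hc
        have h1 : ⁅x * y, y⁆ = ⁅x, y⁆ := by
          rw [commutatorElement_def, commutatorElement_def]; group
        rwa [h1] at h
    · refine ⟨y, x, by rw [Set.pair_comm]; exact hgen, hy, fun h => hc ?_⟩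
      rw [← commutatorElement_inv]
      exact W.inv_mem h
  · exact ⟨x, y, hgen, hx, hc⟩

/-- A nonabelian quotient of order `8`. -/
theorem exists_inv {x y : D} (hgen : closure ({x, y} : Set D) = ⊤) (W : Subgroup D) [W.Normal]
    (h8 : W.index = 8) (hc : ⁅x, y⁆ ∉ W) : ∃ s t : D, closure ({s, t} : Set D) = ⊤ ∧
      s * s ∉ W ∧ s * s * (s * s) ∈ W ∧ t * s * t⁻¹ * s ∈ W ∧ ⁅s, t⁆ ∉ W := by
  obtain ⟨s, t, hst, hs, hc'⟩ := exists_gen hgen W hc
  have hfin : Finite (D ⧸ W) := Nat.finite_of_card_ne_zero (by
    change W.index ≠ 0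
    omega)
  have hQ8 : Nat.card (D ⧸ W) = 8 := h8
  set a : D ⧸ W := QuotientGroup.mk' W s with ha
  set b : D ⧸ W := QuotientGroup.mk' W t with hb
  have hab : a * b ≠ b * a := fun h => hc' ((commutator_mem_iff W s t).2 h)
  have ha2 : a * a ≠ 1 := by
    rw [ha, ← map_mul, QuotientGroup.mk'_apply, Ne, QuotientGroup.eq_one_iff]
    exact hs
  have hncyc : orderOf a ≠ 8 := by
    intro h
    have h1 : zpowers a = ⊤ := by
      apply eq_top_of_card_eq
      rw [Nat.card_zpowers, h, hQ8]
    apply hab
    have h2 : b ∈ zpowers a := h1 ▸ mem_top b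
    obtain ⟨n, hn⟩ := h2
    simp only at hn
    rw [← hn]
    exact (Commute.refl a).zpow_right n
  have hord : orderOf a = 4 := by
    have h1 : orderOf a ∣ 2 ^ 3 := by
      have := orderOf_dvd_natCard a
      rw [hQ8] at this
      exact this
    obtain ⟨k, hk, hk'⟩ := (Nat.dvd_prime_pow Nat.prime_two).1 h1
    have h2 : ¬ k ≤ 1 := by
      intro hle
      apply ha2
      have h3 : orderOf a ∣ 2 := by
        rw [hk']
        exact (pow_dvd_pow 2 hle).trans (by norm_num)
      have h4 := orderOf_dvd_iff_pow_eq_one.1 h3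
      rwa [sq] at h4
    have h3 : k ≠ 3 := by
      rintro rfl
      exact hncyc (by rw [hk']; norm_num)
    have : k = 2 := by omega
    rw [hk', this]; norm_num
  have ha4 : a * a * (a * a) = 1 := by
    have := pow_orderOf_eq_one a
    rw [hord] at this
    rw [← this]
    simp only [pow_succ, pow_zero, one_mul, mul_assoc]
  have hidx : (zpowers a).index = 2 := by
    have h1 := (zpowers a).card_mul_index
    rw [Nat.card_zpowers, hord, hQ8] at h1
    omega
  have hnorm : (zpowers a).Normal := normal_of_index_eq_two hidx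
  have hmem : b * a * b⁻¹ ∈ zpowers a := hnorm.conj_mem a (mem_zpowers a) b
  have hinv : b * a * b⁻¹ * a = 1 := by
    rw [mem_zpowers_iff] at hmem
    obtain ⟨n, hn⟩ := hmem
    have h1 : a ^ (n % 4) = b * a * b⁻¹ := by
      rw [← hn, ← zpow_mod_orderOf a n, hord]
      rfl
    have h2 : 0 ≤ n % 4 := Int.emod_nonneg _ (by norm_num)
    have h3 : n % 4 < 4 := Int.emod_lt_of_pos _ (by norm_num)
    have h4 : n % 4 = 0 ∨ n % 4 = 1 ∨ n % 4 = 2 ∨ n % 4 = 3 := by omega
    rcases h4 with h4 | h4 | h4 | h4
    · rw [h4, zpow_zero] at h1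
      exfalso
      apply ha2
      have : a = 1 := by
        have h5 : b * a * b⁻¹ = 1 := h1.symm
        have h6 := conj_eq_one_iff.1 h5
        exact h6
      rw [this, mul_one]
    · rw [h4, zpow_one] at h1
      exfalso
      apply hab
      calc a * b = (b * a * b⁻¹) * b := by rw [← h1]
        _ = b * a := by group
    · rw [h4] at h1
      exfalso
      apply ha2
      have h5 : (b * a * b⁻¹) * (b * a * b⁻¹) = 1 := by
        rw [← h1]
        rw [← ha4, zpow_ofNat, sq]
      have h6 : b * (a * a) * b⁻¹ = 1 := by rw [← h5]; group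
      exact conj_eq_one_iff.1 h6
    · rw [h4] at h1
      rw [← h1]
      rw [← ha4, zpow_ofNat]
      simp only [pow_succ, pow_zero, one_mul, mul_assoc]
  refine ⟨s, t, hst, hs, ?_, ?_, hc'⟩
  · rw [← QuotientGroup.eq_one_iff, ← QuotientGroup.mk'_apply, map_mul, map_mul]
    exact ha4
  · rw [← QuotientGroup.eq_one_iff, ← QuotientGroup.mk'_apply, map_mul, map_mul, map_mul, map_inv]
    exact hinv

end basic

end Cfsg.Agent.H624.GTSix
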