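import Cfsg.Agent.Blocks.CentralizerSum
import Cfsg.Agent.Blocks.OsimaUnion
import Cfsg.Agent.Blocks.Orthogonality
import Cfsg.Agent.Characters.Central
import Cfsg.Agent.Blocks.InvSum

/-!
# Products of two involutions and blocks

`z` an involution of `G`, `H = C_G(z)`, `B` a 2-block of `G`, `A` the set of the irreducible
characters of `H` whose block induces `B`.

* `card_mul_cube_sum`: `|z^G| * ∑ χ ∈ B, χ(z)^3 / χ(1) = ∑ ξ ∈ A, (ξ(z) / ξ(1)) * (∑ t, ξ t)^2`, the
  inner sum over the elements `t` of `H` which are conjugate to `z` in `G`.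
* `cube_sum_pos`: positivity, when every involution `t` of `H` on which some member of `A` does not
  vanish is conjugate to `z` in `G`.
-/

set_option autoImplicit false

open Cfsg
open scoped ComplexConjugate

namespace Cfsg.Agent.H624.InvCount

open Cfsg.Agent.Blocks Cfsg.Agent.Blocks.Local

section general

variable {G : Type*} [Group G]

/-- The sum of an irreducible character over a translate of a conjugation-invariant set. -/
theorem sum_mul_of_invariant [Fintype G] {χ : G → ℂ} (hχ : IsIrrCharacter G χ) (S : Finset G)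
    (hS : ∀ a g, g ∈ S → a * g * a⁻¹ ∈ S) (y : G) :
    ∑ t ∈ S, χ (t * y) = (∑ t ∈ S, χ t) * χ y / χ 1 := by
  have h1 : ∀ a : G, ∑ t ∈ S, χ (a * t * a⁻¹ * y) = ∑ t ∈ S, χ (t * y) := by
    intro a
    refine Finset.sum_nbij' (fun t => a * t * a⁻¹) (fun t => a⁻¹ * t * a) (fun t ht => hS a t ht)
      (fun t ht => ?_) (fun t _ => by group) (fun t _ => by group) (fun t _ => rfl)
    simpa using hS a⁻¹ t ht
  have hG : (Nat.card G : ℂ) ≠ 0 := by exact_mod_cast Nat.card_pos.ne'
  have h2 : (Nat.card G : ℂ) * ∑ t ∈ S, χ (t * y) =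
      (Nat.card G : ℂ) * ((∑ t ∈ S, χ t) * χ y / χ 1) := by
    calc (Nat.card G : ℂ) * ∑ t ∈ S, χ (t * y)
        = ∑ a : G, ∑ t ∈ S, χ (a * t * a⁻¹ * y) := by
          rw [Finset.sum_congr rfl (fun a _ => h1 a), Finset.sum_const, Finset.card_univ,
            nsmul_eq_mul, Nat.card_eq_fintype_card]
      _ = ∑ t ∈ S, ∑ a : G, χ (a * t * a⁻¹ * y) := Finset.sum_comm
      _ = ∑ t ∈ S, (Nat.card G : ℂ) * χ t * χ y / χ 1 :=
          Finset.sum_congr rfl fun t _ => Characters.Central.sum_char_conj_mul hχ t y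
      _ = _ := by
          rw [Finset.sum_mul, Finset.sum_div, Finset.mul_sum]
          exact Finset.sum_congr rfl fun t _ => by ring
  exact mul_left_cancel₀ hG h2

theorem sum_sum_of_invariant [Fintype G] {χ : G → ℂ} (hχ : IsIrrCharacter G χ) (S : Finset G)
    (hS : ∀ a g, g ∈ S → a * g * a⁻¹ ∈ S) :
    ∑ s ∈ S, ∑ t ∈ S, χ (t * s) = (∑ t ∈ S, χ t) ^ 2 / χ 1 := by
  rw [Finset.sum_congr rfl (fun s _ => sum_mul_of_invariant hχ S hS s), ← Finset.sum_div,
    ← Finset.mul_sum, sq]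

theorem sum_eq_sum_subgroup [Fintype G] (H : Subgroup G) [Fintype H] (f : G → ℂ)
    (hf : ∀ g, g ∉ H → f g = 0) : ∑ g : G, f g = ∑ h : H, f h := by
  classical
  rw [← Finset.sum_subset (Finset.subset_univ (Finset.univ.filter (fun g => g ∈ H)))
    (fun g _ hg => hf g (fun h => hg (Finset.mem_filter.2 ⟨Finset.mem_univ _, h⟩)))]
  rw [← Finset.sum_subtype (Finset.univ.filter (fun g => g ∈ H)) (p := fun g => g ∈ H)
    (fun g => by simp) f]

end general

section main

variable {G : Type*} [Group G] [Fintype G] {M : Ideal AlgInt}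

open Classical in
/-- The sum over a block of the product with the value at `z`, over the pairs in `z^G`. -/
theorem card_mul_cube_sum (hM : IsPModular 2 M) {B : Set (IrrCharacter G)} (hB : IsPBlock M B)
    {z : G} (hz2 : z * z = 1) {H : Subgroup G} [Fintype H]
    (hH : H = Subgroup.centralizer ({z} : Set G)) {zH : H} (hzH : (zH : G) = z)
    {A : Set (IrrCharacter H)}
    (hA : ∀ ξ : IrrCharacter H, ξ ∈ A ↔ IsInducedBlock M H (blockOf M (ξ : H → ℂ)) B)
    [Fintype (IrrCharacter G)] [Fintype (IrrCharacter H)] :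
    ((Finset.univ.filter (fun t : G => IsConj z t)).card : ℂ) *
      ∑ χ : IrrCharacter G with χ ∈ B, (χ : G → ℂ) z ^ 3 / (χ : G → ℂ) 1 =
    ∑ ξ : IrrCharacter H with ξ ∈ A, ((ξ : H → ℂ) zH / (ξ : H → ℂ) 1) *
      (∑ t ∈ Finset.univ.filter (fun t : H => IsConj z (t : G)), (ξ : H → ℂ) t) ^ 2 := by
  have : Fact (Nat.Prime 2) := ⟨Nat.prime_two⟩
  have := isPrime_of_isPModular hM
  set K : Finset G := Finset.univ.filter (fun t : G => IsConj z t) with hK
  set KH : Finset H := Finset.univ.filter (fun t : H => IsConj z (t : G)) with hKH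
  have hKinv : ∀ a g, g ∈ K → a * g * a⁻¹ ∈ K := by
    intro a g hg
    rw [hK, Finset.mem_filter] at hg ⊢
    exact ⟨Finset.mem_univ _, hg.2.trans (isConj_iff.2 ⟨a, rfl⟩)⟩
  have hKHinv : ∀ a g, g ∈ KH → a * g * a⁻¹ ∈ KH := by
    intro a g hg
    rw [hKH, Finset.mem_filter] at hg ⊢
    exact ⟨Finset.mem_univ _, hg.2.trans (isConj_iff.2 ⟨a, by simp⟩)⟩
  have hordz : ∃ k : ℕ, orderOf z = 2 ^ k := by
    have h1 : orderOf z ∣ 2 := orderOf_dvd_of_pow_eq_one (by rw [sq, hz2])
    obtain ⟨k, -, hk⟩ := (Nat.dvd_prime_pow Nat.prime_two (m := 1)).1 (by simpa using h1)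
    exact ⟨k, hk⟩
  have hzinv : z⁻¹ = z := inv_eq_of_mul_eq_one_left hz2
  obtain ⟨N, hN⟩ := PPart.exists_pow_eq (G := G) 2
  have hpp : ∀ g : G, IsPPart 2 g (g ^ N) := by
    intro g
    obtain ⟨x, hx⟩ := PPart.exists_isPPart 2 g
    rw [hN g x hx]
    exact hx
  have hppz : IsPPart 2 z z := PPart.isPPart_of_isPGroup hordz
  -- the kernel functions
  let F : G → ℂ := fun g => ∑ χ : IrrCharacter G with χ ∈ B, (χ : G → ℂ) g * conj ((χ : G → ℂ) z)
  let FH : H → ℂ := fun h => ∑ ξ : IrrCharacter H with ξ ∈ A, (ξ : H → ℂ) h * conj ((ξ : H → ℂ) zH)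
  have hFcl : ∀ a g, F (a * g * a⁻¹) = F g := by
    intro a g
    refine Finset.sum_congr rfl fun χ _ => ?_
    rw [Characters.Core.isIrr_isClassFunction χ.2 g a]
  have hRB : ∀ g, MemLocalRing M (blockCoeff B g) := fun g => Cfsg.Agent.S0913.result 2 M hM B hB g
  have hRA : ∀ g, MemLocalRing M (blockCoeff A g) := by
    refine OsimaUnion.memLocalRing_blockCoeff_union 2 hM A ?_
    intro ξ hξ ξ' h
    rw [hA] at hξ ⊢
    rwa [← Basic.blockOf_eq_of_sameBlock h]
  have hF0 : ∀ g, ¬ IsConj (g ^ N) z → F g = 0 := by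
    intro g hg
    have h1 := Orthogonality.block_orthogonality hM B hRB (hpp g) hppz hg
    rwa [Orthogonality.finsum_mem_eq_sum_filter] at h1
  -- step 1
  have h1 : ∑ s ∈ K, ∑ t ∈ K, F (t * s) =
      (K.card : ℂ) * ((K.card : ℂ) *
        ∑ χ : IrrCharacter G with χ ∈ B, (χ : G → ℂ) z ^ 3 / (χ : G → ℂ) 1) := by
    have e1 : ∀ s t : G, F (t * s) = ∑ χ : IrrCharacter G with χ ∈ B,
        (χ : G → ℂ) (t * s) * conj ((χ : G → ℂ) z) := fun s t => rfl
    simp only [e1]
    rw [Finset.sum_congr rfl (fun s _ => Finset.sum_comm), Finset.sum_comm, ← mul_assoc,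
      Finset.mul_sum]
    refine Finset.sum_congr rfl fun χ _ => ?_
    rw [Finset.sum_congr rfl (fun s _ => (Finset.sum_mul K _ _).symm), ← Finset.sum_mul,
      sum_sum_of_invariant χ.2 K hKinv]
    have e2 : ∑ t ∈ K, (χ : G → ℂ) t = (K.card : ℂ) * (χ : G → ℂ) z := by
      rw [Finset.sum_congr rfl (g := fun _ => (χ : G → ℂ) z) (fun t ht => by
        rw [hK, Finset.mem_filter] at ht
        exact InvSum.eq_of_isConj (Characters.Core.isIrr_isClassFunction χ.2) ht.2),
        Finset.sum_const, nsmul_eq_mul]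
    have e3 : conj ((χ : G → ℂ) z) = (χ : G → ℂ) z := by
      rw [← Characters.Core.isCharacter_apply_inv (Characters.Core.isIrr_isCharacter χ.2), hzinv]
    rw [e2, e3]
    ring
  -- step 2: group the pairs along the 2-part of the product
  let T : G → ℂ := fun w => ∑ s ∈ K, ∑ t ∈ K, if (t * s) ^ N = w then F (t * s) else 0
  have h2 : ∑ s ∈ K, ∑ t ∈ K, F (t * s) = ∑ w ∈ K, T w := by
    have e1 : ∀ g, F g = ∑ w ∈ K, if g ^ N = w then F g else 0 := by
      intro g
      rw [Finset.sum_ite_eq]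
      split_ifs with h
      · rfl
      · refine hF0 g fun h' => h ?_
        rw [hK, Finset.mem_filter]
        exact ⟨Finset.mem_univ _, h'.symm⟩
    calc ∑ s ∈ K, ∑ t ∈ K, F (t * s)
        = ∑ s ∈ K, ∑ t ∈ K, ∑ w ∈ K, (if (t * s) ^ N = w then F (t * s) else 0) :=
          Finset.sum_congr rfl fun s _ => Finset.sum_congr rfl fun t _ => e1 _
      _ = ∑ s ∈ K, ∑ w ∈ K, ∑ t ∈ K, (if (t * s) ^ N = w then F (t * s) else 0) :=
          Finset.sum_congr rfl fun s _ => Finset.sum_comm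
      _ = ∑ w ∈ K, T w := Finset.sum_comm
  have h3 : ∀ w ∈ K, T w = T z := by
    intro w hw
    rw [hK, Finset.mem_filter] at hw
    obtain ⟨c, hc⟩ := isConj_iff.1 hw.2
    symm
    have hbij : ∀ f : G → ℂ, ∑ t ∈ K, f (c⁻¹ * t * c) = ∑ t ∈ K, f t := by
      intro f
      refine Finset.sum_nbij' (fun t => c⁻¹ * t * c) (fun t => c * t * c⁻¹) (fun t ht => ?_)
        (fun t ht => hKinv c t ht) (fun t _ => by group) (fun t _ => by group) (fun t _ => rfl)
      simpa using hKinv c⁻¹ t ht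
    have e1 : T w = ∑ s ∈ K, ∑ t ∈ K,
        (fun s t => if (t * s) ^ N = z then F (t * s) else 0) (c⁻¹ * s * c) (c⁻¹ * t * c) := by
      refine Finset.sum_congr rfl fun s _ => Finset.sum_congr rfl fun t _ => ?_
      have e2 : c⁻¹ * t * c * (c⁻¹ * s * c) = c⁻¹ * (t * s) * c := by group
      have e3 : F (c⁻¹ * (t * s) * c) = F (t * s) := by simpa using hFcl c⁻¹ (t * s)
      have e4 : (c⁻¹ * (t * s) * c) ^ N = c⁻¹ * (t * s) ^ N * c := by
        have := conj_pow (i := N) (a := c⁻¹) (b := t * s)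
        simpa using this
      simp only [e2, e3, e4]
      have e5 : (t * s) ^ N = w ↔ c⁻¹ * (t * s) ^ N * c = z := by
        rw [← hc]
        constructor
        · intro h
          rw [h]; group
        · intro h
          rw [← h]; group
      by_cases h : (t * s) ^ N = w
      · rw [if_pos h, if_pos (e5.1 h)]
      · rw [if_neg h, if_neg (fun h' => h (e5.2 h'))]
    rw [e1]
    rw [hbij (fun s => ∑ t ∈ K,
        (fun s t => if (t * s) ^ N = z then F (t * s) else 0) s (c⁻¹ * t * c))]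
    exact (Finset.sum_congr rfl fun s _ => hbij (fun t => if (t * s) ^ N = z then F (t * s) else 0)).symm
  -- step 3: pass to `H`
  have hcen : ∀ h : H, h * zH = zH * h := by
    intro h
    apply Subtype.ext
    rw [Subgroup.coe_mul, Subgroup.coe_mul, hzH]
    exact Subgroup.mem_centralizer_singleton_iff.1 (hH ▸ h.2)
  have hzHc : zH ∈ Subgroup.center H := Subgroup.mem_center_iff.2 hcen
  have hppzH : IsPPart 2 zH zH := by
    refine PPart.isPPart_of_isPGroup ?_
    obtain ⟨k, hk⟩ := hordz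
    exact ⟨k, by rw [← Subgroup.orderOf_coe, hzH, hk]⟩
  have hppH : ∀ g : H, IsPPart 2 g (g ^ N) := by
    intro g
    obtain ⟨x, hx⟩ := PPart.exists_isPPart 2 g
    have h4 := hN _ _ (PPart.isPPart_coe hx)
    have h5 : g ^ N = x := Subtype.ext (by simpa using h4)
    rw [h5]
    exact hx
  have hFH0 : ∀ g : H, ((g : G)) ^ N ≠ z → FH g = 0 := by
    intro g hg
    have h4 : ¬ IsConj (g ^ N) zH := by
      intro h
      obtain ⟨w, hw⟩ := isConj_iff.1 h.symm
      apply hg
      have h5 : g ^ N = zH := by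
        rw [← hw, hcen w, mul_inv_cancel_right]
      have := congrArg Subtype.val h5
      rw [hzH] at this
      simpa using this
    have h5 := Orthogonality.block_orthogonality hM A hRA (hppH g) hppzH h4
    rwa [Orthogonality.finsum_mem_eq_sum_filter] at h5
  have hFH1 : ∀ g : H, ((g : G)) ^ N = z → F (g : G) = FH g := by
    intro g hg
    obtain ⟨y, hy1, hy2, -, hy4⟩ := hpp (g : G)
    rw [hg] at hy1 hy2
    have hyH : y ∈ H := by
      rw [hH, Subgroup.mem_centralizer_singleton_iff]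
      exact hy2.eq.symm
    obtain ⟨y', hy'⟩ : ∃ y' : H, (y' : G) = y := ⟨⟨y, hyH⟩, rfl⟩
    have hgy : g = zH * y' := Subtype.ext (by rw [Subgroup.coe_mul, hzH, hy', hy1])
    have hord : ¬ 2 ∣ orderOf y' := by rwa [← Subgroup.orderOf_coe, hy']
    have h4 := CentralizerSum.sum_section hM z hordz hH hB hA y' 1 hord (by simp)
    rw [Orthogonality.finsum_mem_eq_sum_filter, Orthogonality.finsum_mem_eq_sum_filter] at h4
    have h5 : F (g : G) = ∑ χ : IrrCharacter G with χ ∈ B, (χ : G → ℂ) (z * (y' : G)) *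
        conj ((χ : G → ℂ) (z * ((1 : H) : G))) := by
      refine Finset.sum_congr rfl fun χ _ => ?_
      rw [Subgroup.coe_one, mul_one, hy', hy1]
    rw [h5, h4]
    refine Finset.sum_congr rfl fun ξ _ => ?_
    obtain ⟨c, hc, hc'⟩ := CentralizerSum.exists_central_scalar ξ.2 hzHc
    have h6 : (ξ : H → ℂ) zH = c * (ξ : H → ℂ) 1 := by
      have := hc' 1
      rwa [mul_one] at this
    rw [hgy, hc', h6, map_mul]
    linear_combination -((ξ : H → ℂ) y' * conj ((ξ : H → ℂ) 1)) * hc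
  have h4 : T z = ∑ s ∈ KH, ∑ t ∈ KH, FH (t * s) := by
    have e1 : T z = ∑ s : G, if IsConj z s then (∑ t : G, if IsConj z t then
        (if (t * s) ^ N = z then F (t * s) else 0) else 0) else 0 := by
      show ∑ s ∈ K, ∑ t ∈ K, (if (t * s) ^ N = z then F (t * s) else 0) = _
      rw [hK, Finset.sum_filter]
      refine Finset.sum_congr rfl fun s _ => ?_
      rw [Finset.sum_filter]
    have hsq : ∀ t : G, IsConj z t → t * t = 1 := by
      intro t ht
      obtain ⟨c, rfl⟩ := isConj_iff.1 ht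
      calc c * z * c⁻¹ * (c * z * c⁻¹) = c * (z * z) * c⁻¹ := by group
        _ = 1 := by rw [hz2]; group
    have hmem : ∀ s t : G, IsConj z s → IsConj z t → (t * s) ^ N = z → s ∈ H ∧ t ∈ H := by
      intro s t hs ht h
      have ht2 := hsq t ht
      have hs2 := hsq s hs
      have hti : t⁻¹ = t := inv_eq_of_mul_eq_one_left ht2
      have hsi : s⁻¹ = s := inv_eq_of_mul_eq_one_left hs2
      have e1 : t * (t * s) * t⁻¹ = (t * s)⁻¹ := by
        rw [mul_inv_rev, hsi, hti, ← mul_assoc, ht2, one_mul]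
      have e2 : t * z * t⁻¹ = z := by
        have := conj_pow (i := N) (a := t) (b := t * s)
        rw [e1, h, inv_pow, h, hzinv] at this
        exact this.symm
      have htH : t ∈ H := by
        rw [hH, Subgroup.mem_centralizer_singleton_iff]
        calc t * z = t * z * t⁻¹ * t := by group
          _ = z * t := by rw [e2]
      have htsH : t * s ∈ H := by
        rw [hH, Subgroup.mem_centralizer_singleton_iff, ← h]
        exact (Commute.refl (t * s)).pow_right N
      refine ⟨?_, htH⟩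
      have : s = t⁻¹ * (t * s) := by group
      rw [this]
      exact H.mul_mem (H.inv_mem htH) htsH
    rw [e1, sum_eq_sum_subgroup H, hKH, Finset.sum_filter]
    · refine Finset.sum_congr rfl fun s _ => ?_
      by_cases hs : IsConj z (s : G)
      · rw [if_pos hs, if_pos hs, sum_eq_sum_subgroup H, Finset.sum_filter]
        · refine Finset.sum_congr rfl fun t _ => ?_
          by_cases ht : IsConj z (t : G)
          · rw [if_pos ht, if_pos ht]
            by_cases h : ((t * s : H) : G) ^ N = z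
            · rw [← hFH1 _ h]
              rw [Subgroup.coe_mul] at h ⊢
              rw [if_pos h]
            · rw [hFH0 _ h]
              rw [Subgroup.coe_mul] at h
              rw [if_neg h]
          · rw [if_neg ht, if_neg ht]
        · intro t ht
          by_cases ht' : IsConj z t
          · rw [if_pos ht', if_neg]
            intro h
            exact ht (hmem _ _ hs ht' h).2
          · rw [if_neg ht']
      · rw [if_neg hs, if_neg hs]
    · intro s hs
      by_cases hs' : IsConj z s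
      · rw [if_pos hs']
        refine Finset.sum_eq_zero fun t _ => ?_
        by_cases ht' : IsConj z t
        · rw [if_pos ht', if_neg]
          intro h
          exact hs (hmem _ _ hs' ht' h).1
        · rw [if_neg ht']
      · rw [if_neg hs']
  have h5 : ∑ s ∈ KH, ∑ t ∈ KH, FH (t * s) =
      ∑ ξ : IrrCharacter H with ξ ∈ A, ((ξ : H → ℂ) zH / (ξ : H → ℂ) 1) *
      (∑ t ∈ Finset.univ.filter (fun t : H => IsConj z (t : G)), (ξ : H → ℂ) t) ^ 2 := by
    have e1 : ∀ s t : H, FH (t * s) = ∑ ξ : IrrCharacter H with ξ ∈ A,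
        (ξ : H → ℂ) (t * s) * conj ((ξ : H → ℂ) zH) := fun s t => rfl
    simp only [e1]
    rw [Finset.sum_congr rfl (fun s _ => Finset.sum_comm), Finset.sum_comm]
    refine Finset.sum_congr rfl fun ξ _ => ?_
    rw [Finset.sum_congr rfl (fun s _ => (Finset.sum_mul KH _ _).symm), ← Finset.sum_mul,
      sum_sum_of_invariant ξ.2 KH hKHinv]
    have hzHinv : zH⁻¹ = zH := Subtype.ext (by rw [Subgroup.coe_inv, hzH, hzinv])
    have e3 : conj ((ξ : H → ℂ) zH) = (ξ : H → ℂ) zH := by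
      rw [← Characters.Core.isCharacter_apply_inv (Characters.Core.isIrr_isCharacter ξ.2), hzHinv]
    rw [e3]
    ring
  have hK0 : (K.card : ℂ) ≠ 0 := by
    have : z ∈ K := by
      rw [hK, Finset.mem_filter]
      exact ⟨Finset.mem_univ _, IsConj.refl z⟩
    exact_mod_cast (Finset.card_pos.2 ⟨z, this⟩).ne'
  apply mul_left_cancel₀ hK0
  rw [← h1, h2, Finset.sum_congr rfl h3, Finset.sum_const, nsmul_eq_mul, h4, h5]

open Classical in
/-- Positivity of `∑ χ ∈ B, χ(z)^3 / χ(1)`. -/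
theorem cube_sum_pos (hM : IsPModular 2 M) {B : Set (IrrCharacter G)} (hB : IsPBlock M B)
    {z : G} (hz2 : z * z = 1) (hz1 : z ≠ 1) {H : Subgroup G} [Fintype H]
    (hH : H = Subgroup.centralizer ({z} : Set G)) {zH : H} (hzH : (zH : G) = z)
    {A : Set (IrrCharacter H)}
    (hA : ∀ ξ : IrrCharacter H, ξ ∈ A ↔ IsInducedBlock M H (blockOf M (ξ : H → ℂ)) B)
    (hK : ∀ t : H, t * t = 1 → t ≠ 1 → (∃ ξ ∈ A, (ξ : H → ℂ) t ≠ 0) → IsConj z (t : G))
    (hex : ∃ t : H, t * t = 1 ∧ t ≠ 1 ∧ t ≠ zH ∧ ∃ ξ ∈ A, (ξ : H → ℂ) t ≠ 0)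
    [Fintype (IrrCharacter G)] [Fintype (IrrCharacter H)] :
    ∃ r : ℝ, 0 < r ∧
      ∑ χ : IrrCharacter G with χ ∈ B, (χ : G → ℂ) z ^ 3 / (χ : G → ℂ) 1 = (r : ℂ) := by
  have : Fact (Nat.Prime 2) := ⟨Nat.prime_two⟩
  have := isPrime_of_isPModular hM
  have hmain := card_mul_cube_sum hM hB hz2 hH hzH hA
  have hcen : ∀ h : H, h * zH = zH * h := by
    intro h
    apply Subtype.ext
    rw [Subgroup.coe_mul, Subgroup.coe_mul, hzH]
    exact Subgroup.mem_centralizer_singleton_iff.1 (hH ▸ h.2)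
  have hzHc : zH ∈ Subgroup.center H := Subgroup.mem_center_iff.2 hcen
  have hzH2 : zH * zH = 1 := Subtype.ext (by rw [Subgroup.coe_mul, hzH, hz2, Subgroup.coe_one])
  have hzH1 : zH ≠ 1 := fun h => hz1 (by rw [← hzH, h, Subgroup.coe_one])
  have hRA : ∀ g, MemLocalRing M (blockCoeff A g) := by
    refine OsimaUnion.memLocalRing_blockCoeff_union 2 hM A ?_
    intro ξ hξ ξ' h
    rw [hA] at hξ ⊢
    rwa [← Basic.blockOf_eq_of_sameBlock h]
  -- involutions
  have hord : ∀ t : H, t * t = 1 → t ≠ 1 → orderOf t = 2 := fun t h1 h2 =>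
    orderOf_eq_prime (by rw [sq, h1]) h2
  have hreal : ∀ (ξ : IrrCharacter H) (t : H), t * t = 1 →
      conj ((ξ : H → ℂ) t) = (ξ : H → ℂ) t := by
    intro ξ t ht
    rw [← Characters.Core.isCharacter_apply_inv (Characters.Core.isIrr_isCharacter ξ.2),
      inv_eq_of_mul_eq_one_left ht]
  have hweak : ∀ t : H, t * t = 1 → t ≠ 1 →
      ∑ ξ : IrrCharacter H with ξ ∈ A, (ξ : H → ℂ) 1 * (ξ : H → ℂ) t = 0 := by
    intro t h1 h2
    have h3 := Orthogonality.weak_block_orthogonality hM A hRA (x := (1 : H)) (y := t) (by simp)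
      (by rw [hord t h1 h2])
    rw [Orthogonality.finsum_mem_eq_sum_filter] at h3
    rw [← h3]
    exact Finset.sum_congr rfl fun ξ _ => by rw [hreal ξ t h1]
  set T : Finset H := Finset.univ.filter (fun t : H => t * t = 1 ∧ t ≠ 1 ∧ t ≠ zH) with hT
  let E : IrrCharacter H → ℂ := fun ξ => ∑ t ∈ T, (ξ : H → ℂ) t
  have hEreal : ∀ ξ, conj (E ξ) = E ξ := by
    intro ξ
    show conj (∑ t ∈ T, (ξ : H → ℂ) t) = ∑ t ∈ T, (ξ : H → ℂ) t
    rw [map_sum]
    refine Finset.sum_congr rfl fun t ht => hreal ξ t ?_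
    rw [hT, Finset.mem_filter] at ht
    exact ht.2.1
  have hsumK : ∀ ξ ∈ A, ∑ t ∈ Finset.univ.filter (fun t : H => IsConj z (t : G)),
      (ξ : H → ℂ) t = (ξ : H → ℂ) zH + E ξ := by
    intro ξ hξ
    have h1 : zH ∉ T := by
      rw [hT, Finset.mem_filter]
      exact fun h => h.2.2.2 rfl
    show _ = (ξ : H → ℂ) zH + ∑ t ∈ T, (ξ : H → ℂ) t
    rw [← Finset.sum_insert h1]
    refine Finset.sum_subset ?_ ?_
    · intro t ht
      rw [Finset.mem_filter] at ht
      obtain ⟨c, hc⟩ := isConj_iff.1 ht.2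
      rw [Finset.mem_insert, hT, Finset.mem_filter]
      by_cases h : t = zH
      · exact Or.inl h
      · refine Or.inr ⟨Finset.mem_univ _, Subtype.ext ?_, ?_, h⟩
        · rw [Subgroup.coe_mul, ← hc, Subgroup.coe_one]
          calc c * z * c⁻¹ * (c * z * c⁻¹) = c * (z * z) * c⁻¹ := by group
            _ = 1 := by rw [hz2]; group
        · rintro rfl
          apply hz1
          rw [Subgroup.coe_one] at hc
          calc z = c⁻¹ * (c * z * c⁻¹) * c := by group
            _ = 1 := by rw [hc]; group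
    · intro t ht1 ht2
      by_contra hne
      apply ht2
      rw [Finset.mem_filter]
      refine ⟨Finset.mem_univ _, ?_⟩
      rw [Finset.mem_insert, hT, Finset.mem_filter] at ht1
      rcases ht1 with rfl | ht1
      · rw [hzH]
      · exact hK t ht1.2.1 ht1.2.2.1 ⟨ξ, hξ, hne⟩
  have hterm : ∀ ξ : IrrCharacter H, ξ ∈ A → ((ξ : H → ℂ) zH / (ξ : H → ℂ) 1) *
      (∑ t ∈ Finset.univ.filter (fun t : H => IsConj z (t : G)), (ξ : H → ℂ) t) ^ 2 =
      (ξ : H → ℂ) 1 * (ξ : H → ℂ) zH + 2 * ((ξ : H → ℂ) 1 * E ξ) + E ξ ^ 2 := by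
    intro ξ hξ
    rw [hsumK ξ hξ]
    obtain ⟨c, -, hc'⟩ := CentralizerSum.exists_central_scalar ξ.2 hzHc
    have hξ1 : (ξ : H → ℂ) 1 ≠ 0 := Basic.irr_one_ne_zero ξ.2
    have h6 : (ξ : H → ℂ) zH = c * (ξ : H → ℂ) 1 := by
      have := hc' 1
      rwa [mul_one] at this
    have hcc : c * c = 1 := by
      have h7 := hc' zH
      rw [hzH2, h6] at h7
      have h8 : (c * c) * (ξ : H → ℂ) 1 = 1 * (ξ : H → ℂ) 1 := by
        rw [one_mul, mul_assoc, ← h7]
      exact mul_right_cancel₀ hξ1 h8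
    have hcE : c * E ξ = E ξ := by
      show c * (∑ t ∈ T, (ξ : H → ℂ) t) = ∑ t ∈ T, (ξ : H → ℂ) t
      rw [Finset.mul_sum]
      have h9 : ∀ t : H, t ∈ T → zH * t ∈ T := by
        intro t ht
        rw [hT, Finset.mem_filter] at ht ⊢
        obtain ⟨-, h1, h2, h3⟩ := ht
        refine ⟨Finset.mem_univ _, ?_, ?_, ?_⟩
        · calc zH * t * (zH * t) = zH * (t * zH) * t := by group
            _ = zH * zH * (t * t) := by rw [hcen]; group
            _ = 1 := by rw [hzH2, h1, one_mul]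
        · intro h
          apply h3
          have : t = zH⁻¹ := eq_inv_of_mul_eq_one_right h
          rw [this, inv_eq_of_mul_eq_one_left hzH2]
        · intro h
          exact h2 (by simpa using h)
      refine Finset.sum_nbij' (fun t => zH * t) (fun t => zH * t) h9 h9 (fun t _ => ?_)
        (fun t _ => ?_) (fun t _ => ?_)
      · show zH * (zH * t) = t
        rw [← mul_assoc, hzH2, one_mul]
      · show zH * (zH * t) = t
        rw [← mul_assoc, hzH2, one_mul]
      · exact (hc' t).symm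
    rw [h6, mul_div_assoc, div_self hξ1, mul_one]
    linear_combination (c * (ξ : H → ℂ) 1 ^ 2 + 2 * (ξ : H → ℂ) 1 * E ξ) * hcc + (E ξ) * hcE
  have hsum : ∑ ξ : IrrCharacter H with ξ ∈ A, ((ξ : H → ℂ) zH / (ξ : H → ℂ) 1) *
      (∑ t ∈ Finset.univ.filter (fun t : H => IsConj z (t : G)), (ξ : H → ℂ) t) ^ 2 =
      ∑ ξ : IrrCharacter H with ξ ∈ A, E ξ ^ 2 := by
    rw [Finset.sum_congr rfl (fun ξ hξ => hterm ξ (Finset.mem_filter.1 hξ).2),
      Finset.sum_add_distrib, Finset.sum_add_distrib, hweak zH hzH2 hzH1, ← Finset.mul_sum]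
    have h1 : ∑ ξ : IrrCharacter H with ξ ∈ A, (ξ : H → ℂ) 1 * E ξ = 0 := by
      show ∑ ξ : IrrCharacter H with ξ ∈ A, (ξ : H → ℂ) 1 * (∑ t ∈ T, (ξ : H → ℂ) t) = 0
      simp only [Finset.mul_sum]
      rw [Finset.sum_comm]
      refine Finset.sum_eq_zero fun t ht => ?_
      rw [hT, Finset.mem_filter] at ht
      exact hweak t ht.2.1 ht.2.2.1
    rw [h1, mul_zero, zero_add, zero_add]
  have hsq : ∀ ξ, E ξ ^ 2 = ((‖E ξ‖ ^ 2 : ℝ) : ℂ) := by
    intro ξ
    rw [sq]
    nth_rewrite 2 [← hEreal ξ]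
    rw [Complex.mul_conj, Complex.normSq_eq_norm_sq]
  obtain ⟨t₀, ht1, ht2, ht3, ξ₀, hξ₀, hne⟩ := hex
  have hpos : 0 < ∑ ξ : IrrCharacter H with ξ ∈ A, ‖E ξ‖ ^ 2 := by
    by_contra hle
    have h0 : ∑ ξ : IrrCharacter H with ξ ∈ A, ‖E ξ‖ ^ 2 = 0 :=
      le_antisymm (not_lt.1 hle) (Finset.sum_nonneg fun _ _ => by positivity)
    rw [Finset.sum_eq_zero_iff_of_nonneg (fun _ _ => by positivity)] at h0
    have hE0 : ∀ ξ : IrrCharacter H, ξ ∈ A → E ξ = 0 := by
      intro ξ hξ
      have := h0 ξ (Finset.mem_filter.2 ⟨Finset.mem_univ _, hξ⟩)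
      exact norm_eq_zero.1 (pow_eq_zero_iff (two_ne_zero) |>.1 this)
    have h1 : ∑ ξ : IrrCharacter H with ξ ∈ A, E ξ * conj ((ξ : H → ℂ) t₀) = 0 :=
      Finset.sum_eq_zero fun ξ hξ => by rw [hE0 ξ (Finset.mem_filter.1 hξ).2, zero_mul]
    have h2 : ∑ ξ : IrrCharacter H with ξ ∈ A, E ξ * conj ((ξ : H → ℂ) t₀) =
        ∑ t ∈ T, ∑ ξ : IrrCharacter H with ξ ∈ A, (ξ : H → ℂ) t * conj ((ξ : H → ℂ) t₀) := by
      rw [Finset.sum_comm]
      exact Finset.sum_congr rfl fun ξ _ => Finset.sum_mul _ _ _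
    have hpp : ∀ t : H, t * t = 1 → t ≠ 1 → IsPPart 2 t t := fun t h h' =>
      PPart.isPPart_of_isPGroup ⟨1, by rw [hord t h h', pow_one]⟩
    set R : ℂ := ∑ ξ : IrrCharacter H with ξ ∈ A, (ξ : H → ℂ) t₀ * conj ((ξ : H → ℂ) t₀) with hR
    have h3 : ∀ t ∈ T, ∑ ξ : IrrCharacter H with ξ ∈ A, (ξ : H → ℂ) t * conj ((ξ : H → ℂ) t₀) =
        if IsConj t₀ t then R else 0 := by
      intro t ht
      rw [hT, Finset.mem_filter] at ht
      split_ifs with h
      · refine Finset.sum_congr rfl fun ξ _ => ?_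
        rw [InvSum.eq_of_isConj (Characters.Core.isIrr_isClassFunction ξ.2) h]
      · have h4 := Orthogonality.block_orthogonality hM A hRA (hpp t ht.2.1 ht.2.2.1)
          (hpp t₀ ht1 ht2) (fun h' => h h'.symm)
        rwa [Orthogonality.finsum_mem_eq_sum_filter] at h4
    rw [h2, Finset.sum_congr rfl h3, ← Finset.sum_filter, Finset.sum_const, nsmul_eq_mul] at h1
    have hRpos : R ≠ 0 := by
      have h5 : R = ((∑ ξ : IrrCharacter H with ξ ∈ A, ‖(ξ : H → ℂ) t₀‖ ^ 2 : ℝ) : ℂ) := by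
        rw [hR]
        push_cast
        refine Finset.sum_congr rfl fun ξ _ => ?_
        rw [Complex.mul_conj, Complex.normSq_eq_norm_sq]
        push_cast
        rfl
      rw [h5]
      have h6 : 0 < ∑ ξ : IrrCharacter H with ξ ∈ A, ‖(ξ : H → ℂ) t₀‖ ^ 2 := by
        refine lt_of_lt_of_le (b := ‖(ξ₀ : H → ℂ) t₀‖ ^ 2) ?_
          (Finset.single_le_sum (f := fun ξ : IrrCharacter H => ‖(ξ : H → ℂ) t₀‖ ^ 2)
            (fun _ _ => by positivity) (Finset.mem_filter.2 ⟨Finset.mem_univ _, hξ₀⟩))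
        have := norm_pos_iff.2 hne
        positivity
      exact_mod_cast h6.ne'
    have hcard : ((T.filter (fun t => IsConj t₀ t)).card : ℂ) ≠ 0 := by
      have : t₀ ∈ T.filter (fun t => IsConj t₀ t) := by
        rw [Finset.mem_filter, hT, Finset.mem_filter]
        exact ⟨⟨Finset.mem_univ _, ht1, ht2, ht3⟩, IsConj.refl _⟩
      exact_mod_cast (Finset.card_pos.2 ⟨t₀, this⟩).ne'
    exact mul_ne_zero hcard hRpos h1
  have hKpos : (0 : ℝ) < ((Finset.univ.filter (fun t : G => IsConj z t)).card : ℝ) := by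
    have : z ∈ Finset.univ.filter (fun t : G => IsConj z t) := by
      rw [Finset.mem_filter]
      exact ⟨Finset.mem_univ _, IsConj.refl z⟩
    exact_mod_cast Finset.card_pos.2 ⟨z, this⟩
  refine ⟨(∑ ξ : IrrCharacter H with ξ ∈ A, ‖E ξ‖ ^ 2) /
    ((Finset.univ.filter (fun t : G => IsConj z t)).card : ℝ), div_pos hpos hKpos, ?_⟩
  rw [hsum] at hmain
  have hK0 : ((Finset.univ.filter (fun t : G => IsConj z t)).card : ℂ) ≠ 0 := by
    exact_mod_cast hKpos.ne'
  rw [Complex.ofReal_div, Complex.ofReal_natCast, eq_div_iff hK0, mul_comm, hmain]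
  push_cast
  refine Finset.sum_congr rfl fun ξ _ => ?_
  rw [hsq]
  push_cast
  rfl

end main

end Cfsg.Agent.H624.InvCount
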