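import Cfsg.Agent.H624.MGroupA
import Cfsg.Agent.CharactersDeep.ExtUnique
import Cfsg.Agent.Characters.Linear
import Cfsg.Agent.Solvable.SchurZassenhausConj
import Mathlib.GroupTheory.RegularWreathProduct

/-!
# Dade's theorem: every finite solvable group embeds in an M-group

* `MG.wreath`: the regular wreath product of an M-group with a group of prime order is an M-group.
* `exists_emb`: the embedding of Kaloujnine and Krasner.
-/

set_option autoImplicit false

open scoped ComplexConjugate
open Cfsg

namespace Cfsg.Agent.H624.MGroup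

open Cfsg.Agent.Characters.Core Cfsg.Agent.Characters.Clifford

universe u v

/-- The base group of the regular wreath product. -/
def baseEquiv (A : Type u) (Q : Type v) [Group A] [Group Q] :
    (Q → A) ≃* (RegularWreathProduct.rightHom : RegularWreathProduct A Q →* Q).ker where
  toFun a := ⟨⟨a, 1⟩, rfl⟩
  invFun w := (w : RegularWreathProduct A Q).left
  left_inv _ := rfl
  right_inv w := by
    apply Subtype.ext
    have h : (w : RegularWreathProduct A Q).right = 1 := w.2
    apply RegularWreathProduct.ext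
    · rfl
    · exact h.symm
  map_mul' a b := by
    apply Subtype.ext
    apply RegularWreathProduct.ext
    · funext x
      show a x * b x = a x * b ((1 : Q)⁻¹ * x)
      rw [inv_one, one_mul]
    · show (1 : Q) = 1 * 1
      rw [mul_one]

theorem wreath_left_mul {A : Type u} {Q : Type v} [Group A] [Group Q]
    (a b : RegularWreathProduct A Q) (x : Q) :
    (a * b).left x = a.left x * b.left (a.right⁻¹ * x) := rfl

/-- **The wreath product of an M-group with a group of prime order is an M-group.** -/
theorem MG.wreath {A : Type u} {Q : Type v} [Group A] [Group Q] [Fintype A] [Fintype Q]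
    [Fintype (RegularWreathProduct A Q)] (hQ : (Nat.card Q).Prime) (hA : MG A) :
    MG (RegularWreathProduct A Q) := by
  classical
  let W := RegularWreathProduct A Q
  let K : Subgroup W := (RegularWreathProduct.rightHom : W →* Q).ker
  have hsurj : Function.Surjective (RegularWreathProduct.rightHom : W →* Q) :=
    fun q => ⟨⟨1, q⟩, rfl⟩
  have hidx : K.index = Nat.card Q := by
    rw [Subgroup.index_ker, MonoidHom.range_eq_top.2 hsurj, Subgroup.card_top]
  have hMK : MG K := (MG.pi (ι := Q) hA).transport (baseEquiv A Q)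
  intro χ hχ
  rcases prime_index K (by rw [hidx]; exact hQ) hχ with hirr | ⟨θ, hθ, rfl⟩
  swap
  · exact (hMK θ hθ).ind
  -- the restriction to the base group is irreducible
  have hirr' : IsIrrCharacter (Q → A) ((fun k : K => χ k) ∘ (baseEquiv A Q).toMonoidHom) :=
    isIrr_comp (baseEquiv A Q).toMonoidHom (baseEquiv A Q).surjective hirr
  obtain ⟨θ, hθ, hθ'⟩ := exists_pi _ hirr'
  have hval : ∀ a : Q → A, χ (⟨a, 1⟩ : W) = ∏ i, θ i (a i) := hθ'
  -- invariance
  have hinv : ∀ (q : Q) (a : Q → A), ∏ i, θ i (a (q⁻¹ * i)) = ∏ i, θ i (a i) := by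
    intro q a
    rw [← hval a, ← hval (fun i => a (q⁻¹ * i)),
      ← isIrr_isClassFunction hχ (⟨a, 1⟩ : W) (⟨1, q⟩ : W)]
    congr 1
    apply RegularWreathProduct.ext
    · funext i
      simp
    · simp
  have hone : ∀ i, θ i 1 ≠ 0 := fun i => isIrr_apply_one_ne_zero (hθ i)
  have hprop : ∀ (q : Q) (x : A), θ q x * θ 1 1 = θ 1 x * θ q 1 := by
    intro q x
    by_cases hq : q = 1
    · subst hq
      ring
    have h1 := hinv q (Pi.mulSingle 1 x)
    have h2 : ∏ i, θ i ((Pi.mulSingle 1 x : Q → A) (q⁻¹ * i)) =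
        θ q x * ∏ i ∈ Finset.univ.erase q, θ i 1 := by
      rw [← Finset.mul_prod_erase _ _ (Finset.mem_univ q)]
      congr 1
      · simp
      · refine Finset.prod_congr rfl fun i hi => ?_
        have : q⁻¹ * i ≠ 1 := by
          intro h
          have h' : i = q := by rw [← one_mul i, ← mul_inv_cancel q, mul_assoc, h, mul_one]
          exact (Finset.mem_erase.1 hi).1 h'
        rw [Pi.mulSingle_eq_of_ne this]
    have h3 : ∏ i, θ i ((Pi.mulSingle 1 x : Q → A) i) =
        θ 1 x * ∏ i ∈ Finset.univ.erase 1, θ i 1 := by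
      rw [← Finset.mul_prod_erase _ _ (Finset.mem_univ (1 : Q))]
      congr 1
      · simp
      · refine Finset.prod_congr rfl fun i hi => ?_
        rw [Pi.mulSingle_eq_of_ne (Finset.mem_erase.1 hi).1]
    rw [h2, h3] at h1
    set D : ℂ := ∏ i, θ i 1 with hD
    have hD0 : D ≠ 0 := Finset.prod_ne_zero_iff.2 fun i _ => hone i
    have h4 : θ q 1 * ∏ i ∈ Finset.univ.erase q, θ i 1 = D :=
      Finset.mul_prod_erase _ (fun i => θ i 1) (Finset.mem_univ q)
    have h5 : θ 1 1 * ∏ i ∈ Finset.univ.erase 1, θ i 1 = D :=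
      Finset.mul_prod_erase _ (fun i => θ i 1) (Finset.mem_univ (1 : Q))
    have h6 : (θ q x * θ 1 1) * D = (θ 1 x * θ q 1) * D := by
      calc (θ q x * θ 1 1) * D = θ 1 1 * (θ q x * ∏ i ∈ Finset.univ.erase q, θ i 1) * θ q 1 := by
            rw [← h4]; ring
        _ = θ q 1 * (θ 1 x * ∏ i ∈ Finset.univ.erase 1, θ i 1) * θ 1 1 := by rw [h1]; ring
        _ = (θ 1 x * θ q 1) * D := by rw [← h5]; ring
    exact mul_right_cancel₀ hD0 h6
  have heq : ∀ q, θ q = θ 1 := by
    intro q
    by_contra hne
    have h1 := classInner_irr_ne (hθ q) (hθ 1) hne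
    have h2 : (θ 1 1) • θ q = (θ q 1) • θ 1 := by
      funext x
      rw [Pi.smul_apply, Pi.smul_apply, smul_eq_mul, smul_eq_mul, mul_comm, hprop q x, mul_comm]
    have h3 : classInner ((θ 1 1) • θ q) (θ 1) = classInner ((θ q 1) • θ 1) (θ 1) := by rw [h2]
    rw [classInner_smul_left, classInner_smul_left, h1, classInner_irr_self (hθ 1), mul_zero,
      mul_one] at h3
    exact hone q h3.symm
  obtain ⟨H, lam, hlam⟩ := hA (θ 1) (hθ 1)
  -- the subgroup and the linear character
  let H' : Subgroup W :=
    { carrier := {w | ∀ i, w.left i ∈ H}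
      one_mem' := fun i => H.one_mem
      mul_mem' := fun {a b} ha hb i => H.mul_mem (ha i) (hb _)
      inv_mem' := fun {a} ha i => H.inv_mem (ha _) }
  let lam' : H' →* ℂˣ :=
    { toFun := fun w => ∏ i, lam ⟨(w : W).left i, w.2 i⟩
      map_one' := by
        refine Finset.prod_eq_one fun i _ => ?_
        have : (⟨((1 : H') : W).left i, (1 : H').2 i⟩ : H) = 1 := rfl
        rw [this, map_one]
      map_mul' := fun a b => by
        have h1 : ∏ i, lam ⟨((b : H') : W).left i, b.2 i⟩ =
            ∏ i, lam ⟨((b : H') : W).left ((a : W).right⁻¹ * i), b.2 _⟩ :=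
          (Fintype.prod_equiv (Equiv.mulLeft ((a : W).right⁻¹)) _ _ fun i => rfl).symm
        rw [h1, ← Finset.prod_mul_distrib]
        refine Finset.prod_congr rfl fun i _ => ?_
        rw [← map_mul]
        rfl }
  set ψ : W → ℂ := indFun H' (fun h => (lam' h : ℂ)) with hψ
  have hψc : IsCharacter W ψ :=
    Cfsg.Agent.CharactersDeep.IndFun.isCharacter_indFun H'
      (Cfsg.Agent.Characters.Linear.isCharacter_hom lam')
  -- the values on the base group
  have hcard : Nat.card H' = Nat.card Q * ∏ _i : Q, Nat.card H := by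
    have e : H' ≃ Q × (Q → H) :=
      { toFun := fun w => ((w : W).right, fun i => ⟨(w : W).left i, w.2 i⟩)
        invFun := fun y => ⟨⟨fun i => y.2 i, y.1⟩, fun i => (y.2 i).2⟩
        left_inv := fun x => rfl
        right_inv := fun y => rfl }
    rw [Nat.card_congr e, Nat.card_prod, Nat.card_pi]
  have hψval : ∀ a : Q → A, ψ (⟨a, 1⟩ : W) = ∏ i, θ i (a i) := by
    intro a
    rw [hψ, indFun_apply]
    have hext : ∀ (q : Q) (b : Q → A),
        extendByZero H' (fun h => (lam' h : ℂ)) ((⟨b, q⟩ : W)⁻¹ * ⟨a, 1⟩ * ⟨b, q⟩) =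
          ∏ i, extendByZero H (fun h => (lam h : ℂ)) ((b i)⁻¹ * a i * b i) := by
      intro q b
      have hleft : ∀ i, ((⟨b, q⟩ : W)⁻¹ * ⟨a, 1⟩ * ⟨b, q⟩ : W).left i =
          (b (q * i))⁻¹ * a (q * i) * b (q * i) := by
        intro i
        show (b (q * i))⁻¹ * a ((q⁻¹)⁻¹ * i) * b ((q⁻¹ * 1)⁻¹ * i) = _
        rw [inv_inv, mul_one, inv_inv]
      have hre : ∏ i, extendByZero H (fun h => (lam h : ℂ)) ((b i)⁻¹ * a i * b i) =
          ∏ i, extendByZero H (fun h => (lam h : ℂ)) ((b (q * i))⁻¹ * a (q * i) * b (q * i)) :=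
        (Fintype.prod_equiv (Equiv.mulLeft q) _ _ fun i => rfl).symm
      rw [hre]
      by_cases hx : ∀ i, (b (q * i))⁻¹ * a (q * i) * b (q * i) ∈ H
      · have hx' : ((⟨b, q⟩ : W)⁻¹ * ⟨a, 1⟩ * ⟨b, q⟩) ∈ H' := by
          intro i
          rw [hleft]
          exact hx i
        rw [extendByZero_of_mem _ _ hx']
        show ((∏ i, lam ⟨_, hx' i⟩ : ℂˣ) : ℂ) = _
        rw [Units.coe_prod]
        refine Finset.prod_congr rfl fun i _ => ?_
        rw [extendByZero_of_mem _ _ (hx i)]
        congr 2
        exact Subtype.ext (hleft i)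
      · have hx' : ((⟨b, q⟩ : W)⁻¹ * ⟨a, 1⟩ * ⟨b, q⟩) ∉ H' := by
          intro h
          apply hx
          intro i
          rw [← hleft]
          exact h i
        rw [extendByZero_of_notMem _ _ hx']
        push Not at hx
        obtain ⟨i, hi⟩ := hx
        exact (Finset.prod_eq_zero (Finset.mem_univ i) (extendByZero_of_notMem H _ hi)).symm
    have hsum : ∑ x : W, extendByZero H' (fun h => (lam' h : ℂ)) (x⁻¹ * ⟨a, 1⟩ * x) =
        ∑ _q : Q, ∑ b : Q → A, ∏ i, extendByZero H (fun h => (lam h : ℂ)) ((b i)⁻¹ * a i * b i) := by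
      rw [← Fintype.sum_prod_type']
      let e : W ≃ Q × (Q → A) :=
        { toFun := fun w => (w.right, w.left)
          invFun := fun y => ⟨y.2, y.1⟩
          left_inv := fun x => rfl
          right_inv := fun y => rfl }
      exact Fintype.sum_equiv e _ _ fun w => hext w.right w.left
    have hprod : ∏ i, ∑ y : A, extendByZero H (fun h => (lam h : ℂ)) (y⁻¹ * a i * y) =
        ∑ x : Q → A, ∏ i, extendByZero H (fun h => (lam h : ℂ)) ((x i)⁻¹ * a i * x i) := by
      rw [Finset.prod_univ_sum]
      refine Finset.sum_congr ?_ fun _ _ => rfl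
      rw [Fintype.piFinset_univ]
    rw [hsum, ← hprod, Finset.sum_const, Finset.card_univ, hcard, nsmul_eq_mul, Nat.cast_mul,
      Nat.cast_prod, ← Nat.card_eq_fintype_card, mul_inv]
    have hQ0 : (Nat.card Q : ℂ) ≠ 0 := by exact_mod_cast hQ.ne_zero
    rw [mul_mul_mul_comm, inv_mul_cancel₀ hQ0, one_mul, ← Finset.prod_inv_distrib,
      ← Finset.prod_mul_distrib]
    refine Finset.prod_congr rfl fun i _ => ?_
    rw [heq i, hlam, indFun_apply]
  -- both characters extend the same irreducible character
  have hres : ∀ k : K, ψ k = (fun k : K => χ k) k := by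
    intro k
    have h1 : ((k : K) : W) = ⟨(k : W).left, 1⟩ := by
      apply RegularWreathProduct.ext
      · rfl
      · exact k.2
    show ψ (k : W) = χ (k : W)
    rw [h1, hψval, hval]
  obtain ⟨β, -, hβ⟩ := Cfsg.Agent.CharactersDeep.ExtUnique.exists_hom_mul_of_restrict_eq K
    hψc (isIrr_isCharacter hχ) hirr hres (fun _ => rfl)
  refine ⟨H', lam' * β.comp H'.subtype, ?_⟩
  have h1 := Cfsg.Agent.CharactersDeep.NormalInd.indFun_mul H' (fun h => (lam' h : ℂ))
    (fun g => (β g : ℂ)) (fun g h => by
      show ((β (h * g * h⁻¹) : ℂˣ) : ℂ) = β g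
      rw [map_mul, map_mul, mul_comm (β h), mul_assoc, ← map_mul, mul_inv_cancel, map_one,
        mul_one])
  have h2 : χ = indFun H' (fun h => (lam' h : ℂ)) * (fun g => (β g : ℂ)) := by
    funext g
    rw [Pi.mul_apply]
    exact hβ g
  rw [h2, h1]
  rfl

/-- The embedding of Kaloujnine and Krasner. -/
theorem exists_emb {G : Type u} [Group G] (N : Subgroup G) [N.Normal] :
    ∃ f : G →* RegularWreathProduct N (G ⧸ N), Function.Injective f := by
  classical
  let s : G ⧸ N → G := Quotient.out
  have hs : ∀ q : G ⧸ N, ((s q : G) : G ⧸ N) = q := fun q => Quotient.out_eq q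
  have hmem : ∀ (g : G) (x : G ⧸ N), (s x)⁻¹ * g * s (((g : G) : G ⧸ N)⁻¹ * x) ∈ N := by
    intro g x
    rw [← QuotientGroup.eq_one_iff, QuotientGroup.mk_mul, QuotientGroup.mk_mul,
      QuotientGroup.mk_inv, hs, hs]
    group
  let f : G →* RegularWreathProduct N (G ⧸ N) :=
    { toFun := fun g => ⟨fun x => ⟨(s x)⁻¹ * g * s (((g : G) : G ⧸ N)⁻¹ * x), hmem g x⟩, (g : G ⧸ N)⟩
      map_one' := by
        apply RegularWreathProduct.ext
        · funext x
          apply Subtype.ext
          show (s x)⁻¹ * 1 * s (((1 : G) : G ⧸ N)⁻¹ * x) = 1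
          rw [QuotientGroup.mk_one, inv_one, one_mul, mul_one, inv_mul_cancel]
        · rfl
      map_mul' := fun g h => by
        apply RegularWreathProduct.ext
        · funext x
          apply Subtype.ext
          show (s x)⁻¹ * (g * h) * s (((g * h : G) : G ⧸ N)⁻¹ * x) =
            (s x)⁻¹ * g * s (((g : G) : G ⧸ N)⁻¹ * x) *
              ((s (((g : G) : G ⧸ N)⁻¹ * x))⁻¹ * h *
                s (((h : G) : G ⧸ N)⁻¹ * (((g : G) : G ⧸ N)⁻¹ * x)))
          rw [QuotientGroup.mk_mul, mul_inv_rev, mul_assoc (((h : G) : G ⧸ N)⁻¹)]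
          group
        · rfl }
  refine ⟨f, ?_⟩
  rw [injective_iff_map_eq_one]
  intro g hg
  have h1 : ((g : G) : G ⧸ N) = 1 := congrArg RegularWreathProduct.right hg
  have h2 : (s 1)⁻¹ * g * s (((g : G) : G ⧸ N)⁻¹ * 1) = 1 :=
    congrArg Subtype.val (congrFun (congrArg RegularWreathProduct.left hg) 1)
  rw [h1, inv_one, one_mul] at h2
  have h3 : g = s 1 * ((s 1)⁻¹ * g * s 1) * (s 1)⁻¹ := by group
  rw [h3, h2]
  group

/-- Functoriality of the wreath product in the base. -/
theorem exists_emb_map {N A : Type u} {Q : Type v} [Group N] [Group A] [Group Q] (f : N →* A)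
    (hf : Function.Injective f) :
    ∃ F : RegularWreathProduct N Q →* RegularWreathProduct A Q, Function.Injective F := by
  refine ⟨{ toFun := fun w => ⟨fun x => f (w.left x), w.right⟩
            map_one' := ?_
            map_mul' := ?_ }, ?_⟩
  · apply RegularWreathProduct.ext
    · funext x
      exact map_one f
    · rfl
  · intro a b
    apply RegularWreathProduct.ext
    · funext x
      exact map_mul f _ _
    · rfl
  · intro a b hab
    apply RegularWreathProduct.ext
    · funext x
      exact hf (congrFun (congrArg (fun w : RegularWreathProduct A Q => w.left) hab) x)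
    · exact (congrArg (fun w : RegularWreathProduct A Q => w.right) hab : a.right = b.right)

/-- **Dade's theorem**. -/
theorem dade (n : ℕ) : ∀ (G : Type u) [Group G] [Finite G], Group.IsSolvable G → Nat.card G = n →
    ∃ (M : Type u) (_ : Group M) (_ : Fintype M), MG M ∧ ∃ f : G →* M, Function.Injective f := by
  induction n using Nat.strong_induction_on with
  | _ n ih =>
    intro G _ _ hsolv hn
    by_cases h1 : Nat.card G = 1
    · have := Fintype.ofFinite G
      exact ⟨G, inferInstance, inferInstance, MG.of_card_one h1, MonoidHom.id G,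
        Function.injective_id⟩
    · have hbot : (⊥ : Subgroup G) ≠ ⊤ := by
        intro h
        apply h1
        rw [← Subgroup.card_top (G := G), ← h, Subgroup.card_bot]
      have hsolvq : Group.IsSolvable (G ⧸ (⊥ : Subgroup G)) := by
        have := hsolv
        exact Group.isSolvable_of_surjective
          (f := QuotientGroup.mk' (⊥ : Subgroup G)) (QuotientGroup.mk'_surjective _)
      obtain ⟨N, hN, -, hNp⟩ :=
        Cfsg.Agent.Solvable.SchurZassenhausConj.exists_normal_prime_index (⊥ : Subgroup G) hbot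
          hsolvq
      have hcard : Nat.card N < n := by
        have h2 := Subgroup.card_mul_index N
        have h3 := hNp.two_le
        have h4 : 0 < Nat.card N := Nat.card_pos
        rw [← hn]
        nlinarith
      have hsolvN : Group.IsSolvable N := by
        have := hsolv
        infer_instance
      obtain ⟨A, _, _, hA, f, hf⟩ := ih (Nat.card N) hcard N hsolvN rfl
      have hfin : Fintype (G ⧸ N) := Fintype.ofFinite _
      have hfin2 : Fintype (RegularWreathProduct A (G ⧸ N)) := Fintype.ofFinite _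
      obtain ⟨F, hF⟩ := exists_emb N
      obtain ⟨F', hF'⟩ := exists_emb_map (Q := G ⧸ N) f hf
      refine ⟨RegularWreathProduct A (G ⧸ N), inferInstance, hfin2, MG.wreath ?_ hA, F'.comp F,
        hF'.comp hF⟩
      exact hNp

end Cfsg.Agent.H624.MGroup
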