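import Cfsg.Agent.H624.TTwo
import Cfsg.Agent.H624.MajVal
import Cfsg.Agent.Blocks.GaloisConj

/-!
# Major subsections of 2-blocks: bounds from the contribution matrices

`Proj`: the abstract properties of the matrices `2 ^ d * contr χ ψ` for the generators of `⟨z⟩`
(coordinates in a fixed basis of `ℤ[ζ]`, hermitian, idempotent up to `2 ^ d`, trace, residues).
-/

set_option autoImplicit false

open Cfsg
open scoped ComplexConjugate

namespace Cfsg.Agent.H624.MajTwo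

open Cfsg.Agent.Blocks.Local Cfsg.Agent.Blocks.Blau Cfsg.Agent.Characters
open Cfsg.Agent.H613.RegGram Cfsg.Agent.H613.Contrib Cfsg.Agent.H613.ContribVal
open Cfsg.Agent.H624.TTwo Cfsg.Agent.H624.MajVal

variable {M : Ideal AlgInt} {ζ : ℂ} {k d : ℕ}

/-- The properties of the family of the matrices `2 ^ d * contr`. -/
structure Proj (M : Ideal AlgInt) (ζ : ℂ) (k d : ℕ) {ι : Type*} [Fintype ι] (ht : ι → ℕ)
    (P : ℕ → ι → ι → ℂ) (a : ι → ι → ℕ → ℤ) (r : ℤ) : Prop where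
  coords : ∀ m χ ψ, P m χ ψ = valA ζ (2 ^ k) (a χ ψ) (2 * m + 1)
  herm : ∀ m χ ψ, conj (P m χ ψ) = P m ψ χ
  idem : ∀ m χ χ', ∑ ψ, P m χ ψ * P m ψ χ' = 2 ^ d * P m χ χ'
  trace : ∀ m, ∑ χ, P m χ χ = 2 ^ d * r
  ring : ∀ χ ψ, ht ψ = 0 → MemLocalRing M (P 0 χ ψ / 2 ^ ht χ)
  unit : ∀ χ ψ, ht ψ = 0 → ¬ MemLocalIdeal M (P 0 χ ψ / 2 ^ ht χ)
  self : ∀ χ, ht χ ≠ 0 → MemLocalIdeal M (P 0 χ χ / 2 ^ ht χ)

namespace Proj

variable {ι : Type*} [Fintype ι] {ht : ι → ℕ} {P : ℕ → ι → ι → ℂ} {a : ι → ι → ℕ → ℤ} {r : ℤ}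

theorem self_eq (h : Proj M ζ k d ht P a r) (m : ℕ) (χ : ι) :
    (2 : ℂ) ^ d * P m χ χ = ((∑ ψ, ‖P m χ ψ‖ ^ 2 : ℝ) : ℂ) := by
  rw [← h.idem m χ χ]
  push_cast
  refine Finset.sum_congr rfl fun ψ _ => ?_
  rw [← h.herm m χ ψ, Complex.mul_conj, Complex.normSq_eq_norm_sq]
  push_cast
  rfl

theorem sum_self (hζ : IsPrimitiveRoot ζ (2 ^ (k + 1))) (h : Proj M ζ k d ht P a r) (χ : ι) :
    ∑ m ∈ Finset.range (2 ^ k), ∑ ψ, ‖P m χ ψ‖ ^ 2 =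
      (2 : ℝ) ^ d * (((2 ^ k : ℕ) : ℝ) * (a χ χ 0 : ℝ)) := by
  have h1 := sum_valA hζ (a χ χ)
  have h2 : ∑ m ∈ Finset.range (2 ^ k), (2 : ℂ) ^ d * P m χ χ =
      (2 : ℂ) ^ d * ((2 ^ k : ℕ) * (a χ χ 0 : ℂ)) := by
    rw [← Finset.mul_sum, ← h1]
    congr 1
    exact Finset.sum_congr rfl fun m _ => h.coords m χ χ
  rw [Finset.sum_congr rfl (fun m _ => h.self_eq m χ)] at h2
  have h3 : (((∑ m ∈ Finset.range (2 ^ k), ∑ ψ, ‖P m χ ψ‖ ^ 2 : ℝ)) : ℂ) =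
      (((2 : ℝ) ^ d * (((2 ^ k : ℕ) : ℝ) * (a χ χ 0 : ℝ)) : ℝ) : ℂ) := by
    rw [Complex.ofReal_sum, h2]
    push_cast
    ring
  exact_mod_cast h3

theorem norm_symm (h : Proj M ζ k d ht P a r) (m : ℕ) (χ ψ : ι) : ‖P m χ ψ‖ = ‖P m ψ χ‖ := by
  rw [← h.herm m ψ χ]
  exact Complex.norm_conj _

theorem le_row (hM : IsPModular 2 M) (hζ : IsPrimitiveRoot ζ (2 ^ (k + 1)))
    (h : Proj M ζ k d ht P a r) (χ : ι) {ψ : ι} (hψ : ht ψ = 0) :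
    (4 : ℝ) ^ ht χ * ((2 ^ k : ℕ) : ℝ) ≤ ∑ m ∈ Finset.range (2 ^ k), ‖P m χ ψ‖ ^ 2 := by
  have := isPrime_of_isPModular hM
  have h0 : P 0 χ ψ = valA ζ (2 ^ k) (a χ ψ) 1 := h.coords 0 χ ψ
  have h1 := h.ring χ ψ hψ
  have h2 := h.unit χ ψ hψ
  rw [h0] at h1 h2
  have h3 : valA ζ (2 ^ k) (a χ ψ) 1 ≠ 0 := by
    intro h
    apply h2
    rw [h, zero_div]
    exact memLocalIdeal_zero
  refine (le_sum_norm_sq hM hζ h1 h3).trans (le_of_eq ?_)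
  exact Finset.sum_congr rfl fun m _ => by rw [h.coords m χ ψ]

theorem row_bound (hM : IsPModular 2 M) (hζ : IsPrimitiveRoot ζ (2 ^ (k + 1)))
    (h : Proj M ζ k d ht P a r) {χ : ι} (hχ : ht χ = 0) :
    ∑ ψ, (4 : ℤ) ^ ht ψ ≤ 2 ^ d * a χ χ 0 := by
  have hN : (0 : ℝ) < ((2 ^ k : ℕ) : ℝ) := by positivity
  have h1 : ∑ ψ, (4 : ℝ) ^ ht ψ * ((2 ^ k : ℕ) : ℝ) ≤
      ∑ ψ, ∑ m ∈ Finset.range (2 ^ k), ‖P m χ ψ‖ ^ 2 := by
    refine Finset.sum_le_sum fun ψ _ => (h.le_row hM hζ ψ hχ).trans (le_of_eq ?_)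
    exact Finset.sum_congr rfl fun m _ => by rw [h.norm_symm]
  rw [Finset.sum_comm, h.sum_self hζ χ, ← Finset.sum_mul] at h1
  have h2 : (∑ ψ, (4 : ℝ) ^ ht ψ) * ((2 ^ k : ℕ) : ℝ) ≤
      ((2 : ℝ) ^ d * (a χ χ 0 : ℝ)) * ((2 ^ k : ℕ) : ℝ) := by
    refine h1.trans (le_of_eq ?_)
    ring
  have h3 := le_of_mul_le_mul_right h2 hN
  exact_mod_cast h3

theorem pos (hM : IsPModular 2 M) (hζ : IsPrimitiveRoot ζ (2 ^ (k + 1)))
    (h : Proj M ζ k d ht P a r) (h0 : ∃ ψ, ht ψ = 0) (χ : ι) : 0 < a χ χ 0 := by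
  obtain ⟨ψ, hψ⟩ := h0
  have hN : (0 : ℝ) < ((2 ^ k : ℕ) : ℝ) := by positivity
  have h1 := h.le_row hM hζ χ hψ
  have h2 : ∑ m ∈ Finset.range (2 ^ k), ‖P m χ ψ‖ ^ 2 ≤
      ∑ m ∈ Finset.range (2 ^ k), ∑ ψ, ‖P m χ ψ‖ ^ 2 :=
    Finset.sum_le_sum fun m _ => Finset.single_le_sum (f := fun ψ => ‖P m χ ψ‖ ^ 2)
      (fun _ _ => by positivity) (Finset.mem_univ ψ)
  rw [h.sum_self hζ χ] at h2
  have h3 : (0 : ℝ) < (4 : ℝ) ^ ht χ * ((2 ^ k : ℕ) : ℝ) := by positivity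
  have h4 : (0 : ℝ) < (2 : ℝ) ^ d * (((2 ^ k : ℕ) : ℝ) * (a χ χ 0 : ℝ)) := by linarith
  have h5 : (0 : ℝ) < ((2 ^ k : ℕ) : ℝ) * (a χ χ 0 : ℝ) := pos_of_mul_pos_right h4 (by positivity)
  have h6 : (0 : ℝ) < (a χ χ 0 : ℝ) := pos_of_mul_pos_right h5 hN.le
  exact_mod_cast h6

theorem le (hζ : IsPrimitiveRoot ζ (2 ^ (k + 1))) (h : Proj M ζ k d ht P a r) (χ : ι) :
    a χ χ 0 ≤ 2 ^ d := by
  have hN : (0 : ℝ) < ((2 ^ k : ℕ) : ℝ) := by positivity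
  have hre : ∀ m, ∃ x : ℝ, 0 ≤ x ∧ P m χ χ = x ∧ x ≤ 2 ^ d := by
    intro m
    have h1 := h.self_eq m χ
    refine ⟨(∑ ψ, ‖P m χ ψ‖ ^ 2) / 2 ^ d, by positivity, ?_, ?_⟩
    · have : (2 : ℂ) ^ d ≠ 0 := pow_ne_zero _ two_ne_zero
      push_cast at h1 ⊢
      rw [← h1]
      field_simp
    · set x : ℝ := (∑ ψ, ‖P m χ ψ‖ ^ 2) / 2 ^ d with hx
      have h2 : P m χ χ = x := by
        have : (2 : ℂ) ^ d ≠ 0 := pow_ne_zero _ two_ne_zero
        rw [hx]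
        push_cast at h1 ⊢
        rw [← h1]
        field_simp
      have hx0 : 0 ≤ x := by positivity
      have h3 : ‖P m χ χ‖ ^ 2 ≤ ∑ ψ, ‖P m χ ψ‖ ^ 2 :=
        Finset.single_le_sum (f := fun ψ => ‖P m χ ψ‖ ^ 2)
          (fun _ _ => by positivity) (Finset.mem_univ χ)
      have h4 : ∑ ψ, ‖P m χ ψ‖ ^ 2 = 2 ^ d * x := by
        rw [hx]
        field_simp
      rw [h4, h2, Complex.norm_real, Real.norm_of_nonneg hx0] at h3
      by_contra hlt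
      push Not at hlt
      have : (0 : ℝ) < 2 ^ d := by positivity
      nlinarith
  choose x hx0 hx hxle using hre
  have h1 := sum_valA hζ (a χ χ)
  have h2 : ∑ m ∈ Finset.range (2 ^ k), (x m : ℂ) = (2 ^ k : ℕ) * (a χ χ 0 : ℂ) := by
    rw [← h1]
    exact Finset.sum_congr rfl fun m _ => by rw [← hx, h.coords m χ χ]
  have h3 : ∑ m ∈ Finset.range (2 ^ k), x m = (2 ^ k : ℕ) * (a χ χ 0 : ℝ) := by
    exact_mod_cast h2
  have h4 : ∑ m ∈ Finset.range (2 ^ k), x m ≤ ∑ m ∈ Finset.range (2 ^ k), (2 : ℝ) ^ d :=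
    Finset.sum_le_sum fun m _ => hxle m
  rw [h3, Finset.sum_const, Finset.card_range, nsmul_eq_mul] at h4
  have h5 := le_of_mul_le_mul_left h4 hN
  exact_mod_cast h5

theorem odd (hM : IsPModular 2 M) (hζ : IsPrimitiveRoot ζ (2 ^ (k + 1)))
    (h : Proj M ζ k d ht P a r) {χ : ι} (hχ : ht χ = 0) : ¬ (2 : ℤ) ∣ a χ χ 0 := by
  have := isPrime_of_isPModular hM
  have h0 : P 0 χ χ = valA ζ (2 ^ k) (a χ χ) 1 := h.coords 0 χ χ
  have h1 := h.ring χ χ hχ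
  have h2 := h.unit χ χ hχ
  have h3 := h.herm 0 χ χ
  rw [h0] at h1 h2 h3
  obtain ⟨b, hb, hb'⟩ := exists_avg hM hζ h1 h3
  rw [hχ, pow_zero, one_mul] at hb
  intro hdvd
  rw [hb] at hdvd
  have h4 : MemLocalIdeal M (b : ℂ) := (memLocalIdeal_intCast_iff hM b).2 (by exact_mod_cast hdvd)
  exact h2 ((memLocalIdeal_iff_of_sub hb').2 h4)

theorem dvd (hM : IsPModular 2 M) (hζ : IsPrimitiveRoot ζ (2 ^ (k + 1)))
    (h : Proj M ζ k d ht P a r) {χ : ι} (hχ : ht χ ≠ 0) : (2 : ℤ) ^ (ht χ + 1) ∣ a χ χ 0 := by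
  have := isPrime_of_isPModular hM
  have h0 : P 0 χ χ = valA ζ (2 ^ k) (a χ χ) 1 := h.coords 0 χ χ
  have h1 := h.self χ hχ
  have h3 := h.herm 0 χ χ
  rw [h0] at h1 h3
  obtain ⟨b, hb, hb'⟩ := exists_avg hM hζ (memLocalRing_of_memLocalIdeal h1) h3
  have h4 : MemLocalIdeal M (b : ℂ) := (memLocalIdeal_iff_of_sub hb').1 h1
  have h5 : (2 : ℤ) ∣ b := by exact_mod_cast (memLocalIdeal_intCast_iff hM b).1 h4
  obtain ⟨c, rfl⟩ := h5
  exact ⟨c, by rw [hb]; ring⟩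

theorem ht_lt (hM : IsPModular 2 M) (hζ : IsPrimitiveRoot ζ (2 ^ (k + 1)))
    (h : Proj M ζ k d ht P a r) (h0 : ∃ ψ, ht ψ = 0) {χ : ι} (hχ : ht χ ≠ 0) : ht χ < d := by
  have h1 := Int.le_of_dvd (h.pos hM hζ h0 χ) (h.dvd hM hζ hχ)
  have h2 := h1.trans (h.le hζ χ)
  have h3 : (2 : ℕ) ^ (ht χ + 1) ≤ 2 ^ d := by exact_mod_cast h2
  exact (Nat.pow_le_pow_iff_right (by norm_num)).1 h3

theorem sum_t (hζ : IsPrimitiveRoot ζ (2 ^ (k + 1)))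
    (h : Proj M ζ k d ht P a r) : ∑ χ, a χ χ 0 = 2 ^ d * r := by
  have hN : ((2 ^ k : ℕ) : ℂ) ≠ 0 := by
    exact_mod_cast (pow_pos (by norm_num) k : 0 < 2 ^ k).ne'
  have h1 : ∑ χ, ((2 ^ k : ℕ) : ℂ) * (a χ χ 0 : ℂ) = ((2 ^ k : ℕ) : ℂ) * (2 ^ d * r) := by
    calc ∑ χ, ((2 ^ k : ℕ) : ℂ) * (a χ χ 0 : ℂ)
        = ∑ χ, ∑ m ∈ Finset.range (2 ^ k), P m χ χ := by
          refine Finset.sum_congr rfl fun χ _ => ?_
          rw [← sum_valA hζ (a χ χ)]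
          exact Finset.sum_congr rfl fun m _ => (h.coords m χ χ).symm
      _ = ∑ m ∈ Finset.range (2 ^ k), ((2 : ℂ) ^ d * r) := by
          rw [Finset.sum_comm]
          exact Finset.sum_congr rfl fun m _ => h.trace m
      _ = _ := by
          rw [Finset.sum_const, Finset.card_range, nsmul_eq_mul]
  rw [← Finset.mul_sum] at h1
  have h2 := mul_left_cancel₀ hN h1
  exact_mod_cast h2

/-- The dichotomy. -/
theorem main (hM : IsPModular 2 M) (hζ : IsPrimitiveRoot ζ (2 ^ (k + 1)))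
    (h : Proj M ζ k d ht P a r) (h0 : ∃ ψ, ht ψ = 0) (hr : r ≤ 3) :
    ∑ ψ, (4 : ℤ) ^ ht ψ ≤ 2 ^ d ∨
      ∑ ψ, (if ht ψ = 0 then 3 else 2 ^ (ht ψ + 1) : ℤ) ≤ 3 * 2 ^ d := by
  by_cases h1 : ∃ χ, ht χ = 0 ∧ a χ χ 0 = 1
  · obtain ⟨χ, hχ, hχ1⟩ := h1
    left
    have := h.row_bound hM hζ hχ
    rwa [hχ1, mul_one] at this
  · right
    push Not at h1
    have h2 : ∑ ψ, (if ht ψ = 0 then 3 else 2 ^ (ht ψ + 1) : ℤ) ≤ ∑ χ, a χ χ 0 := by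
      refine Finset.sum_le_sum fun χ _ => ?_
      have hpos := h.pos hM hζ h0 χ
      split_ifs with hχ
      · have h3 := h.odd hM hζ hχ
        have h4 := h1 χ hχ
        omega
      · exact Int.le_of_dvd hpos (h.dvd hM hζ hχ)
    rw [h.sum_t hζ] at h2
    refine h2.trans ?_
    have : (0 : ℤ) < 2 ^ d := by positivity
    nlinarith

/-- The complementary family. -/
theorem compl [DecidableEq ι] (hM : IsPModular 2 M) (hζ : IsPrimitiveRoot ζ (2 ^ (k + 1)))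
    (h : Proj M ζ k d ht P a r) (h0 : ∃ ψ, ht ψ = 0) (hd : d ≠ 0) :
    Proj M ζ k d ht (fun m χ ψ => (if χ = ψ then (2 : ℂ) ^ d else 0) - P m χ ψ)
      (fun χ ψ e => (if χ = ψ then (if e = 0 then 2 ^ d else 0) else 0) - a χ ψ e)
      (Fintype.card ι - r) := by
  have := isPrime_of_isPModular hM
  refine ⟨?_, ?_, ?_, ?_, ?_, ?_, ?_⟩
  · intro m χ ψ
    have hpos : 0 < 2 ^ k := pow_pos (by norm_num) k
    rw [h.coords m χ ψ, valA_def, valA_def]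
    simp only [Int.cast_sub, sub_mul, Finset.sum_sub_distrib]
    congr 1
    by_cases hχψ : χ = ψ
    · rw [if_pos hχψ, Finset.sum_eq_single 0]
      · simp [hχψ]
      · intro e _ he
        simp [he]
      · intro h
        exact absurd (Finset.mem_range.2 hpos) h
    · rw [if_neg hχψ]
      symm
      refine Finset.sum_eq_zero fun e _ => ?_
      simp [hχψ]
  · intro m χ ψ
    rw [map_sub, h.herm m χ ψ]
    by_cases hχψ : χ = ψ
    · subst hχψ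
      rw [if_pos rfl, map_pow, Complex.conj_ofNat]
    · rw [if_neg hχψ, if_neg (fun h => hχψ h.symm), map_zero]
  · intro m χ χ'
    have h1 : ∀ ψ, ((if χ = ψ then (2 : ℂ) ^ d else 0) - P m χ ψ) *
        ((if ψ = χ' then (2 : ℂ) ^ d else 0) - P m ψ χ') =
        (if χ = ψ then (2 : ℂ) ^ d * (if ψ = χ' then (2 : ℂ) ^ d else 0) else 0) -
        (if χ = ψ then (2 : ℂ) ^ d * P m ψ χ' else 0) -
        (if ψ = χ' then P m χ ψ * 2 ^ d else 0) + P m χ ψ * P m ψ χ' := by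
      intro ψ
      split_ifs <;> ring
    rw [Finset.sum_congr rfl (fun ψ _ => h1 ψ), Finset.sum_add_distrib, Finset.sum_sub_distrib,
      Finset.sum_sub_distrib, h.idem m χ χ', Finset.sum_ite_eq, Finset.sum_ite_eq,
      Finset.sum_ite_eq', if_pos (Finset.mem_univ _), if_pos (Finset.mem_univ _),
      if_pos (Finset.mem_univ _)]
    ring
  · intro m
    rw [Finset.sum_sub_distrib, h.trace m]
    simp only [if_true, Finset.sum_const, Finset.card_univ, nsmul_eq_mul]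
    push_cast
    ring
  · intro χ ψ hψ
    by_cases hχψ : χ = ψ
    · subst hχψ
      rw [if_pos rfl, sub_div]
      refine memLocalRing_sub ?_ (h.ring χ χ hψ)
      rw [hψ, pow_zero, div_one]
      exact memLocalRing_of_isIntegral (by
        have := isIntegral_algebraMap (R := ℤ) (A := ℂ) (x := (2 : ℤ) ^ d)
        simpa using this)
    · rw [if_neg hχψ, zero_sub, neg_div]
      exact memLocalRing_neg (h.ring χ ψ hψ)
  · intro χ ψ hψ hcon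
    by_cases hχψ : χ = ψ
    · subst hχψ
      rw [if_pos rfl, sub_div] at hcon
      have h2 : MemLocalIdeal M ((2 : ℂ) ^ d / 2 ^ ht χ) := by
        rw [hψ, pow_zero, div_one]
        exact memLocalIdeal_pow (by exact_mod_cast memLocalIdeal_p hM) hd
      have h3 := memLocalIdeal_sub h2 hcon
      rw [sub_sub_cancel] at h3
      exact h.unit χ χ hψ h3
    · rw [if_neg hχψ, zero_sub, neg_div] at hcon
      have h3 := memLocalIdeal_neg hcon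
      rw [neg_neg] at h3
      exact h.unit χ ψ hψ h3
  · intro χ hχ
    rw [if_pos rfl, sub_div]
    refine memLocalIdeal_sub ?_ (h.self χ hχ)
    have h1 := h.ht_lt hM hζ h0 hχ
    have h2 : (2 : ℂ) ^ d / 2 ^ ht χ = 2 ^ (d - ht χ) := by
      rw [div_eq_iff (pow_ne_zero _ two_ne_zero), ← pow_add, Nat.sub_add_cancel h1.le]
    rw [h2]
    exact memLocalIdeal_pow (by exact_mod_cast memLocalIdeal_p hM) (by omega)

end Proj

end Cfsg.Agent.H624.MajTwo
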