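import Mathlib
import Cfsg.Agent.H624.AsmMain
import Cfsg.Agent.H617.BrauerAbTwo

/-!
# Package G of S4542
-/

set_option autoImplicit false

open Cfsg

namespace Cfsg.Agent.H624.PkgGProof

universe u

theorem pkgG {M : Ideal AlgInt} (hM : IsPModular 2 M) : AsmMain.PkgG.{u} M := by
  intro G _ _ B D hB hD hab Z hZ hcyc hidx
  have hp : Fact (Nat.Prime 2) := ⟨Nat.prime_two⟩
  have hMp := Cfsg.Agent.Blocks.Local.isPrime_of_isPModular hM
  obtain ⟨e, he⟩ := Cfsg.Agent.H649.exists_pair_of_isDefectGroup hM hB hD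
  have hmax := Cfsg.Agent.H644.isMaximalBrauerPair_of_isDefectGroup hM he hD
  exact Cfsg.Agent.H617.BrauerAbTwo.card_le_abelian_two hM (a := ⟨D, e⟩) hmax hab hZ hcyc hidx

end Cfsg.Agent.H624.PkgGProof
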