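import Cfsg.Agent.H613.Contrib
import Cfsg.Agent.Characters.Galois
import Mathlib.RingTheory.Polynomial.Cyclotomic.Eval
import Mathlib.Algebra.Polynomial.Taylor
import Mathlib.Analysis.MeanInequalities

/-!
# The Galois average for `2`-power roots of unity

`ζ` a primitive `2 ^ (k + 1)`-th root of unity, `n = 2 ^ k`, `a : ℕ → ℤ`,
`valA ζ n a j = ∑_{e < n} a e ζ^(j e)`; the Galois conjugates of `valA ζ n a 1` are the values at the
odd numbers `j = 2 m + 1`, `m < n`, and their average is `a 0`.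

* `sum_valA`: `∑_{m < n} valA (2 m + 1) = n * a 0`;
* `pow_dvd_of_memLocalRing`: if `valA 1 / 2 ^ i` is a local integer then `2 ^ i ∣ a e` for all `e < n`;
* `exists_avg`: if moreover `valA 1` is real then `a 0 = 2 ^ i * b` with `valA 1 / 2 ^ i ≡ b`;
* `le_sum_norm_sq`: if moreover `valA 1 ≠ 0` then `4 ^ i * n ≤ ∑_{m < n} ‖valA (2 m + 1)‖ ^ 2`;
* `exists_coords`: sums `∑ c_i w_i ^ j` with `w_i ^ (2 ^ (k + 1)) = 1` are of this form for odd `j`.
-/

set_option autoImplicit false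

open scoped ComplexConjugate
open Cfsg Polynomial

namespace Cfsg.Agent.H624.TTwo

open Cfsg.Agent.Blocks.Local

/-- The value at `ζ ^ j` of the polynomial with coefficients `a e`, `e < n`. -/
noncomputable def valA (ζ : ℂ) (n : ℕ) (a : ℕ → ℤ) (j : ℕ) : ℂ :=
  ∑ e ∈ Finset.range n, (a e : ℂ) * ζ ^ (j * e)

theorem valA_def (ζ : ℂ) (n : ℕ) (a : ℕ → ℤ) (j : ℕ) :
    valA ζ n a j = ∑ e ∈ Finset.range n, (a e : ℂ) * ζ ^ (j * e) := rfl

theorem valA_add (ζ : ℂ) (n : ℕ) (a b : ℕ → ℤ) (j : ℕ) :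
    valA ζ n (fun e => a e + b e) j = valA ζ n a j + valA ζ n b j := by
  rw [valA_def, valA_def, valA_def, ← Finset.sum_add_distrib]
  refine Finset.sum_congr rfl fun e _ => ?_
  push_cast
  ring

theorem valA_mul (ζ : ℂ) (n : ℕ) (c : ℤ) (a : ℕ → ℤ) (j : ℕ) :
    valA ζ n (fun e => c * a e) j = c * valA ζ n a j := by
  rw [valA_def, valA_def, Finset.mul_sum]
  refine Finset.sum_congr rfl fun e _ => ?_
  push_cast
  ring

theorem valA_congr (ζ : ℂ) (n : ℕ) {a b : ℕ → ℤ} (h : ∀ e < n, a e = b e) (j : ℕ) :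
    valA ζ n a j = valA ζ n b j := by
  rw [valA_def, valA_def]
  refine Finset.sum_congr rfl fun e he => ?_
  rw [h e (Finset.mem_range.1 he)]

variable {M : Ideal AlgInt} {k : ℕ} {ζ : ℂ}

/-- `ζ ^ n = -1`. -/
theorem pow_half (hζ : IsPrimitiveRoot ζ (2 ^ (k + 1))) : ζ ^ (2 ^ k) = -1 := by
  have h1 : ζ ^ (2 ^ k) * ζ ^ (2 ^ k) = 1 := by
    rw [← pow_add, ← two_mul, ← pow_succ', hζ.pow_eq_one]
  rcases mul_self_eq_one_iff.1 h1 with h | h
  · exfalso
    have h2 := (hζ.pow_eq_one_iff_dvd (2 ^ k)).1 h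
    have h3 := Nat.le_of_dvd (pow_pos (by norm_num) k) h2
    rw [pow_succ] at h3
    have := pow_pos (show 0 < 2 by norm_num) k
    omega
  · exact h

theorem isIntegral_root (hζ : IsPrimitiveRoot ζ (2 ^ (k + 1))) : IsIntegral ℤ ζ := by
  refine IsIntegral.of_pow (pow_pos (by norm_num : 0 < 2) (k + 1)) ?_
  rw [hζ.pow_eq_one]
  exact isIntegral_one

/-- `(ζ - 1) ^ n` divides `2`. -/
theorem exists_mul_eq_two (hζ : IsPrimitiveRoot ζ (2 ^ (k + 1))) :
    ∃ v : ℂ, IsIntegral ℤ v ∧ (ζ - 1) ^ (2 ^ k) * v = 2 := by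
  have h1 : ∀ μ ∈ primitiveRoots (2 ^ (k + 1)) ℂ, ∃ w : ℂ, IsIntegral ℤ w ∧ 1 - μ = (ζ - 1) * w := by
    intro μ hμ
    rw [mem_primitiveRoots (pow_pos (by norm_num) _)] at hμ
    obtain ⟨j, -, rfl⟩ := hζ.eq_pow_of_pow_eq_one hμ.pow_eq_one
    refine ⟨-∑ i ∈ Finset.range j, ζ ^ i, ?_, ?_⟩
    · exact (IsIntegral.sum _ fun i _ => (isIntegral_root hζ).pow i).neg
    · have := geom_sum_mul ζ j
      linear_combination this
  choose! w hw1 hw2 using h1
  refine ⟨∏ μ ∈ primitiveRoots (2 ^ (k + 1)) ℂ, w μ, IsIntegral.prod _ fun μ hμ => hw1 μ hμ, ?_⟩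
  have hcard : (primitiveRoots (2 ^ (k + 1)) ℂ).card = 2 ^ k := by
    rw [hζ.card_primitiveRoots, Nat.totient_prime_pow Nat.prime_two (Nat.succ_pos k)]
    simp
  have h2 : (ζ - 1) ^ (2 ^ k) * ∏ μ ∈ primitiveRoots (2 ^ (k + 1)) ℂ, w μ =
      ∏ μ ∈ primitiveRoots (2 ^ (k + 1)) ℂ, (1 - μ) := by
    rw [← hcard, ← Finset.prod_const, ← Finset.prod_mul_distrib]
    exact Finset.prod_congr rfl fun μ hμ => (hw2 μ hμ).symm
  rw [h2]
  have h3 := eval_one_cyclotomic_prime_pow (R := ℂ) (p := 2) k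
  rw [cyclotomic_eq_prod_X_sub_primitiveRoots hζ, eval_prod] at h3
  simpa using h3

/-- Coefficients of a polynomial of small degree whose value at `ζ` is divisible by `2`. -/
theorem two_dvd_coeff (hM : IsPModular 2 M) (hζ : IsPrimitiveRoot ζ (2 ^ (k + 1))) (A : ℤ[X])
    (hA : A.natDegree < 2 ^ k) {γ : ℂ} (hγ : MemLocalRing M γ) (h : aeval ζ A = 2 * γ) (e : ℕ) :
    2 ∣ A.coeff e := by
  have := isPrime_of_isPModular hM
  obtain ⟨v, hv, hv2⟩ := exists_mul_eq_two hζ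
  set π : ℂ := ζ - 1 with hπ
  have hπM : MemLocalIdeal M π :=
    Cfsg.Agent.H613.Contrib.memLocalIdeal_root_sub_one hM (j := k + 1) hζ.pow_eq_one
  have hvM : MemLocalRing M v := memLocalRing_of_isIntegral hv
  have hπ0 : π ≠ 0 := by
    intro h0
    rw [h0, zero_pow (pow_ne_zero _ (by norm_num)), zero_mul] at hv2
    exact two_ne_zero hv2.symm
  set A' : ℤ[X] := taylor 1 A with hA'
  have hdeg : A'.natDegree < 2 ^ k := by rw [hA', natDegree_taylor]; exact hA
  have hval : ∑ t ∈ Finset.range (2 ^ k), (A'.coeff t : ℂ) * π ^ t = 2 * γ := by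
    have h1 : aeval π A' = aeval ζ A := by
      rw [hA', taylor_apply, aeval_comp]
      simp [hπ]
    rw [← h, ← h1, aeval_eq_sum_range' hdeg]
    refine Finset.sum_congr rfl fun t _ => ?_
    rw [zsmul_eq_mul]
  have hpow : ∀ m : ℕ, m ≠ 0 → MemLocalIdeal M (π ^ m) := fun m hm => memLocalIdeal_pow hπM hm
  have key : ∀ s, s < 2 ^ k → 2 ∣ A'.coeff s := by
    intro s
    induction s using Nat.strong_induction_on with
    | _ s ih =>
      intro hs
      have h1 : (A'.coeff s : ℂ) = 2 * γ / π ^ s -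
          ∑ t ∈ (Finset.range (2 ^ k)).erase s, (A'.coeff t : ℂ) * π ^ t / π ^ s := by
        rw [← hval, ← Finset.add_sum_erase _ _ (Finset.mem_range.2 hs), ← Finset.sum_div]
        have : π ^ s ≠ 0 := pow_ne_zero _ hπ0
        field_simp
        ring
      have h2 : MemLocalIdeal M (A'.coeff s : ℂ) := by
        rw [h1]
        refine memLocalIdeal_sub ?_ (memLocalIdeal_sum fun t ht => ?_)
        · have h3 : 2 * γ / π ^ s = π ^ (2 ^ k - s) * (v * γ) := by
            rw [← hv2]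
            have h4 : π ^ (2 ^ k) = π ^ (2 ^ k - s) * π ^ s := by
              rw [← pow_add, Nat.sub_add_cancel hs.le]
            rw [h4]
            have : π ^ s ≠ 0 := pow_ne_zero _ hπ0
            field_simp
          rw [h3]
          exact memLocalIdeal_mul_right (hpow _ (by omega)) (memLocalRing_mul hvM hγ)
        · rcases lt_or_gt_of_ne (Finset.ne_of_mem_erase ht) with hlt | hgt
          · obtain ⟨c, hc⟩ := ih t hlt (hlt.trans hs)
            have h3 : (A'.coeff t : ℂ) * π ^ t / π ^ s =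
                π ^ (2 ^ k - s) * (v * (c * π ^ t)) := by
              have h4 : π ^ (2 ^ k) = π ^ (2 ^ k - s) * π ^ s := by
                rw [← pow_add, Nat.sub_add_cancel hs.le]
              rw [hc]
              push_cast
              rw [← hv2, h4]
              have : π ^ s ≠ 0 := pow_ne_zero _ hπ0
              field_simp
            rw [h3]
            refine memLocalIdeal_mul_right (hpow _ (by omega)) (memLocalRing_mul hvM
              (memLocalRing_mul (memLocalRing_intCast _) (memLocalRing_pow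
                (memLocalRing_of_memLocalIdeal hπM) _)))
          · have h3 : (A'.coeff t : ℂ) * π ^ t / π ^ s = (A'.coeff t : ℂ) * π ^ (t - s) := by
              have h4 : π ^ t = π ^ (t - s) * π ^ s := by
                rw [← pow_add, Nat.sub_add_cancel hgt.le]
              rw [h4]
              have : π ^ s ≠ 0 := pow_ne_zero _ hπ0
              field_simp
            rw [h3]
            exact memLocalIdeal_mul_left (memLocalRing_intCast _) (hpow _ (by omega))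
      exact_mod_cast (memLocalIdeal_intCast_iff hM _).1 h2
  have h5 : (C (2 : ℤ)) ∣ A' := by
    rw [C_dvd_iff_dvd_coeff]
    intro i
    by_cases hi : i < 2 ^ k
    · exact key i hi
    · rw [coeff_eq_zero_of_natDegree_lt (by omega)]
      exact dvd_zero _
  obtain ⟨Q, hQ⟩ := h5
  have h6 : A = C (2 : ℤ) * taylor (-1) Q := by
    have h7 : taylor (-1) A' = A := by
      rw [hA', taylor_taylor]
      simp
    rw [← h7, hQ, taylor_mul, taylor_C]
  have h8 : (C (2 : ℤ)) ∣ A := ⟨_, h6⟩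
  exact (C_dvd_iff_dvd_coeff _ _).1 h8 e

theorem two_dvd_of_valA (hM : IsPModular 2 M) (hζ : IsPrimitiveRoot ζ (2 ^ (k + 1)))
    {a : ℕ → ℤ} {γ : ℂ} (hγ : MemLocalRing M γ) (h : valA ζ (2 ^ k) a 1 = 2 * γ) {e : ℕ}
    (he : e < 2 ^ k) : 2 ∣ a e := by
  let A : ℤ[X] := ∑ t ∈ Finset.range (2 ^ k), C (a t) * X ^ t
  have hcoeff : ∀ t, A.coeff t = if t < 2 ^ k then a t else 0 := by
    intro t
    simp only [A, finsetSum_coeff, coeff_C_mul, coeff_X_pow]
    by_cases ht : t < 2 ^ k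
    · rw [if_pos ht, Finset.sum_eq_single t]
      · simp
      · intro s _ hs
        rw [if_neg (Ne.symm hs), mul_zero]
      · intro h'
        exact absurd (Finset.mem_range.2 ht) h'
    · rw [if_neg ht]
      refine Finset.sum_eq_zero fun s hs => ?_
      rw [Finset.mem_range] at hs
      rw [if_neg (by omega), mul_zero]
  have hpos : 0 < 2 ^ k := pow_pos (by norm_num) k
  have hdeg : A.natDegree < 2 ^ k := by
    have : A.natDegree ≤ 2 ^ k - 1 := by
      rw [natDegree_le_iff_coeff_eq_zero]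
      intro N hN
      rw [hcoeff, if_neg (by omega)]
    omega
  have hval : aeval ζ A = 2 * γ := by
    rw [← h, valA_def]
    simp [A]
  have := two_dvd_coeff hM hζ A hdeg hγ hval e
  rwa [hcoeff, if_pos he] at this

/-- The coefficients are divisible by `2 ^ i` if the value is so, locally. -/
theorem pow_dvd_of_memLocalRing (hM : IsPModular 2 M) (hζ : IsPrimitiveRoot ζ (2 ^ (k + 1)))
    (i : ℕ) : ∀ {a : ℕ → ℤ}, MemLocalRing M (valA ζ (2 ^ k) a 1 / 2 ^ i) → ∀ {e : ℕ}, e < 2 ^ k →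
      2 ^ i ∣ a e := by
  have := isPrime_of_isPModular hM
  induction i with
  | zero =>
    intro a _ e _
    simp
  | succ i ih =>
    intro a h e he
    have h1 : MemLocalRing M (valA ζ (2 ^ k) a 1 / 2 ^ i) := by
      have h2 : valA ζ (2 ^ k) a 1 / 2 ^ i = ((2 : ℕ) : ℂ) * (valA ζ (2 ^ k) a 1 / 2 ^ (i + 1)) := by
        rw [pow_succ]
        push_cast
        field_simp
      rw [h2]
      exact memLocalRing_mul (memLocalRing_natCast _) h
    have h3 : ∀ e < 2 ^ k, a e = 2 ^ i * (a e / 2 ^ i) := fun e he =>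
      (Int.mul_ediv_cancel' (ih h1 he)).symm
    have h4 : valA ζ (2 ^ k) (fun e => a e / 2 ^ i) 1 = 2 * (valA ζ (2 ^ k) a 1 / 2 ^ (i + 1)) := by
      have h5 : valA ζ (2 ^ k) a 1 = ((2 ^ i : ℤ) : ℂ) * valA ζ (2 ^ k) (fun e => a e / 2 ^ i) 1 := by
        rw [← valA_mul]
        exact valA_congr _ _ h3 1
      rw [h5, pow_succ]
      push_cast
      field_simp
    obtain ⟨c, hc⟩ := two_dvd_of_valA hM hζ h h4 he
    refine ⟨c, ?_⟩
    have h6 := h3 e he
    have hc' : a e / 2 ^ i = 2 * c := hc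
    rw [hc'] at h6
    rw [h6]
    ring

/-- Linear independence. -/
theorem eq_zero_of_valA (hM : IsPModular 2 M) (hζ : IsPrimitiveRoot ζ (2 ^ (k + 1)))
    {a : ℕ → ℤ} (h : valA ζ (2 ^ k) a 1 = 0) {e : ℕ} (he : e < 2 ^ k) : a e = 0 := by
  have := isPrime_of_isPModular hM
  by_contra hne
  have h1 : (2 : ℤ) ^ (a e).natAbs ∣ a e := pow_dvd_of_memLocalRing hM hζ _
    (by rw [h, zero_div]; exact memLocalRing_zero) he
  have h2 := Int.natAbs_dvd_natAbs.2 h1
  rw [Int.natAbs_pow] at h2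
  have h3 := Nat.le_of_dvd (Int.natAbs_pos.2 hne) h2
  have h4 : (a e).natAbs < 2 ^ (a e).natAbs := Nat.lt_two_pow_self
  have h5 : (2 : ℤ).natAbs = 2 := rfl
  rw [h5] at h3
  omega

/-- The sum of the values at the odd powers. -/
theorem sum_valA (hζ : IsPrimitiveRoot ζ (2 ^ (k + 1))) (a : ℕ → ℤ) :
    ∑ m ∈ Finset.range (2 ^ k), valA ζ (2 ^ k) a (2 * m + 1) = (2 ^ k : ℕ) * (a 0 : ℂ) := by
  have hpos : 0 < 2 ^ k := pow_pos (by norm_num) k
  simp only [valA_def]
  rw [Finset.sum_comm, Finset.sum_eq_single 0]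
  · simp
  · intro e he he0
    rw [Finset.mem_range] at he
    rw [← Finset.mul_sum]
    have h1 : ∀ m, ζ ^ ((2 * m + 1) * e) = ζ ^ e * (ζ ^ (2 * e)) ^ m := by
      intro m
      rw [← pow_mul, ← pow_add]
      congr 1
      ring
    rw [Finset.sum_congr rfl (fun m _ => h1 m), ← Finset.mul_sum]
    have h2 : (∑ m ∈ Finset.range (2 ^ k), (ζ ^ (2 * e)) ^ m) * (ζ ^ (2 * e) - 1) = 0 := by
      rw [geom_sum_mul, ← pow_mul]
      have : 2 * e * 2 ^ k = 2 ^ (k + 1) * e := by ring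
      rw [this, pow_mul, hζ.pow_eq_one, one_pow, sub_self]
    have h3 : ζ ^ (2 * e) - 1 ≠ 0 := by
      intro h
      have h4 := (hζ.pow_eq_one_iff_dvd (2 * e)).1 (sub_eq_zero.1 h)
      have h5 := Nat.le_of_dvd (by omega) h4
      rw [pow_succ] at h5
      omega
    rw [(mul_eq_zero.1 h2).resolve_right h3, mul_zero, mul_zero]
  · intro h
    exact absurd (Finset.mem_range.2 hpos) h

theorem conj_root (hζ : IsPrimitiveRoot ζ (2 ^ (k + 1))) {e : ℕ} (he : e ≤ 2 ^ k) :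
    conj (ζ ^ e) = - ζ ^ (2 ^ k - e) := by
  have h1 : ζ ^ e * ζ ^ (2 ^ k - e) = -1 := by
    rw [← pow_add, Nat.add_sub_cancel' he, pow_half hζ]
  have h2 : ζ ^ e * conj (ζ ^ e) = 1 := by
    rw [Complex.mul_conj, Complex.normSq_eq_norm_sq, norm_pow,
      Complex.norm_eq_one_of_pow_eq_one hζ.pow_eq_one (pow_ne_zero _ (by norm_num))]
    simp
  have h3 : ζ ^ e ≠ 0 := left_ne_zero_of_mul (h2.symm ▸ one_ne_zero)
  apply mul_left_cancel₀ h3
  rw [h2, mul_neg, h1, neg_neg]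

/-- The average of the conjugates of a real value. -/
theorem exists_avg (hM : IsPModular 2 M) (hζ : IsPrimitiveRoot ζ (2 ^ (k + 1))) {i : ℕ}
    {a : ℕ → ℤ} (h : MemLocalRing M (valA ζ (2 ^ k) a 1 / 2 ^ i))
    (hreal : conj (valA ζ (2 ^ k) a 1) = valA ζ (2 ^ k) a 1) :
    ∃ b : ℤ, a 0 = 2 ^ i * b ∧ MemLocalIdeal M (valA ζ (2 ^ k) a 1 / 2 ^ i - b) := by
  have := isPrime_of_isPModular hM
  have hpos : 0 < 2 ^ k := pow_pos (by norm_num) k
  let b : ℕ → ℤ := fun e => a e / 2 ^ i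
  have h3 : ∀ e < 2 ^ k, a e = 2 ^ i * b e := fun e he =>
    (Int.mul_ediv_cancel' (pow_dvd_of_memLocalRing hM hζ i h he)).symm
  have h5 : valA ζ (2 ^ k) a 1 = ((2 ^ i : ℤ) : ℂ) * valA ζ (2 ^ k) b 1 := by
    rw [← valA_mul]
    exact valA_congr _ _ h3 1
  have h2i : ((2 ^ i : ℤ) : ℂ) ≠ 0 := by
    push_cast
    exact pow_ne_zero _ two_ne_zero
  have h6 : valA ζ (2 ^ k) a 1 / 2 ^ i = valA ζ (2 ^ k) b 1 := by
    rw [h5]
    push_cast
    field_simp
  have hreal' : conj (valA ζ (2 ^ k) b 1) = valA ζ (2 ^ k) b 1 := by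
    rw [h5, map_mul, map_intCast] at hreal
    exact mul_left_cancel₀ h2i hreal
  -- antisymmetry of the coefficients
  have hanti : ∀ e < 2 ^ k, e ≠ 0 → b e + b (2 ^ k - e) = 0 := by
    let d : ℕ → ℤ := fun e => if e = 0 then 0 else b e + b (2 ^ k - e)
    have hd : valA ζ (2 ^ k) d 1 = 0 := by
      have h7 : valA ζ (2 ^ k) b 1 - conj (valA ζ (2 ^ k) b 1) = 0 := by rw [hreal', sub_self]
      rw [← h7, valA_def, valA_def, map_sum]
      obtain ⟨n', hn'⟩ : ∃ n', 2 ^ k = n' + 1 := ⟨2 ^ k - 1, by omega⟩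
      have hconj : ∀ e, e ≤ n' + 1 → conj (ζ ^ e) = -ζ ^ (n' + 1 - e) := by
        intro e he
        have := conj_root hζ (e := e) (by omega)
        rwa [hn'] at this
      rw [hn', Finset.sum_range_succ', Finset.sum_range_succ' (n := n'), Finset.sum_range_succ'
        (n := n')]
      have h8 : ∑ e ∈ Finset.range n', conj ((b (e + 1) : ℂ) * ζ ^ (1 * (e + 1))) =
          - ∑ e ∈ Finset.range n', (b (n' + 1 - (e + 1)) : ℂ) * ζ ^ (1 * (e + 1)) := by
        rw [← Finset.sum_range_reflect (fun e => (b (n' + 1 - (e + 1)) : ℂ) * ζ ^ (1 * (e + 1))),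
          ← Finset.sum_neg_distrib]
        refine Finset.sum_congr rfl fun e he => ?_
        rw [Finset.mem_range] at he
        rw [map_mul, map_intCast, one_mul, hconj (e + 1) (by omega)]
        have e1 : n' + 1 - (n' - 1 - e + 1) = e + 1 := by omega
        have e2 : 1 * (n' - 1 - e + 1) = n' + 1 - (e + 1) := by omega
        rw [e1, e2]
        ring
      rw [h8]
      simp only [d, Nat.add_eq_zero_iff, one_ne_zero, and_false, if_false, if_true, hn']
      push_cast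
      simp only [pow_zero, mul_one, map_intCast]
      rw [show ∀ x y z : ℂ, x + z - (-y + z) = x + y from fun x y z => by ring,
        ← Finset.sum_add_distrib]
      simp only [add_zero, one_mul]
      refine Finset.sum_congr rfl fun e _ => ?_
      ring
    intro e he he0
    have := eq_zero_of_valA hM hζ hd he
    simpa [d, he0] using this
  refine ⟨b 0, h3 0 hpos, ?_⟩
  rw [h6]
  have hS : ∑ e ∈ Finset.range (2 ^ k), b e = b 0 := by
    obtain ⟨n', hn'⟩ : ∃ n', 2 ^ k = n' + 1 := ⟨2 ^ k - 1, by omega⟩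
    rw [hn', Finset.sum_range_succ']
    have h9 : ∑ e ∈ Finset.range n', b (e + 1) + ∑ e ∈ Finset.range n', b (e + 1) = 0 := by
      conv_lhs =>
        arg 2
        rw [← Finset.sum_range_reflect (fun e => b (e + 1))]
      rw [← Finset.sum_add_distrib]
      refine Finset.sum_eq_zero fun e he => ?_
      rw [Finset.mem_range] at he
      have := hanti (e + 1) (by omega) (by omega)
      rw [hn'] at this
      have e1 : n' - 1 - e + 1 = n' + 1 - (e + 1) := by omega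
      rw [e1]
      exact this
    omega
  have h10 : ((b 0 : ℤ) : ℂ) = ∑ e ∈ Finset.range (2 ^ k), (b e : ℂ) := by
    rw [← hS]
    push_cast
    rfl
  rw [h10, valA_def]
  refine memLocalIdeal_sum_sub_sum fun e _ => ?_
  have h11 : (b e : ℂ) * ζ ^ (1 * e) - b e = b e * (ζ ^ e - 1) := by
    rw [one_mul]
    ring
  rw [h11]
  refine memLocalIdeal_mul_left (memLocalRing_intCast _)
    (Cfsg.Agent.H613.Contrib.memLocalIdeal_root_sub_one hM (j := k + 1) ?_)
  rw [← pow_mul, mul_comm, pow_mul, hζ.pow_eq_one, one_pow]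

/-- The primitive roots are the odd powers. -/
theorem image_odd [DecidableEq ℂ] (hζ : IsPrimitiveRoot ζ (2 ^ (k + 1))) :
    (Finset.range (2 ^ k)).image (fun m => ζ ^ (2 * m + 1)) = primitiveRoots (2 ^ (k + 1)) ℂ := by
  apply Finset.eq_of_subset_of_card_le
  · intro μ hμ
    obtain ⟨m, -, rfl⟩ := Finset.mem_image.1 hμ
    rw [mem_primitiveRoots (pow_pos (by norm_num) _)]
    refine hζ.pow_of_coprime _ (Nat.Coprime.pow_right _ ?_)
    rw [Nat.coprime_two_right]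
    exact ⟨m, rfl⟩
  · rw [hζ.card_primitiveRoots, Nat.totient_prime_pow Nat.prime_two (Nat.succ_pos k),
      Finset.card_image_of_injOn]
    · simp
    · intro m hm m' hm' h
      have hm1 := Finset.mem_range.1 (Finset.mem_coe.1 hm)
      have hm2 := Finset.mem_range.1 (Finset.mem_coe.1 hm')
      have h1 : 2 * m + 1 < 2 ^ (k + 1) := by rw [pow_succ]; omega
      have h2 : 2 * m' + 1 < 2 ^ (k + 1) := by rw [pow_succ]; omega
      have := hζ.pow_inj h1 h2 h
      omega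

theorem prod_odd (hζ : IsPrimitiveRoot ζ (2 ^ (k + 1))) (F : ℂ → ℂ) :
    ∏ m ∈ Finset.range (2 ^ k), F (ζ ^ (2 * m + 1)) = ∏ μ ∈ primitiveRoots (2 ^ (k + 1)) ℂ, F μ := by
  classical
  rw [← image_odd hζ, Finset.prod_image]
  intro m hm m' hm' h
  have hm1 := Finset.mem_range.1 (Finset.mem_coe.1 hm)
  have hm2 := Finset.mem_range.1 (Finset.mem_coe.1 hm')
  have h1 : 2 * m + 1 < 2 ^ (k + 1) := by rw [pow_succ]; omega
  have h2 : 2 * m' + 1 < 2 ^ (k + 1) := by rw [pow_succ]; omega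
  have := hζ.pow_inj h1 h2 h
  omega

theorem valA_eq_aeval (ζ : ℂ) (n : ℕ) (a : ℕ → ℤ) (j : ℕ) :
    valA ζ n a j = ∑ e ∈ Finset.range n, (a e : ℂ) * (ζ ^ j) ^ e := by
  rw [valA_def]
  exact Finset.sum_congr rfl fun e _ => by rw [pow_mul]

theorem map_valA (σ : ℂ →+* ℂ) (ζ : ℂ) (n : ℕ) (a : ℕ → ℤ) {j : ℕ} (hσ : σ ζ = ζ ^ j) :
    σ (valA ζ n a 1) = valA ζ n a j := by
  rw [valA_def, valA_def, map_sum]
  refine Finset.sum_congr rfl fun e _ => ?_
  rw [map_mul, map_intCast, map_pow, hσ, one_mul, ← pow_mul]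

/-- All conjugates are nonzero. -/
theorem valA_ne_zero (hζ : IsPrimitiveRoot ζ (2 ^ (k + 1))) {a : ℕ → ℤ}
    (h : valA ζ (2 ^ k) a 1 ≠ 0) (m : ℕ) : valA ζ (2 ^ k) a (2 * m + 1) ≠ 0 := by
  have hcop : (2 * m + 1).Coprime (2 ^ (k + 1)) := by
    refine Nat.Coprime.pow_right _ ?_
    rw [Nat.coprime_two_right]
    exact ⟨m, rfl⟩
  obtain ⟨σ, hσ⟩ := Cfsg.Agent.Characters.Galois.exists_ringEquiv_complex
    (pow_ne_zero (k + 1) (two_ne_zero : (2 : ℕ) ≠ 0)) hcop
  have h1 : σ ζ = ζ ^ (2 * m + 1) := hσ ζ hζ.pow_eq_one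
  rw [← map_valA (σ : ℂ →+* ℂ) ζ (2 ^ k) a h1]
  exact (map_ne_zero (σ : ℂ →+* ℂ)).2 h

theorem isIntegral_valA (hζ : IsPrimitiveRoot ζ (2 ^ (k + 1))) (n : ℕ) (a : ℕ → ℤ) (j : ℕ) :
    IsIntegral ℤ (valA ζ n a j) := by
  rw [valA_def]
  refine IsIntegral.sum _ fun e _ => ?_
  have : IsIntegral ℤ ((a e : ℤ) : ℂ) := isIntegral_algebraMap (x := a e)
  exact this.mul ((isIntegral_root hζ).pow _)

/-- The product of the conjugates is an integer. -/
theorem exists_int_prod (hζ : IsPrimitiveRoot ζ (2 ^ (k + 1))) (a : ℕ → ℤ) :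
    ∃ z : ℤ, ∏ m ∈ Finset.range (2 ^ k), valA ζ (2 ^ k) a (2 * m + 1) = z := by
  refine Cfsg.Agent.Characters.Galois.exists_int_of_forall_ringEquiv
    (IsIntegral.prod _ fun m _ => isIntegral_valA hζ _ _ _) fun σ => ?_
  have h1 : ∏ m ∈ Finset.range (2 ^ k), valA ζ (2 ^ k) a (2 * m + 1) =
      ∏ μ ∈ primitiveRoots (2 ^ (k + 1)) ℂ, ∑ e ∈ Finset.range (2 ^ k), (a e : ℂ) * μ ^ e := by
    rw [← prod_odd hζ]
    exact Finset.prod_congr rfl fun m _ => valA_eq_aeval _ _ _ _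
  rw [h1, map_prod]
  have hN : 0 < 2 ^ (k + 1) := pow_pos (by norm_num) _
  refine Finset.prod_nbij' (fun μ => σ μ) (fun μ => σ.symm μ) ?_ ?_ ?_ ?_ ?_
  · intro μ hμ
    rw [mem_primitiveRoots hN] at hμ ⊢
    exact hμ.map_of_injective (f := (σ : ℂ →+* ℂ)) σ.injective
  · intro μ hμ
    rw [mem_primitiveRoots hN] at hμ ⊢
    exact hμ.map_of_injective (f := (σ.symm : ℂ →+* ℂ)) σ.symm.injective
  · intro μ _
    exact σ.symm_apply_apply μ
  · intro μ _
    exact σ.apply_symm_apply μ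
  · intro μ _
    rw [map_sum]
    refine Finset.sum_congr rfl fun e _ => ?_
    rw [map_mul, map_intCast, map_pow]

/-- Arithmetic-geometric mean for the conjugates. -/
theorem card_le_sum_norm_sq (hζ : IsPrimitiveRoot ζ (2 ^ (k + 1))) {a : ℕ → ℤ}
    (h : valA ζ (2 ^ k) a 1 ≠ 0) :
    ((2 ^ k : ℕ) : ℝ) ≤ ∑ m ∈ Finset.range (2 ^ k), ‖valA ζ (2 ^ k) a (2 * m + 1)‖ ^ 2 := by
  obtain ⟨z, hz⟩ := exists_int_prod hζ a
  have hz0 : z ≠ 0 := by
    rintro rfl
    rw [Int.cast_zero, Finset.prod_eq_zero_iff] at hz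
    obtain ⟨m, -, hm⟩ := hz
    exact valA_ne_zero hζ h m hm
  have h1 : 1 ≤ ∏ m ∈ Finset.range (2 ^ k), ‖valA ζ (2 ^ k) a (2 * m + 1)‖ ^ 2 := by
    rw [Finset.prod_pow, ← norm_prod, hz]
    have h2 : (1 : ℝ) ≤ ‖((z : ℤ) : ℂ)‖ := by
      rw [Complex.norm_intCast]
      exact_mod_cast Int.one_le_abs hz0
    nlinarith
  have hN : (0 : ℝ) < ((2 ^ k : ℕ) : ℝ) := by positivity
  have h2 := Real.geom_mean_le_arith_mean_weighted (Finset.range (2 ^ k))
    (fun _ => (((2 ^ k : ℕ) : ℝ))⁻¹) (fun m => ‖valA ζ (2 ^ k) a (2 * m + 1)‖ ^ 2)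
    (fun _ _ => inv_nonneg.2 hN.le)
    (by rw [Finset.sum_const, Finset.card_range, nsmul_eq_mul, mul_inv_cancel₀ hN.ne'])
    (fun _ _ => by positivity)
  rw [Real.finsetProd_rpow _ _ (fun _ _ => by positivity), ← Finset.mul_sum] at h2
  have h3 : (1 : ℝ) ≤ (∏ m ∈ Finset.range (2 ^ k), ‖valA ζ (2 ^ k) a (2 * m + 1)‖ ^ 2) ^
      (((2 ^ k : ℕ) : ℝ))⁻¹ := Real.one_le_rpow h1 (inv_nonneg.2 hN.le)
  have h4 := h3.trans h2
  rw [← div_eq_inv_mul, le_div_iff₀ hN, one_mul] at h4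
  exact h4

/-- The bound for a value divisible by `2 ^ i` locally. -/
theorem le_sum_norm_sq (hM : IsPModular 2 M) (hζ : IsPrimitiveRoot ζ (2 ^ (k + 1))) {i : ℕ}
    {a : ℕ → ℤ} (h : MemLocalRing M (valA ζ (2 ^ k) a 1 / 2 ^ i))
    (h0 : valA ζ (2 ^ k) a 1 ≠ 0) :
    (4 : ℝ) ^ i * ((2 ^ k : ℕ) : ℝ) ≤
      ∑ m ∈ Finset.range (2 ^ k), ‖valA ζ (2 ^ k) a (2 * m + 1)‖ ^ 2 := by
  let b : ℕ → ℤ := fun e => a e / 2 ^ i
  have h3 : ∀ e < 2 ^ k, a e = 2 ^ i * b e := fun e he =>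
    (Int.mul_ediv_cancel' (pow_dvd_of_memLocalRing hM hζ i h he)).symm
  have h5 : ∀ j, valA ζ (2 ^ k) a j = ((2 ^ i : ℤ) : ℂ) * valA ζ (2 ^ k) b j := by
    intro j
    rw [← valA_mul]
    exact valA_congr _ _ h3 j
  have hb0 : valA ζ (2 ^ k) b 1 ≠ 0 := by
    intro hb
    rw [h5, hb, mul_zero] at h0
    exact h0 rfl
  have h6 := card_le_sum_norm_sq hζ hb0
  have h7 : ∀ m, ‖valA ζ (2 ^ k) a (2 * m + 1)‖ ^ 2 =
      (4 : ℝ) ^ i * ‖valA ζ (2 ^ k) b (2 * m + 1)‖ ^ 2 := by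
    intro m
    rw [h5, norm_mul, mul_pow]
    congr 1
    push_cast
    rw [norm_pow, ← pow_mul, mul_comm i 2, pow_mul]
    norm_num
  simp only [h7]
  rw [← Finset.mul_sum]
  exact mul_le_mul_of_nonneg_left h6 (by positivity)

/-- Coordinates. -/
theorem exists_coords (hζ : IsPrimitiveRoot ζ (2 ^ (k + 1))) {ι : Type*} (s : Finset ι) (c : ι → ℤ)
    (w : ι → ℂ) (hw : ∀ i ∈ s, w i ^ (2 ^ (k + 1)) = 1) :
    ∃ a : ℕ → ℤ, ∀ m : ℕ, ∑ i ∈ s, (c i : ℂ) * w i ^ (2 * m + 1) =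
      valA ζ (2 ^ k) a (2 * m + 1) := by
  classical
  induction s using Finset.induction_on with
  | empty =>
    refine ⟨fun _ => 0, fun m => ?_⟩
    rw [Finset.sum_empty, valA_def]
    exact (Finset.sum_eq_zero fun e _ => by rw [Int.cast_zero, zero_mul]).symm
  | insert i s hi ih =>
    obtain ⟨a, ha⟩ := ih fun j hj => hw j (Finset.mem_insert_of_mem hj)
    have hone : ∃ a' : ℕ → ℤ, ∀ m : ℕ, (c i : ℂ) * w i ^ (2 * m + 1) =
        valA ζ (2 ^ k) a' (2 * m + 1) := by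
      obtain ⟨t, ht, hwt⟩ := hζ.eq_pow_of_pow_eq_one (hw i (Finset.mem_insert_self _ _))
      rw [pow_succ] at ht
      by_cases htn : t < 2 ^ k
      · refine ⟨fun e => if e = t then c i else 0, fun m => ?_⟩
        rw [valA_def, Finset.sum_eq_single t]
        · rw [if_pos rfl, ← hwt, ← pow_mul, mul_comm t]
        · intro e _ he
          rw [if_neg he, Int.cast_zero, zero_mul]
        · intro h
          exact absurd (Finset.mem_range.2 htn) h
      · refine ⟨fun e => if e = t - 2 ^ k then -c i else 0, fun m => ?_⟩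
        rw [valA_def, Finset.sum_eq_single (t - 2 ^ k)]
        · rw [if_pos rfl, ← hwt, ← pow_mul]
          have h1 : t * (2 * m + 1) = 2 ^ k * (2 * m + 1) + (2 * m + 1) * (t - 2 ^ k) := by
            have h2 : t = 2 ^ k + (t - 2 ^ k) := by omega
            conv_lhs => rw [h2]
            ring
          rw [h1, pow_add, pow_mul, pow_half hζ, Odd.neg_one_pow ⟨m, rfl⟩]
          push_cast
          ring
        · intro e _ he
          rw [if_neg he, Int.cast_zero, zero_mul]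
        · intro h
          exact absurd (Finset.mem_range.2 (by omega)) h
    obtain ⟨a', ha'⟩ := hone
    refine ⟨fun e => a' e + a e, fun m => ?_⟩
    rw [Finset.sum_insert hi, valA_add, ha, ha']

end Cfsg.Agent.H624.TTwo
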